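import Cfsg.Agent.UGT.Q2.Transfer
import Cfsg.Agent.UGT.TriBase
import Cfsg.Agent.UGT.Parity

/-!
# `a^G ∩ Z(T)`, `T ∈ Syl₂(C(a))` not Sylow in `G` (THEOREM Q2, 3.)

* `exists_norm`: a conjugate of `a` centralised by `T` is a conjugate under `N(T)`.
* `exists_az` = (3.1).
* `false_of_all` = the end of (al).
* `exists_sign` = the transfer of (be) (i).
-/

set_option autoImplicit false

open Subgroup MulAction
open Cfsg.Agent.SignalizersComponents.IntrinsicBasic
open Cfsg.Agent.UGT.TriBase Cfsg.Agent.UGT.Q2.Transfer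

namespace Cfsg.Agent.UGT.Q2.Om

variable {G : Type*} [Group G] [Finite G]

theorem isSyl_cj {E T : Subgroup G} (h : IsSyl E T) (g : G) : IsSyl (cj g E) (cj g T) := by
  refine ⟨isPGroup_cj h.two, cj_mono h.le, fun R h1 h2 h3 => ?_⟩
  have h4 : cj g⁻¹ R = T := by
    refine h.max _ (isPGroup_cj h1) ?_ ?_
    · rw [← cj_inv_cj g E]; exact cj_mono h2
    · rw [← cj_inv_cj g T]; exact cj_mono h3
  rw [← h4, cj_cj_inv]

theorem isSyl_of_card {E T T' : Subgroup G} (h : IsSyl E T) (h1 : IsPGroup 2 ↥T') (h2 : T' ≤ E)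
    (h3 : Nat.card ↥T ≤ Nat.card ↥T') : IsSyl E T' := by
  refine ⟨h1, h2, fun R h4 h5 h6 => ?_⟩
  obtain ⟨g, -, h7⟩ := h.conj h4 h5
  have h8 : Nat.card ↥R ≤ Nat.card ↥T := by
    rw [← card_cj g T]
    exact Nat.le_of_dvd Nat.card_pos (card_dvd_of_le h7)
  exact (Subgroup.eq_of_le_of_card_ge h6 (h8.trans h3)).symm

/-- `T ∈ Syl₂(C(a))` centralises `g a g⁻¹`: then `T ∈ Syl₂(C(g a g⁻¹))`. -/
theorem isSyl_conj {a : G} {T : Subgroup G} (hT : IsSyl (centralizer ({a} : Set G)) T) {g : G}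
    (h : T ≤ centralizer ({g * a * g⁻¹} : Set G)) : IsSyl (centralizer ({g * a * g⁻¹} : Set G)) T := by
  have h1 : IsSyl (centralizer ({g * a * g⁻¹} : Set G)) (cj g T) := by
    rw [← cj_centralizer]
    exact isSyl_cj hT g
  exact isSyl_of_card h1 hT.two h (card_cj g T).le

/-- A conjugate of `a` centralised by `T ∈ Syl₂(C(a))` is a conjugate under `N(T)`. -/
theorem exists_norm {a : G} {T : Subgroup G} (hT : IsSyl (centralizer ({a} : Set G)) T) {g : G}
    (h : T ≤ centralizer ({g * a * g⁻¹} : Set G)) :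
    ∃ n ∈ normalizer (T : Set G), n * a * n⁻¹ = g * a * g⁻¹ := by
  have h1 : IsSyl (centralizer ({g * a * g⁻¹} : Set G)) (cj g T) := by
    rw [← cj_centralizer]
    exact isSyl_cj hT g
  obtain ⟨c, hc, hle⟩ := h1.conj hT.two h
  have h2 : T = cj c (cj g T) := Subgroup.eq_of_le_of_card_ge hle (by rw [card_cj, card_cj])
  refine ⟨c * g, ?_, ?_⟩
  · rw [mem_normalizer_iff_cj, cj_mul]
    exact h2.symm
  · have h3 := mem_centralizer_singleton_iff.mp hc
    calc c * g * a * (c * g)⁻¹ = c * (g * a * g⁻¹) * c⁻¹ := by group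
      _ = g * a * g⁻¹ := by rw [h3]; group

/-- No 2-group properly containing `T` centralises a conjugate of `a`. -/
theorem not_le {a : G} {T R : Subgroup G} (hT : IsSyl (centralizer ({a} : Set G)) T)
    (hR : IsPGroup 2 ↥R) (hlt : T < R) {g : G} : ¬ R ≤ centralizer ({g * a * g⁻¹} : Set G) := by
  intro h
  exact hlt.ne ((isSyl_conj hT (hlt.le.trans h)).max R hR h hlt.le).symm

/-- **(3.1)**: if the transfer of the field part vanishes, `a` and `a z` are conjugate in `N(T)`. -/
theorem exists_az {A : Type*} [CommGroup A] (hG : ∀ f : G →* A, f = 1)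
    (hA : ∀ α β : A, α * α = 1 → β * β = 1 → α ≠ 1 → β ≠ 1 → α = β)
    {a z : G} {T R : Subgroup G} (haa : a * a = 1) (haz : a ≠ z) (ha1 : a ≠ 1)
    (hT : IsSyl (centralizer ({a} : Set G)) T) (hR : IsPGroup 2 ↥R)
    (hRT : R ≤ normalizer (T : Set G)) (hlt : T < R)
    (hz : ∀ n ∈ normalizer (T : Set G), n * z = z * n)
    (lam : ↥(centralizer ({a} : Set G)) →* A)
    (hlam : ∀ (t : G) (ht : t ∈ centralizer ({a} : Set G)), t ∈ T → (∀ s ∈ T, s * t = t * s) →
      t * t = 1 → lam ⟨t, ht⟩ = 1 → t = 1 ∨ t = a ∨ t = z ∨ t = a * z)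
    (hla : ∀ (h : a ∈ centralizer ({a} : Set G)), lam ⟨a, h⟩ = 1) :
    ∃ n ∈ normalizer (T : Set G), n * a * n⁻¹ = a * z := by
  classical
  have hp : Fact (Nat.Prime 2) := ⟨Nat.prime_two⟩
  by_contra hno
  push Not at hno
  have haC : a ∈ centralizer ({a} : Set G) := mem_centralizer_singleton_iff.mpr rfl
  have hTa : T ≤ centralizer ({a} : Set G) := hT.le
  -- the involution `a` lies in `T`
  have haT : a ∈ T := by
    have h1 : IsPGroup 2 ↥(T ⊔ zpowers a) := by
      have h2 : IsPGroup 2 ↥(zpowers a) := by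
        refine IsPGroup.of_card (n := 1) ?_
        rw [Nat.card_zpowers, pow_one]
        exact orderOf_eq_prime (by rw [pow_two]; exact haa) ha1
      refine hT.two.to_sup_of_normal_right' h2 ?_
      intro t ht
      rw [mem_normalizer_iff_cj]
      apply le_antisymm
      · rintro _ ⟨y, hy, rfl⟩
        obtain ⟨k, rfl⟩ := mem_zpowers_iff.mp hy
        have h3 : Commute t a := mem_centralizer_singleton_iff.mp (hTa ht)
        have h4 : (MulAut.conj t).toMonoidHom (a ^ k) = a ^ k := by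
          change t * a ^ k * t⁻¹ = a ^ k
          rw [(h3.zpow_right k).eq]; group
        rw [h4]
        exact hy
      · intro y hy
        rw [mem_cj]
        obtain ⟨k, rfl⟩ := mem_zpowers_iff.mp hy
        have h3 : Commute t a := mem_centralizer_singleton_iff.mp (hTa ht)
        have h4 : t⁻¹ * a ^ k * t = a ^ k := by
          rw [mul_assoc, ← (h3.zpow_right k).eq]; group
        rw [h4]
        exact hy
    have h5 := hT.max _ h1 (sup_le hTa (by rw [zpowers_le]; exact haC)) le_sup_left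
    rw [← h5]
    exact (le_sup_right : zpowers a ≤ T ⊔ zpowers a) (mem_zpowers a)
  -- the number of points fixed by `T` is even
  have hfix : Even (Nat.card {ω : G ⧸ centralizer ({a} : Set G) // ∀ t ∈ T, t • ω = ω}) := by
    have hst : ∀ (r : ↥R) (ω : G ⧸ centralizer ({a} : Set G)), (∀ t ∈ T, t • ω = ω) →
        ∀ t ∈ T, t • ((r : G) • ω) = (r : G) • ω := by
      intro r ω h t ht
      have h1 : (r : G)⁻¹ * t * r ∈ T := by
        have h2 := (mem_normalizer_iff.mp ((normalizer (T : Set G)).inv_mem (hRT r.2)) t).mp ht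
        rwa [inv_inv] at h2
      have h2 : t * (r : G) = r * ((r : G)⁻¹ * t * r) := by group
      rw [← mul_smul, h2, mul_smul, h _ h1]
    let _ : MulAction ↥R {ω : G ⧸ centralizer ({a} : Set G) // ∀ t ∈ T, t • ω = ω} :=
      { smul := fun r ω => ⟨(r : G) • ω.1, hst r ω.1 ω.2⟩
        one_smul := fun ω => Subtype.ext (one_smul G ω.1)
        mul_smul := fun s t ω => Subtype.ext (mul_smul (s : G) (t : G) ω.1) }
    have h1 := hR.card_modEq_card_fixedPoints
      {ω : G ⧸ centralizer ({a} : Set G) // ∀ t ∈ T, t • ω = ω}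
    have h2 : IsEmpty (MulAction.fixedPoints ↥R
        {ω : G ⧸ centralizer ({a} : Set G) // ∀ t ∈ T, t • ω = ω}) := by
      constructor
      rintro ⟨⟨ω, h3⟩, h4⟩
      obtain ⟨g, rfl⟩ := QuotientGroup.mk_surjective ω
      apply not_le hT hR hlt (g := g)
      intro r hr
      have h5 : r • (g : G ⧸ centralizer ({a} : Set G)) = g := congrArg Subtype.val (h4 ⟨r, hr⟩)
      rw [smul_mk_iff] at h5
      rw [← cj_centralizer, mem_cj]
      exact h5
    rw [Nat.card_of_isEmpty (α := MulAction.fixedPoints ↥R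
        {ω : G ⧸ centralizer ({a} : Set G) // ∀ t ∈ T, t • ω = ω})] at h1
    exact Nat.even_iff.mpr h1
  -- the transfer
  have htr := even_card_fixed (Ω := G ⧸ centralizer ({a} : Set G)) hG hA (isChar_evOf lam) haa hT.two hTa
  have hset : {ω : G ⧸ centralizer ({a} : Set G) | ∀ t ∈ T, t • ω = ω} =
      insert ((1 : G) : G ⧸ centralizer ({a} : Set G))
        {ω | (a • ω = ω ∧ evOf lam ω a ≠ 1) ∧ ∀ t ∈ T, t • ω = ω} := by
    ext ω
    simp only [Set.mem_ofPred_eq, Set.mem_insert_iff]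
    constructor
    · intro h
      by_cases h1 : ω = ((1 : G) : G ⧸ centralizer ({a} : Set G))
      · exact Or.inl h1
      refine Or.inr ⟨⟨h a haT, fun h2 => h1 ?_⟩, h⟩
      obtain ⟨g, rfl⟩ := QuotientGroup.mk_surjective ω
      have h3 : T ≤ centralizer ({g * a * g⁻¹} : Set G) := by
        intro t ht
        rw [← cj_centralizer, mem_cj]
        exact smul_mk_iff.mp (h t ht)
      obtain ⟨n, hn, h4⟩ := exists_norm hT h3
      -- replace `g` by `n`
      have h5 : (g : G ⧸ centralizer ({a} : Set G)) = n := by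
        rw [QuotientGroup.eq, mem_centralizer_singleton_iff]
        have h6 : g⁻¹ * (n * a * n⁻¹) * n = g⁻¹ * (g * a * g⁻¹) * n := by rw [h4]
        calc g⁻¹ * n * a = g⁻¹ * (n * a * n⁻¹) * n := by group
          _ = g⁻¹ * (g * a * g⁻¹) * n := h6
          _ = a * (g⁻¹ * n) := by group
      change (g : G ⧸ centralizer ({a} : Set G)) = _
      change evOf lam (g : G ⧸ centralizer ({a} : Set G)) a = 1 at h2
      rw [h5] at h2 ⊢
      have hninv := (normalizer (T : Set G)).inv_mem hn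
      have h7 : n⁻¹ * a * n ∈ T := by
        have h8 := (mem_normalizer_iff.mp hninv a).mp haT
        rwa [inv_inv] at h8
      have h7C := hTa h7
      rw [evOf_mk lam h7C] at h2
      have hcen : ∀ s ∈ T, s * (n⁻¹ * a * n) = n⁻¹ * a * n * s := by
        intro s hs
        have h8 : n * s * n⁻¹ ∈ T := (mem_normalizer_iff.mp hn s).mp hs
        have h9 := mem_centralizer_singleton_iff.mp (hTa h8)
        calc s * (n⁻¹ * a * n) = n⁻¹ * (n * s * n⁻¹ * a) * n := by group
          _ = n⁻¹ * (a * (n * s * n⁻¹)) * n := by rw [h9]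
          _ = n⁻¹ * a * n * s := by group
      have hsq : n⁻¹ * a * n * (n⁻¹ * a * n) = 1 := by
        calc n⁻¹ * a * n * (n⁻¹ * a * n) = n⁻¹ * (a * a) * n := by group
          _ = 1 := by rw [haa]; group
      have hzn := hz n hn
      have hback : a = n * (n⁻¹ * a * n) * n⁻¹ := by group
      rcases hlam _ h7C h7 hcen hsq h2 with h8 | h8 | h8 | h8
      · exfalso
        rw [h8] at hback
        apply ha1
        rw [hback]; group
      · rw [QuotientGroup.eq, mem_centralizer_singleton_iff]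
        have h9 : a * n = n * a := by
          calc a * n = n * (n⁻¹ * a * n) := by group
            _ = n * a := by rw [h8]
        rw [mul_one]
        calc n⁻¹ * a = n⁻¹ * (a * n) * n⁻¹ := by group
          _ = n⁻¹ * (n * a) * n⁻¹ := by rw [h9]
          _ = a * n⁻¹ := by group
      · exfalso
        rw [h8] at hback
        apply haz
        rw [hback, hzn]; group
      · exfalso
        rw [h8] at hback
        apply hno n⁻¹ hninv
        rw [inv_inv]
        exact h8
    · rintro (h | h)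
      · rw [h]
        intro t ht
        rw [smul_mk_iff]
        simpa using hTa ht
      · exact h.2
  have hnot : ((1 : G) : G ⧸ centralizer ({a} : Set G)) ∉
      {ω : G ⧸ centralizer ({a} : Set G) | (a • ω = ω ∧ evOf lam ω a ≠ 1) ∧ ∀ t ∈ T, t • ω = ω} := by
    rintro ⟨⟨-, h⟩, -⟩
    have h1 : (1 : G)⁻¹ * a * 1 ∈ centralizer ({a} : Set G) := by simpa using haC
    apply h
    rw [evOf_mk lam h1]
    have h2 : (⟨(1 : G)⁻¹ * a * 1, h1⟩ : ↥(centralizer ({a} : Set G))) = ⟨a, haC⟩ :=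
      Subtype.ext (by simp)
    rw [h2]
    exact hla haC
  have h1 : Nat.card {ω : G ⧸ centralizer ({a} : Set G) // ∀ t ∈ T, t • ω = ω} =
      Nat.card {ω : G ⧸ centralizer ({a} : Set G) //
        (a • ω = ω ∧ evOf lam ω a ≠ 1) ∧ ∀ t ∈ T, t • ω = ω} + 1 := by
    have h2 := congrArg Set.ncard hset
    rw [Set.ncard_insert_of_notMem hnot (Set.toFinite _)] at h2
    rwa [← Nat.card_coe_set_eq, ← Nat.card_coe_set_eq] at h2
  rw [h1, Nat.even_add_one] at hfix
  exact hfix htr

omit [Finite G] in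
/-- an element of a 2-group `R > T`, `T ⊴ R`, with square in `T` -/
theorem exists_sq {T R : Subgroup G} (hR : IsPGroup 2 ↥R) (hlt : T < R) :
    ∃ n ∈ R, n ∉ T ∧ n * n ∈ T := by
  obtain ⟨r, hr, hrT⟩ := SetLike.exists_of_lt hlt
  obtain ⟨k, hk⟩ := hR ⟨r, hr⟩
  have hk' : r ^ 2 ^ k ∈ T := by
    have : r ^ 2 ^ k = 1 := congrArg Subtype.val hk
    rw [this]
    exact T.one_mem
  clear hk
  induction k generalizing r with
  | zero => exact absurd (by simpa using hk') hrT
  | succ k ih =>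
    by_cases h : r * r ∈ T
    · exact ⟨r, hr, hrT, h⟩
    · refine ih (r * r) (R.mul_mem hr hr) h ?_
      rw [← pow_two, ← pow_mul, ← pow_succ']
      exact hk'

/-- **The end of (al)**: not all elements of `Z(T) ∖ ⟨z⟩` are conjugate to `a`. -/
theorem false_of_all {a z : G} {T R Z : Subgroup G}
    (hT : IsSyl (centralizer ({a} : Set G)) T) (hR : IsPGroup 2 ↥R)
    (hRT : R ≤ normalizer (T : Set G)) (hlt : T < R) (hRz : ∀ r ∈ R, r * z = z * r)
    (hZT : ∀ u ∈ Z, ∀ t ∈ T, t * u = u * t) (hZ2 : ∀ u ∈ Z, u * u = 1)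
    (hZR : ∀ r ∈ R, ∀ u ∈ Z, r * u * r⁻¹ ∈ Z) (hzZ : z ∈ Z) (h8 : 4 < Nat.card ↥Z)
    (hall : ∀ u ∈ Z, u ≠ 1 → u ≠ z → ∃ g, u = g * a * g⁻¹) : False := by
  classical
  obtain ⟨n, hnR, hnT, hnn⟩ := exists_sq hR hlt
  -- `n` fixes no element of `Z ∖ ⟨z⟩`
  have hfix : ∀ u ∈ Z, n * u = u * n → u = 1 ∨ u = z := by
    intro u hu hnu
    by_contra hcon
    push Not at hcon
    obtain ⟨g, rfl⟩ := hall u hu hcon.1 hcon.2
    have h1 : T ⊔ zpowers n ≤ centralizer ({g * a * g⁻¹} : Set G) := by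
      refine sup_le ?_ ?_
      · intro t ht
        exact mem_centralizer_singleton_iff.mpr (hZT _ hu t ht)
      · rw [zpowers_le]
        exact mem_centralizer_singleton_iff.mpr hnu
    have h2 : T ⊔ zpowers n ≤ R := sup_le hlt.le (by rw [zpowers_le]; exact hnR)
    have h3 : T < T ⊔ zpowers n := by
      refine lt_of_le_of_ne le_sup_left fun h => hnT ?_
      rw [h]
      exact (le_sup_right : zpowers n ≤ T ⊔ zpowers n) (mem_zpowers n)
    exact not_le hT (hR.to_le h2) h3 h1
  have hinv : ∀ u ∈ Z, u⁻¹ = u := fun u hu => inv_eq_of_mul_eq_one_left (hZ2 u hu)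
  have hcomm : ∀ u ∈ Z, ∀ v ∈ Z, u * v = v * u := by
    intro u hu v hv
    have h1 := hinv _ (Z.mul_mem hu hv)
    rw [mul_inv_rev, hinv u hu, hinv v hv] at h1
    exact h1.symm
  -- `n` acts as the transvection `u ↦ u z`
  have htv : ∀ u ∈ Z, u ≠ 1 → u ≠ z → n * u * n⁻¹ = u * z := by
    intro u hu h1 h2
    have h3 : n * u * n⁻¹ ∈ Z := hZR n hnR u hu
    have h4 : n * (u * (n * u * n⁻¹)) = u * (n * u * n⁻¹) * n := by
      have h5 : (n * n) * u = u * (n * n) := hZT u hu _ hnn
      calc n * (u * (n * u * n⁻¹)) = (n * u * n⁻¹) * ((n * n) * u) * n⁻¹ := by group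
        _ = (n * u * n⁻¹) * u * n := by rw [h5]; group
        _ = u * (n * u * n⁻¹) * n := by rw [hcomm _ h3 u hu]
    rcases hfix _ (Z.mul_mem hu h3) h4 with h5 | h5
    · exfalso
      have h6 : n * u * n⁻¹ = u := by
        rw [← inv_eq_of_mul_eq_one_right h5, inv_eq_of_mul_eq_one_left (hZ2 u hu)]
      have h7 : n * u = u * n := by
        calc n * u = n * u * n⁻¹ * n := by group
          _ = u * n := by rw [h6]
      rcases hfix u hu h7 with h8 | h8
      · exact h1 h8
      · exact h2 h8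
    · calc n * u * n⁻¹ = u⁻¹ * (u * (n * u * n⁻¹)) := by group
        _ = u * z := by rw [h5, inv_eq_of_mul_eq_one_left (hZ2 u hu)]
  -- two independent elements modulo `⟨z⟩`
  obtain ⟨u, hu, hu1, huz⟩ : ∃ u ∈ Z, u ≠ 1 ∧ u ≠ z := by
    by_contra hno
    push Not at hno
    have h1 : (Z : Set G) ⊆ (({1, z} : Finset G) : Set G) := by
      intro u hu
      by_cases h : u = 1
      · simp [h]
      · simp [hno u hu h]
    have h2 : Nat.card ↥Z ≤ 2 := by
      have h3 := Set.ncard_le_ncard h1 (Finset.finite_toSet _)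
      rw [Set.ncard_coe_finset, ← Nat.card_coe_set_eq] at h3
      exact h3.trans (Finset.card_insert_le _ _)
    omega
  obtain ⟨v, hv, hv1, hvz, hvu, hvuz⟩ : ∃ v ∈ Z, v ≠ 1 ∧ v ≠ z ∧ v ≠ u ∧ v ≠ u * z := by
    by_contra hno
    push Not at hno
    have h1 : (Z : Set G) ⊆ (({1, z, u, u * z} : Finset G) : Set G) := by
      intro v hv
      by_cases h1 : v = 1
      · simp [h1]
      by_cases h2 : v = z
      · simp [h2]
      by_cases h3 : v = u
      · simp [h3]
      · simp [hno v hv h1 h2 h3]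
    have h2 : Nat.card ↥Z ≤ 4 := by
      have h3 := Set.ncard_le_ncard h1 (Finset.finite_toSet _)
      rw [Set.ncard_coe_finset, ← Nat.card_coe_set_eq] at h3
      refine h3.trans ?_
      have h4 := Finset.card_insert_le (1 : G) {z, u, u * z}
      have h5 := Finset.card_insert_le z ({u, u * z} : Finset G)
      have h6 := Finset.card_insert_le u ({u * z} : Finset G)
      have h7 := Finset.card_singleton (u * z)
      omega
    omega
  have huv : u * v ≠ 1 := by
    intro h
    apply hvu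
    rw [← inv_eq_of_mul_eq_one_right h, inv_eq_of_mul_eq_one_left (hZ2 u hu)]
  have huvz : u * v ≠ z := by
    intro h
    apply hvuz
    calc v = u⁻¹ * (u * v) := by group
      _ = u * z := by rw [h, inv_eq_of_mul_eq_one_left (hZ2 u hu)]
  have h1 := htv _ (Z.mul_mem hu hv) huv huvz
  have h2 := htv u hu hu1 huz
  have h3 := htv v hv hv1 hvz
  have h4 : n * (u * v) * n⁻¹ = u * v := by
    calc n * (u * v) * n⁻¹ = (n * u * n⁻¹) * (n * v * n⁻¹) := by group
      _ = u * z * (v * z) := by rw [h2, h3]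
      _ = u * (z * v) * z := by group
      _ = u * (v * z) * z := by rw [hcomm z hzZ v hv]
      _ = u * v * (z * z) := by group
      _ = u * v := by rw [hZ2 z hzZ, mul_one]
  rw [h4] at h1
  have hz1 : z = 1 := (mul_eq_left.mp h1.symm)
  have hz2 := hfix z hzZ (hRz n hnR)
  -- `z = 1`: then `n u n⁻¹ = u`
  rw [hz1, mul_one] at h2
  have h7 : n * u = u * n := by
    calc n * u = n * u * n⁻¹ * n := by group
      _ = u * n := by rw [h2]
  rcases hfix u hu h7 with h8 | h8
  · exact hu1 h8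
  · exact huz h8

/-- **The transfer of (be) (i)**: `a` is odd on the point `z` and even on all other points of `z^G ∩ C(T)`. -/
theorem exists_sign {a z : G} {T : Subgroup G} (haa : a * a = 1) (hT2 : IsPGroup 2 ↥T)
    (hTa : T ≤ centralizer ({a} : Set G)) (hTz : T ≤ centralizer ({z} : Set G))
    (haz : a ∈ centralizer ({z} : Set G)) (lam : ↥(centralizer ({z} : Set G)) →* ℤˣ)
    (h1 : lam ⟨a, haz⟩ = -1)
    (h2 : ∀ (g : G) (h : g⁻¹ * a * g ∈ centralizer ({z} : Set G)),
      T ≤ centralizer ({g * z * g⁻¹} : Set G) → g * z * g⁻¹ ≠ z → lam ⟨_, h⟩ = 1) :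
    ∃ f : G →* ℤˣ, f a = -1 := by
  classical
  have hpar : Cfsg.Agent.UGT.Parity.IsParity (Ω := G ⧸ centralizer ({z} : Set G))
      (fun ω g => evOf lam ω g = 1) := by
    have hch := isChar_evOf lam
    constructor
    · intro ω g h hg hh
      have h3 := hch.mul ω g h hg hh
      change evOf lam ω (g * h) = 1 ↔ (evOf lam ω g = 1 ↔ evOf lam ω h = 1)
      rw [h3]
      rcases Int.units_eq_one_or (evOf lam ω g) with h4 | h4 <;>
        rcases Int.units_eq_one_or (evOf lam ω h) with h5 | h5 <;> rw [h4, h5] <;> decide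
    · intro ω g h hh
      change evOf lam (g • ω) (g * h * g⁻¹) = 1 ↔ evOf lam ω h = 1
      rw [hch.conj ω g h hh]
  obtain ⟨f, hf⟩ := Cfsg.Agent.UGT.Parity.exists_hom_fixed hpar
  refine ⟨f, ?_⟩
  rw [hf a T haa hT2 hTa]
  have h3 : Nat.card {ω : G ⧸ centralizer ({z} : Set G) //
      (a • ω = ω ∧ ¬ evOf lam ω a = 1) ∧ ∀ t ∈ T, t • ω = ω} = 1 := by
    rw [Nat.card_eq_one_iff_unique]
    have key : ∀ ω : G ⧸ centralizer ({z} : Set G),
        ((a • ω = ω ∧ ¬ evOf lam ω a = 1) ∧ ∀ t ∈ T, t • ω = ω) →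
        ω = ((1 : G) : G ⧸ centralizer ({z} : Set G)) := by
      rintro ω ⟨⟨h4, h5⟩, h6⟩
      obtain ⟨g, rfl⟩ := QuotientGroup.mk_surjective ω
      have h4' := smul_mk_iff.mp h4
      have h7 : T ≤ centralizer ({g * z * g⁻¹} : Set G) := by
        intro t ht
        rw [← cj_centralizer, mem_cj]
        exact smul_mk_iff.mp (h6 t ht)
      by_contra hne
      have h8 : g * z * g⁻¹ ≠ z := by
        intro h9
        apply hne
        change (g : G ⧸ centralizer ({z} : Set G)) = _
        rw [eq_comm, QuotientGroup.eq, mem_centralizer_singleton_iff, inv_one, one_mul]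
        calc g * z = g * z * g⁻¹ * g := by group
          _ = z * g := by rw [h9]
      apply h5
      change evOf lam (g : G ⧸ centralizer ({z} : Set G)) a = 1
      rw [evOf_mk lam h4']
      exact h2 g h4' h7 h8
    refine ⟨⟨fun α β => Subtype.ext ((key _ α.2).trans (key _ β.2).symm)⟩,
      ⟨⟨((1 : G) : G ⧸ centralizer ({z} : Set G)), ⟨⟨?_, ?_⟩, ?_⟩⟩⟩⟩
    · rw [smul_mk_iff]
      simpa using haz
    · have h4 : (1 : G)⁻¹ * a * 1 ∈ centralizer ({z} : Set G) := by simpa using haz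
      rw [evOf_mk lam h4]
      have h5 : (⟨(1 : G)⁻¹ * a * 1, h4⟩ : ↥(centralizer ({z} : Set G))) = ⟨a, haz⟩ :=
        Subtype.ext (by simp)
      rw [h5, h1]
      decide
    · intro t ht
      rw [smul_mk_iff]
      simpa using hTz ht
  rw [h3, pow_one]

end Cfsg.Agent.UGT.Q2.Om
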