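import Cfsg.Agent.UGT.Q2.Full
import Cfsg.Agent.UGT.Q2.Om
import Cfsg.Agent.UGT.PumpGen

/-!
# `|Q| = 2`: (G3), (G4) and the choice of the triple (#13814, #14144)

`TypesHyp`, `GlueHyp`, `LineHyp`, `FullHyp`: the four inputs. `no_triple`: there is no inner triple of type `L2q q`.
-/

set_option autoImplicit false

open Cfsg Subgroup
open Cfsg.Agent.SignalizersComponents Cfsg.Agent.Lib
open Cfsg.Agent.SignalizersComponents.IntrinsicBasic
open Cfsg.Agent.Intrinsic.Basic Cfsg.Agent.Intrinsic.Cen Cfsg.Agent.Intrinsic.Diag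
open Cfsg.Agent.McLLyComp.Act
open Cfsg.Agent.UGT.Triple Cfsg.Agent.UGT.TriBase Cfsg.Agent.UGT.Iface Cfsg.Agent.UGT.L2Inner

namespace Cfsg.Agent.UGT.Q2

universe u

/-! ### inputs -/

/-- inner triples of type `L2q q` -/
def Inn {G : Type u} [Group G] (q : ℕ) (x a : G) (L : Subgroup G) : Prop :=
  IsTriple x a L ∧ L2q q L ∧ IsInner x L

def TypesHyp (G : Type u) [Group G] (q : ℕ) : Prop :=
  ∀ (a b z f v u : G) (L T Mf Me : Subgroup G) (F : Type) (_ : Field F) (_ : Finite F)
    (R : GH.L2Aut.Rep F (↥L ⧸ oddCore ↥L)), Full a b z f v u L T Mf Me R → Nat.card F = q →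
    ∀ (y : G) (M : Subgroup G), (y = f ∨ y = f * a ∨ y = f * z ∨ y = f * (a * z)) → IsMc L y M → z ∈ M →
    ∀ (M' : Subgroup G) (q0 : ℕ),
      IsComp (centralizer ({a * z} : Set G) ⊓ centralizer ({y} : Set G)) M' → z ∈ M' →
      L2q q0 M' → q0 ^ 2 = q →
      (∃ x' K, Inn q x' y K) ∨
        ∃ K, IsD a y M K ∧ ∃ h ∈ centralizer ({y} : Set G), h * a * h⁻¹ = a * z

def GlueHyp (G : Type u) [Group G] (q : ℕ) : Prop :=
  ∀ (a b z f v u : G) (L T Mf Me : Subgroup G) (F : Type) (_ : Field F) (_ : Finite F)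
    (R : GH.L2Aut.Rep F (↥L ⧸ oddCore ↥L)), Full a b z f v u L T Mf Me R → Nat.card F = q →
    ∀ s ∈ normalizer (T : Set G), s * a * s⁻¹ = a * z →
      ∃ y, (y = f ∨ y = f * a) ∧ (∃ I, IsD a y Mf I) ∧ ∃ J, IsD a (y * z) Me J

def LineHyp (G : Type u) [Group G] (q : ℕ) : Prop :=
  ∀ (a b z f v u : G) (L Mf Me I J : Subgroup G) (F : Type) (_ : Field F) (_ : Finite F)
    (R : GH.L2Aut.Rep F (↥L ⧸ oddCore ↥L)), Line a b z f v u L Mf Me R → Nat.card F = q →
    IsD a f Mf I → IsD a (f * z) Me J → False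

def FullHyp (G : Type u) [Group G] (q : ℕ) : Prop :=
  ∀ (x a : G) (L : Subgroup G), Inn q x a L →
    ∃ (b z f v u : G) (T Mf Me : Subgroup G) (F : Type) (_ : Field F) (_ : Finite F)
      (R : GH.L2Aut.Rep F (↥L ⧸ oddCore ↥L)), Full a b z f v u L T Mf Me R ∧ Nat.card F = q

/-! ### tools -/

section tools

variable {G : Type u} [Group G]

theorem L2q.cj {q : ℕ} {K : Subgroup G} (h : L2q q K) (g : G) : L2q q (IntrinsicBasic.cj g K) := by
  obtain ⟨F, i, j, hq, ⟨R⟩⟩ := h
  refine ⟨F, i, j, hq, ⟨⟨(cjQuot g K).toMonoidHom.comp R.π, ?_, ?_, R.two⟩⟩⟩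
  · exact (cjQuot g K).surjective.comp R.surj
  · intro x
    rw [← R.ker x]
    exact map_eq_one_iff _ (cjQuot g K).injective

/-- `⟨a, z, f⟩` has the eight elements `f ^ i * m`, `m ∈ {1, a, z, a z}` -/
theorem mem_closure_eight {a z f x : G} (haa : a * a = 1) (hzz : z * z = 1) (hff : f * f = 1)
    (hza : z * a = a * z) (hfa : f * a = a * f) (hfz : f * z = z * f) (hx : x ∈ closure {a, z, f}) :
    (x = 1 ∨ x = a ∨ x = z ∨ x = a * z) ∨ (x = f ∨ x = f * a ∨ x = f * z ∨ x = f * (a * z)) := by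
  let B : Subgroup G :=
    { carrier := {x | x = 1 ∨ x = a ∨ x = z ∨ x = a * z}
      one_mem' := Or.inl rfl
      mul_mem' := by
        have e1 : a * (a * z) = z := by rw [← mul_assoc, haa, one_mul]
        have e2 : z * (a * z) = a := by rw [← mul_assoc, hza, mul_assoc, hzz, mul_one]
        have e3 : a * z * a = z := by rw [mul_assoc, hza, e1]
        have e4 : a * z * z = a := by rw [mul_assoc, hzz, mul_one]
        have e5 : a * z * (a * z) = 1 := by rw [← mul_assoc, e3, hzz]
        rintro x y (rfl | rfl | rfl | rfl) (rfl | rfl | rfl | rfl) <;>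
          simp only [Set.mem_ofPred_eq, one_mul, mul_one, haa, hzz, e1, e2, e3, e4, e5, hza, true_or, or_true]
      inv_mem' := by
        rintro x (rfl | rfl | rfl | rfl)
        · left; exact inv_one
        · right; left; exact inv_eq_of_mul_eq_one_left haa
        · right; right; left; exact inv_eq_of_mul_eq_one_left hzz
        · right; right; right
          refine inv_eq_of_mul_eq_one_left ?_
          rw [← mul_assoc, mul_assoc a z a, hza, ← mul_assoc, haa, one_mul, hzz] }
  have hB : ∀ m ∈ B, f * m = m * f := by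
    rintro m (rfl | rfl | rfl | rfl)
    · rw [one_mul, mul_one]
    · exact hfa
    · exact hfz
    · rw [← mul_assoc, hfa, mul_assoc, hfz, mul_assoc]
  have hfB : ∀ m ∈ B, f * m * f = m := by
    intro m hm
    rw [hB m hm, mul_assoc, hff, mul_one]
  let C : Subgroup G :=
    { carrier := {x | x ∈ B ∨ f * x ∈ B}
      one_mem' := Or.inl B.one_mem
      mul_mem' := by
        rintro x y (hx | hx) (hy | hy)
        · exact Or.inl (B.mul_mem hx hy)
        · right
          rw [← mul_assoc, hB x hx, mul_assoc]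
          exact B.mul_mem hx hy
        · right
          rw [← mul_assoc]
          exact B.mul_mem hx hy
        · left
          have h1 : x * y = (f * x) * (f * y) := by
            have h2 : x = f * (f * x) := by rw [← mul_assoc, hff, one_mul]
            calc x * y = f * (f * x) * y := by rw [← h2]
              _ = (f * x) * f * y := by rw [hB _ hx]
              _ = _ := by rw [mul_assoc]
          rw [h1]
          exact B.mul_mem hx hy
      inv_mem' := by
        rintro x (hx | hx)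
        · exact Or.inl (B.inv_mem hx)
        · right
          have h1 : f * x⁻¹ = (f * x)⁻¹ := by
            have h2 := hB _ (B.inv_mem hx)
            rw [mul_inv_rev, inv_eq_of_mul_eq_one_left hff] at h2 ⊢
            -- `f * (x⁻¹ * f) = x⁻¹ * f * f`
            rw [mul_assoc x⁻¹ f f, hff, mul_one] at h2
            calc f * x⁻¹ = f * (f * (x⁻¹ * f)) := by rw [h2]
              _ = x⁻¹ * f := by rw [← mul_assoc, hff, one_mul]
          rw [h1]
          exact B.inv_mem hx }
  have h1 : closure {a, z, f} ≤ C := by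
    rw [closure_le]
    rintro y (rfl | rfl | rfl)
    · exact Or.inl (Or.inr (Or.inl rfl))
    · exact Or.inl (Or.inr (Or.inr (Or.inl rfl)))
    · right
      rw [hff]
      exact B.one_mem
  have key : ∀ m, f * x = m → x = f * m := by
    rintro m rfl
    rw [← mul_assoc, hff, one_mul]
  rcases h1 hx with h2 | (h2 | h2 | h2 | h2)
  · exact Or.inl h2
  · right; left; rw [key _ h2, mul_one]
  · right; right; left; exact key _ h2
  · right; right; right; left; exact key _ h2
  · right; right; right; right; exact key _ h2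

end tools

/-! ### (G4), (G3) -/

section main

variable {G : Type u} [Group G] [Finite G]

omit [Finite G] in
/-- a 2-element normalizing `T` outside `T`: a 2-group of order `2 |T|` -/
theorem two_sup {T : Subgroup G} (hT : IsPGroup 2 ↥T) {s : G} (hs : s ∈ normalizer (T : Set G))
    (hss : s * s ∈ T) : IsPGroup 2 ↥(T ⊔ zpowers s) := by
  refine hT.to_sup_of_normal_left' ?_ (by rwa [zpowers_le])
  intro x
  obtain ⟨n, hn⟩ := mem_zpowers_iff.mp x.2
  obtain ⟨k, hk⟩ := hT ⟨s * s, hss⟩
  have hk' : (s * s) ^ 2 ^ k = 1 := congrArg Subtype.val hk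
  refine ⟨k + 1, Subtype.ext ?_⟩
  change (x : G) ^ 2 ^ (k + 1) = 1
  have h1 : s ^ 2 ^ (k + 1) = 1 := by
    rw [pow_succ', pow_mul, pow_two, hk']
  rw [← hn, ← zpow_natCast, ← zpow_mul, mul_comm, zpow_mul, zpow_natCast, h1, one_zpow]

theorem card_lt_sup {T : Subgroup G} {s : G} (hs : s ∉ T) :
    Nat.card ↥T < Nat.card ↥(T ⊔ zpowers s) := by
  rcases lt_or_ge (Nat.card ↥T) (Nat.card ↥(T ⊔ zpowers s)) with h | h
  · exact h
  · exfalso
    apply hs
    have h1 := Subgroup.eq_of_le_of_card_ge (le_sup_left : T ≤ T ⊔ zpowers s) h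
    rw [h1]
    exact (le_sup_right : zpowers s ≤ T ⊔ zpowers s) (mem_zpowers s)

variable {a b z f v u : G} {L T Mf Me : Subgroup G} {F : Type} [Field F] [Finite F]
  {R : GH.L2Aut.Rep F (↥L ⧸ oddCore ↥L)}

omit [Finite G] in
theorem Sit.l2q (_S : Sit a b z f L T R) : L2q (Nat.card F) L := ⟨F, inferInstance, inferInstance, rfl, ⟨R⟩⟩

theorem Sit.a_ne_z (S : Sit a b z f L T R) : a ≠ z := by
  rintro rfl
  exact not_fixes_of_mem S.l2q.l2T S.zL S.zz S.z1 (fixes_self' S.tr.comp.le)

/-- `f` is not in `⟨a, z⟩` -/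
theorem Sit.f_ne (S : Sit a b z f L T R) : ∀ m, (m = 1 ∨ m = a ∨ m = z ∨ m = a * z) → f ≠ m := by
  rintro m hm rfl
  obtain ⟨h, hf⟩ := S.ft
  apply hf
  have hLa : Fixes a L := fixes_self' S.tr.comp.le
  have hin : ∃ r ∈ L, Fixes (f * r⁻¹) L := by
    rcases hm with h1 | h1 | h1 | h1
    · exact ⟨1, L.one_mem, by rw [h1, inv_one, one_mul]; exact fixes_self' fun x _ => mem_c (by rw [one_mul, mul_one])⟩
    · exact ⟨1, L.one_mem, by rw [inv_one, mul_one, h1]; exact hLa⟩
    · exact ⟨z, S.zL, by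
        rw [h1, mul_inv_cancel]
        exact fixes_self' fun x _ => mem_c (by rw [one_mul, mul_one])⟩
    · exact ⟨z, S.zL, by rw [h1, mul_inv_cancel_right]; exact hLa⟩
  obtain ⟨r, hr, hfx⟩ := hin
  have h2 : act L ⟨f, h⟩ = act L ⟨r, le_normalizer hr⟩ := by
    have h3 : (⟨f, h⟩ : ↥(normalizer (L : Set G))) = ⟨f * r⁻¹, hfx.1⟩ * ⟨r, le_normalizer hr⟩ :=
      Subtype.ext (by change f = f * r⁻¹ * r; group)
    rw [h3, map_mul, (act_eq_one_iff hfx.1).mpr hfx, one_mul]
  rw [h2, act_of_mem hr]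
  exact R.mem_PGL_iff_fld.mp (R.conj_mem_PGL _)

/-- the 2-component `M_w` of `L ∩ C(w)`, `w ∈ f⟨a, z⟩` -/
theorem Full.exists_mc (S : Full a b z f v u L T Mf Me R) {w : G}
    (hw : w = f ∨ w = f * a ∨ w = f * z ∨ w = f * (a * z)) :
    ∃ M, (M = Mf ∨ M = Me) ∧ IsMc L w M ∧ z ∈ M := by
  have key : ∀ y, L ⊓ centralizer ({y * a} : Set G) = L ⊓ centralizer ({y} : Set G) := by
    intro y
    ext x
    rw [mem_inf, mem_inf, mem_centralizer_singleton_iff, mem_centralizer_singleton_iff]
    refine and_congr_right fun hx => ?_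
    have hxa : x * a = a * x := comm_c (S.tr.comp.le hx)
    constructor
    · intro h
      have h1 : x * y * a = y * x * a := by
        rw [mul_assoc, h, mul_assoc, ← hxa, ← mul_assoc]
      exact mul_right_cancel h1
    · intro h
      rw [← mul_assoc, h, mul_assoc, hxa, mul_assoc]
  rcases hw with rfl | rfl | rfl | rfl
  · exact ⟨Mf, Or.inl rfl, S.mf, S.zf⟩
  · refine ⟨Mf, Or.inl rfl, ?_, S.zf⟩
    unfold IsMc
    rw [key]
    exact S.mf
  · exact ⟨Me, Or.inr rfl, S.me, S.ze⟩
  · refine ⟨Me, Or.inr rfl, ?_, S.ze⟩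
    unfold IsMc
    rw [← S.za, ← mul_assoc, key]
    exact S.me

/-- the commuting relations in `⟨a, z, f⟩` -/
theorem Sit.comm_eight (S : Sit a b z f L T R) {x : G}
    (hx : (x = 1 ∨ x = a ∨ x = z ∨ x = a * z) ∨ (x = f ∨ x = f * a ∨ x = f * z ∨ x = f * (a * z))) :
    x * a = a * x ∧ x * z = z * x ∧ x * f = f * x ∧ x ∈ T := by
  have hza := S.za
  have hfa := S.fa
  have hfz := S.fz
  have hT : x ∈ T := by
    have haT := S.aT
    rcases hx with (rfl | rfl | rfl | rfl) | (rfl | rfl | rfl | rfl)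
    · exact T.one_mem
    · exact haT
    · exact S.zT
    · exact T.mul_mem haT S.zT
    · exact S.fT
    · exact T.mul_mem S.fT haT
    · exact T.mul_mem S.fT S.zT
    · exact T.mul_mem S.fT (T.mul_mem haT S.zT)
  have hf : x * f = f * x := by
    rcases hx with (rfl | rfl | rfl | rfl) | (rfl | rfl | rfl | rfl)
    · rw [one_mul, mul_one]
    · exact hfa.symm
    · exact hfz.symm
    · rw [mul_assoc, ← hfz, ← mul_assoc, ← hfa, mul_assoc]
    · rfl
    · rw [mul_assoc, ← hfa]
    · rw [mul_assoc, ← hfz]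
    · rw [mul_assoc, mul_assoc, ← hfz, ← mul_assoc a f z, ← hfa, mul_assoc f a z]
  exact ⟨S.ta hT, S.zc x hT, hf, hT⟩

/-- **(G4)** -/
theorem exists_conj_az (hT : TypesHyp G (Nat.card F)) (S : Full a b z f v u L T Mf Me R)
    (hmax : ∀ x' a' L', Inn (Nat.card F) x' a' L' → ∀ T' : Subgroup G, IsPGroup 2 ↥T' →
      T' ≤ centralizer ({a'} : Set G) → Nat.card T' ≤ Nat.card T) : ∃ g : G, g * a * g⁻¹ = a * z := by
  by_contra hna
  obtain ⟨s, hsT, hsN, hss⟩ := S.lt
  obtain ⟨hz, -, ha'⟩ := S.nrm s hsN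
  have haa := S.aa
  have hzz := S.zz
  have hff := S.ff
  have hza := S.za
  have hfa := S.fa
  have hfz := S.fz
  have hssa : (s * s) * a = a * (s * s) := S.ta hss
  obtain ⟨a', ha'def⟩ : ∃ a', a' = s * a * s⁻¹ := ⟨_, rfl⟩
  rw [← ha'def] at ha'
  have h8 := mem_closure_eight haa hzz hff hza hfa hfz ha'
  obtain ⟨hc1, hc2, hc3, haT'⟩ := S.comm_eight h8
  -- `a'` centralizes `T`
  have hcT : ∀ t ∈ T, t * a' = a' * t := by
    intro t ht
    have h1 : s⁻¹ * t * s ∈ T := by
      have := (mem_normalizer_iff.mp (inv_mem hsN) t).mp ht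
      rwa [inv_inv] at this
    have h2 := S.ta h1
    rw [ha'def]
    calc t * (s * a * s⁻¹) = s * ((s⁻¹ * t * s) * a) * s⁻¹ := by group
      _ = s * (a * (s⁻¹ * t * s)) * s⁻¹ := by rw [h2]
      _ = _ := by group
  have hsa' : s * a' * s⁻¹ = a := by
    rw [ha'def]
    calc s * (s * a * s⁻¹) * s⁻¹ = (s * s) * a * (s⁻¹ * s⁻¹) := by group
      _ = a * (s * s) * (s⁻¹ * s⁻¹) := by rw [hssa]
      _ = a := by group
  have h4 : a' = f ∨ a' = f * a ∨ a' = f * z ∨ a' = f * (a * z) := by
    rcases h8 with (h | h | h | h) | h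
    · exfalso
      rw [ha'def] at h
      exact S.a1 (conj_eq_one_iff.mp h)
    · exfalso
      -- `s ∈ C(a)`
      have h1 : s * a = a * s := by
        rw [ha'def] at h
        calc s * a = s * a * s⁻¹ * s := by group
          _ = a * s := by rw [h]
      have h2 := S.syl.max _ (two_sup S.syl.two hsN hss)
        (sup_le S.syl.le (by rw [zpowers_le]; exact mem_c h1)) le_sup_left
      apply hsT
      rw [← h2]
      exact (le_sup_right : zpowers s ≤ T ⊔ zpowers s) (mem_zpowers s)
    · exfalso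
      rw [ha'def, ← hz] at h
      exact S.a_ne_z (mul_left_cancel (mul_right_cancel h))
    · exfalso
      exact hna ⟨s, by rw [← ha'def, h]⟩
    · exact h
  have ha'a' : a' * a' = 1 := by
    rw [ha'def]
    calc s * a * s⁻¹ * (s * a * s⁻¹) = s * (a * a) * s⁻¹ := by group
      _ = 1 := by rw [haa]; group
  -- `w = a' a z`
  obtain ⟨w, hw⟩ : ∃ w, w = a' * (a * z) := ⟨_, rfl⟩
  have hazaz : (a * z) * (a * z) = 1 := by
    calc a * z * (a * z) = a * (z * a) * z := by group
      _ = a * (a * z) * z := by rw [hza]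
      _ = (a * a) * (z * z) := by group
      _ = 1 := by rw [haa, hzz, one_mul]
  have hwf : w = f ∨ w = f * a ∨ w = f * z ∨ w = f * (a * z) := by
    rcases h4 with h | h | h | h
    · right; right; right; rw [hw, h]
    · right; right; left
      rw [hw, h]
      calc f * a * (a * z) = f * (a * a) * z := by group
        _ = f * z := by rw [haa, mul_one]
    · right; left
      rw [hw, h]
      calc f * z * (a * z) = f * (z * a) * z := by group
        _ = f * a * (z * z) := by rw [hza]; group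
        _ = f * a := by rw [hzz, mul_one]
    · left
      rw [hw, h, mul_assoc, hazaz, mul_one]
  have hsw : s * w * s⁻¹ = w := by
    rw [hw]
    calc s * (a' * (a * z)) * s⁻¹ = (s * a' * s⁻¹) * ((s * a * s⁻¹) * (s * z * s⁻¹)) := by group
      _ = a * (a' * z) := by rw [hsa', hz, ← ha'def]
      _ = (a * a') * z := by group
      _ = (a' * a) * z := by rw [hc1]
      _ = _ := by group
  have ha'w : a' = w * (a * z) := by rw [hw, mul_assoc, hazaz, mul_one]
  obtain ⟨M, hMor, hM, hzM⟩ := S.exists_mc hwf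
  have hM1 : IsComp (centralizer ({a} : Set G) ⊓ centralizer ({w} : Set G)) M :=
    PumpGen.isComp_of_inf S.tr.comp hM
  -- the group `C(a') ∩ C(w) = C(az) ∩ C(w)`
  have hcc : centralizer ({a'} : Set G) ⊓ centralizer ({w} : Set G) =
      centralizer ({a * z} : Set G) ⊓ centralizer ({w} : Set G) := by
    ext x
    rw [mem_inf, mem_inf, mem_centralizer_singleton_iff, mem_centralizer_singleton_iff,
      mem_centralizer_singleton_iff]
    refine and_congr_left fun hx => ?_
    constructor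
    · intro h
      have h1 : a * z = w⁻¹ * a' := by rw [ha'w]; group
      have h2 : x * w⁻¹ = w⁻¹ * x := by
        calc x * w⁻¹ = w⁻¹ * (w * x) * w⁻¹ := by group
          _ = w⁻¹ * (x * w) * w⁻¹ := by rw [hx]
          _ = _ := by group
      rw [h1, ← mul_assoc, h2, mul_assoc, h, mul_assoc]
    · intro h
      rw [ha'w]
      calc x * (w * (a * z)) = x * w * (a * z) := by rw [mul_assoc]
        _ = w * (x * (a * z)) := by rw [hx, mul_assoc]
        _ = w * (a * z) * x := by rw [h, ← mul_assoc]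
  have hM' : IsComp (centralizer ({a * z} : Set G) ⊓ centralizer ({w} : Set G))
      (IntrinsicBasic.cj s M) := by
    have h1 := hM1.cj s
    rw [cj_inf, cj_centralizer, cj_centralizer, ← ha'def, hsw, hcc] at h1
    exact h1
  have hzM' : z ∈ IntrinsicBasic.cj s M := by
    rw [← hz]
    exact conj_mem_cj hzM
  obtain ⟨q0, h5, h6, h7⟩ := S.q0
  have hLM : L2q q0 M := by
    rcases hMor with rfl | rfl
    · exact h5
    · exact h6
  have hwT : w ∈ T := by
    rw [hw]
    exact T.mul_mem haT' (T.mul_mem S.aT S.zT)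
  rcases hT a b z f v u L T Mf Me F inferInstance inferInstance R S rfl w M hwf hM hzM (IntrinsicBasic.cj s M) q0 hM' hzM'
    (hLM.cj s) h7 with ⟨x', K, hK⟩ | ⟨K, hK, h, hh, hhz⟩
  · -- `⟨T, s⟩ ≤ C(w)`
    have h9 := hmax x' w K hK (T ⊔ zpowers s) (two_sup S.syl.two hsN hss) (by
      refine sup_le ?_ ?_
      · intro t ht
        refine mem_c ?_
        rw [hw, ← mul_assoc, hcT t ht, mul_assoc, ← mul_assoc t a z, S.ta ht, mul_assoc a t z,
          S.zc t ht, mul_assoc, mul_assoc]
      · rw [zpowers_le]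
        refine mem_c ?_
        calc s * w = s * w * s⁻¹ * s := by group
          _ = w * s := by rw [hsw])
    exact absurd (card_lt_sup hsT) (not_lt.mpr h9)
  · exact hna ⟨h, hhz⟩

/-- **(G3)** and (DD) -/
theorem false_of_full (hT : TypesHyp G (Nat.card F)) (hG : GlueHyp G (Nat.card F))
    (hD : LineHyp G (Nat.card F)) (S : Full a b z f v u L T Mf Me R)
    (hmax : ∀ x' a' L', Inn (Nat.card F) x' a' L' → ∀ T' : Subgroup G, IsPGroup 2 ↥T' →
      T' ≤ centralizer ({a'} : Set G) → Nat.card T' ≤ Nat.card T) : False := by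
  obtain ⟨g, hg⟩ := exists_conj_az hT S hmax
  have hle : T ≤ centralizer ({g * a * g⁻¹} : Set G) := by
    intro t ht
    refine mem_c ?_
    rw [hg, ← mul_assoc, S.ta ht, mul_assoc, S.zc t ht, mul_assoc]
  obtain ⟨s, hs, hsa⟩ := Om.exists_norm S.syl hle
  rw [hg] at hsa
  obtain ⟨y, hy, ⟨I, hI⟩, J, hJ⟩ := hG a b z f v u L T Mf Me F inferInstance inferInstance R S rfl s hs hsa
  refine hD a b z y v u L Mf Me I J F inferInstance inferInstance R ?_ rfl hI hJ
  have hp2 : IsPGroup 2 ↥(closure {v, u}) := by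
    refine S.syl.two.to_le ?_
    rw [closure_le]
    rintro x (rfl | rfl)
    · exact S.vT.1
    · exact S.uT.1
  have haf : Fixes a L := fixes_self' S.tr.comp.le
  obtain ⟨q0, -⟩ := S.q0
  have base : ∀ y : G, y * y = 1 → y * a = a * y → FieldType L R y → IsMc L y Mf → IsMc L (y * z) Me →
      Line a b z y v u L Mf Me R := fun y h1 h2 h3 h4 h5 =>
    { tr := S.tr, hb := S.hb, ff := h1, fa := h2, ft := h3, cf := h4, ce := h5, zf := S.zf, ze := S.ze
      zz := S.zz, z1 := S.z1, vf := S.vf, ue := S.ue, vv := S.vv, uu := S.uu, two := hp2, vu := S.vu }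
  rcases hy with rfl | rfl
  · exact base _ S.ff S.fa S.ft S.mf S.me
  · have key : ∀ y, L ⊓ centralizer ({y * a} : Set G) = L ⊓ centralizer ({y} : Set G) := by
      intro y
      ext x
      rw [mem_inf, mem_inf, mem_centralizer_singleton_iff, mem_centralizer_singleton_iff]
      refine and_congr_right fun hx => ?_
      have hxa : x * a = a * x := comm_c (S.tr.comp.le hx)
      constructor
      · intro h
        have h1 : x * y * a = y * x * a := by
          rw [mul_assoc, h, mul_assoc, ← hxa, ← mul_assoc]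
        exact mul_right_cancel h1
      · intro h
        rw [← mul_assoc, h, mul_assoc, hxa, mul_assoc]
    refine base _ ?_ ?_ ?_ ?_ ?_
    · calc f * a * (f * a) = f * (a * f) * a := by group
        _ = f * (f * a) * a := by rw [S.fa]
        _ = (f * f) * (a * a) := by group
        _ = 1 := by rw [S.ff, S.aa, one_mul]
    · rw [mul_assoc, ← mul_assoc a f a, ← S.fa]
      group
    · obtain ⟨h, hf⟩ := S.ft
      refine ⟨mul_mem h haf.1, ?_⟩
      have h1 : (⟨f * a, mul_mem h haf.1⟩ : ↥(normalizer (L : Set G))) = ⟨f, h⟩ * ⟨a, haf.1⟩ := rfl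
      rw [h1, map_mul, (act_eq_one_iff haf.1).mpr haf, mul_one]
      exact hf
    · unfold IsMc
      rw [key]
      exact S.mf
    · unfold IsMc
      rw [mul_assoc, ← S.za, ← mul_assoc, key]
      exact S.me

/-- **`|Q| = 2`** -/
theorem no_triple {q : ℕ} (hT : TypesHyp G q) (hG : GlueHyp G q) (hD : LineHyp G q)
    (hF : FullHyp G q) (x a : G) (L : Subgroup G) : ¬ Inn q x a L := by
  intro h0
  -- the set of the orders of 2-subgroups of the centralizers
  let P : ℕ → Prop := fun n => ∃ (x a : G) (L : Subgroup G), Inn q x a L ∧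
    ∃ T' : Subgroup G, IsPGroup 2 ↥T' ∧ T' ≤ centralizer ({a} : Set G) ∧ Nat.card T' = n
  have hbd : ∀ n, P n → n ≤ Nat.card G := by
    rintro n ⟨-, -, -, -, T', -, -, rfl⟩
    exact Subgroup.card_le_card_group _
  have hex : ∃ n, P n := ⟨_, x, a, L, h0, ⊥, IsPGroup.of_bot, bot_le, rfl⟩
  classical
  obtain ⟨n, hn, hmax⟩ : ∃ n, P n ∧ ∀ m, P m → m ≤ n := by
    obtain ⟨n₀, hn₀⟩ := hex
    refine ⟨Nat.findGreatest P (Nat.card G), Nat.findGreatest_spec (hbd _ hn₀) hn₀, fun m hm => ?_⟩
    exact Nat.le_findGreatest (hbd m hm) hm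
  obtain ⟨x, a, L, hI, T₀, h1, h2, rfl⟩ := hn
  obtain ⟨b, z, f, v, u, T, Mf, Me, F, i1, i2, R, S, rfl⟩ := hF x a L hI
  have hcard : Nat.card ↥T₀ ≤ Nat.card ↥T := by
    obtain ⟨g, -, hg⟩ := S.syl.conj h1 h2
    rw [← card_cj g T]
    exact Nat.le_of_dvd Nat.card_pos (card_dvd_of_le hg)
  exact false_of_full hT hG hD S fun x' a' L' hI' T' h3 h4 =>
    (hmax _ ⟨x', a', L', hI', T', h3, h4, rfl⟩).trans hcard

end main

end Cfsg.Agent.UGT.Q2
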