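import Cfsg.Agent.UGT.Q2.Types2
import Cfsg.Agent.UGT.RedR

/-!
# THEOREM Q2: `TypesHyp` and the exclusion of vertical pump-ups

* `BadHyp G`: the statement (F).
* `Full.exists_pump`: the pump-up of `M_y`, `y ∈ f⟨a, z⟩`, is part of a triple.
* `types`: `BadHyp G → World G → TypesHyp G q`.
* `Full.exists_isD`: the pump-up of `M_y` is diagonal if `d ∈ M_y`, `d w ∈ M'_y`, `w ∈ ⟨a, z, f⟩`.
-/

set_option autoImplicit false

open Cfsg Subgroup
open Cfsg.Agent.SignalizersComponents Cfsg.Agent.Lib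
open Cfsg.Agent.SignalizersComponents.IntrinsicBasic
open Cfsg.Agent.Intrinsic.Basic Cfsg.Agent.Intrinsic.Cen Cfsg.Agent.Intrinsic.Diag
open Cfsg.Agent.McLLyComp.Act
open Cfsg.Agent.UGT.Triple Cfsg.Agent.UGT.TriBase Cfsg.Agent.UGT.Iface Cfsg.Agent.UGT.L2Inner

namespace Cfsg.Agent.UGT.Q2

universe u

/-- **(F)** -/
def BadHyp (G : Type u) [Group G] : Prop :=
  ∀ (a b z c u : G) (L M : Subgroup G) (F : Type) (_ : Field F) (_ : Finite F)
    (R : GH.L2Aut.Rep F (↥L ⧸ oddCore ↥L)), IsTriple (b * z) a L → (b = 1 ∨ b = a) → c * c = 1 →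
    c * a = a * c → FieldType L R c → IsMc L c M → z ∈ M → z * z = 1 → z ≠ 1 → u ∈ L → u * u = 1 →
    u * c = c * u → u ∉ M → Bad a b c z M ∨ Bad a b c u M

variable {G : Type u} [Group G] [Finite G]

section

variable {a b z f v u : G} {L T Mf Me : Subgroup G} {F : Type} [Field F] [Finite F]
  {R : GH.L2Aut.Rep F (↥L ⧸ oddCore ↥L)}

/-- the pair `f`, `f z` on `L` -/
theorem Full.pair (S : Full a b z f v u L T Mf Me R) : Pair a f (f * z) z Mf Me := by
  obtain ⟨q0, h1, h2, -⟩ := S.q0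
  have hff := S.ff
  have hfz := S.fz
  refine ⟨S.fa.symm, ?_, hff, ?_, ?_, ?_, S.z1, PumpGen.isComp_of_inf S.tr.comp S.mf,
    PumpGen.isComp_of_inf S.tr.comp S.me, h1.l2T, h2.l2T, S.zf, S.ze⟩
  · rw [← mul_assoc, ← S.fa, mul_assoc, ← S.za, mul_assoc]
  · calc f * z * (f * z) = f * (z * f) * z := by group
      _ = f * (f * z) * z := by rw [hfz]
      _ = (f * f) * (z * z) := by group
      _ = 1 := by rw [hff, S.zz, one_mul]
  · rw [mul_assoc, ← hfz]
  · rw [← mul_assoc, hff, one_mul]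

theorem Full.u_not (S : Full a b z f v u L T Mf Me R) : u ∉ Mf := by
  intro h
  obtain ⟨hfL, -⟩ := S.ft
  exact S.pair.not_vert S.tr.comp hfL (S.mf.le.trans inf_le_left) (Or.inl S.toSit.l2q.l2T) h S.ue
    S.uu S.u1 S.uz (S.zc u S.uT.1)

theorem Full.v_not (S : Full a b z f v u L T Mf Me R) : v ∉ Me := by
  intro h
  obtain ⟨hfL, -⟩ := S.ft
  exact S.pair.not_vert S.tr.comp hfL (S.mf.le.trans inf_le_left) (Or.inl S.toSit.l2q.l2T) S.vf h
    S.vv S.v1 S.vz (S.zc v S.vT.1)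

/-- the elements of `f⟨a, z⟩` are of field type -/
theorem Sit.field_of (S : Sit a b z f L T R) {y : G}
    (hy : y = f ∨ y = f * a ∨ y = f * z ∨ y = f * (a * z)) : FieldType L R y := by
  obtain ⟨hf, hfl⟩ := S.ft
  have haf : Fixes a L := fixes_self' S.tr.comp.le
  have key : ∀ m, (hm : m ∈ normalizer (L : Set G)) → R.fld (act L ⟨m, hm⟩) = 1 →
      FieldType L R (f * m) := by
    intro m hm h1
    refine ⟨mul_mem hf hm, ?_⟩
    have h2 : (⟨f * m, mul_mem hf hm⟩ : ↥(normalizer (L : Set G))) = ⟨f, hf⟩ * ⟨m, hm⟩ := rfl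
    rw [h2, map_mul, map_mul, h1, mul_one]
    exact hfl
  have ha1 : R.fld (act L ⟨a, haf.1⟩) = 1 := by
    rw [(act_eq_one_iff haf.1).mpr haf, map_one]
  have hz1 : R.fld (act L ⟨z, le_normalizer S.zL⟩) = 1 := by
    rw [act_of_mem S.zL]
    exact R.mem_PGL_iff_fld.1 (R.conj_mem_PGL _)
  rcases hy with rfl | rfl | rfl | rfl
  · exact S.ft
  · exact key a haf.1 ha1
  · exact key z (le_normalizer S.zL) hz1
  · refine key (a * z) (mul_mem haf.1 (le_normalizer S.zL)) ?_
    have h2 : (⟨a * z, mul_mem haf.1 (le_normalizer S.zL)⟩ : ↥(normalizer (L : Set G))) =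
      ⟨a, haf.1⟩ * ⟨z, le_normalizer S.zL⟩ := rfl
    rw [h2, map_mul, map_mul, ha1, hz1, mul_one]

/-- `M_y` is `Mf` or `Me` -/
theorem Full.mc_cases (S : Full a b z f v u L T Mf Me R) {y : G} {M : Subgroup G}
    (hy : y = f ∨ y = f * a ∨ y = f * z ∨ y = f * (a * z)) (hM : IsMc L y M) (hz : z ∈ M) :
    M = Mf ∨ M = Me := by
  obtain ⟨M₁, h1, h2, h3⟩ := S.exists_mc hy
  obtain ⟨q0, h4, h5, -⟩ := S.q0
  have h6 : L2T M₁ := by
    rcases h1 with rfl | rfl
    · exact h4.l2T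
    · exact h5.l2T
  have h7 : M₁ = M := eq_of_inv h2 hM h6 h3 hz S.zz S.z1
  rw [← h7]
  exact h1

/-- **the pump-up of `M_y`** -/
theorem Full.exists_pump (hB : BadHyp G) (S : Full a b z f v u L T Mf Me R) {y : G} {M : Subgroup G}
    (hy : y = f ∨ y = f * a ∨ y = f * z ∨ y = f * (a * z)) (hM : IsMc L y M) (hz : z ∈ M) :
    ∃ x' K, IsTriple x' y K ∧ x' * a = a * x' ∧
      ((a ∈ normalizer (K : Set G) ∧ M ≤ K) ∨ IsD a y M K) := by
  have haa := S.aa
  have hza := S.za
  have hfa := S.fa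
  have hfz := S.fz
  obtain ⟨hya, hyz, hyf, hyT⟩ := S.toSit.comm_eight (Or.inr hy)
  have hazaz : (a * z) * (a * z) = 1 := by
    calc a * z * (a * z) = a * (z * a) * z := by group
      _ = a * (a * z) * z := by rw [hza]
      _ = (a * a) * (z * z) := by group
      _ = 1 := by rw [haa, S.zz, one_mul]
  have hyy : y * y = 1 := by
    have key : ∀ m, m * m = 1 → f * m = m * f → f * m * (f * m) = 1 := by
      intro m hm hfm
      calc f * m * (f * m) = f * (m * f) * m := by group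
        _ = f * (f * m) * m := by rw [hfm]
        _ = (f * f) * (m * m) := by group
        _ = 1 := by rw [S.ff, hm, one_mul]
    rcases hy with rfl | rfl | rfl | rfl
    · exact S.ff
    · exact key a haa hfa
    · exact key z S.zz hfz
    · exact key (a * z) hazaz (by rw [← mul_assoc, hfa, mul_assoc, hfz, mul_assoc])
  have hy1 : y ≠ 1 := by
    intro h
    obtain ⟨hyL, h1⟩ := S.toSit.field_of hy
    apply h1
    have h2 : (⟨y, hyL⟩ : ↥(normalizer (L : Set G))) = 1 := Subtype.ext h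
    rw [h2, map_one, map_one]
  have hyo : orderOf y = 2 := orderOf_eq_prime (by rw [pow_two, hyy]) hy1
  -- an involution `w` of `T ⊓ L` outside `M`
  obtain ⟨w, hwT, hww, hw1, hwM⟩ : ∃ w ∈ T ⊓ L, w * w = 1 ∧ w ≠ 1 ∧ w ∉ M := by
    rcases S.mc_cases hy hM hz with rfl | rfl
    · exact ⟨u, S.uT, S.uu, S.u1, S.u_not⟩
    · exact ⟨v, S.vT, S.vv, S.v1, S.v_not⟩
  have hwa : w * a = a * w := S.ta hwT.1
  have hwy : w * y = y * w := by
    have hwf := S.fD w hwT
    have hwz := S.zc w hwT.1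
    rcases hy with rfl | rfl | rfl | rfl
    · exact hwf
    · rw [← mul_assoc, hwf, mul_assoc, hwa, mul_assoc]
    · rw [← mul_assoc, hwf, mul_assoc, hwz, mul_assoc]
    · rw [← mul_assoc, hwf, mul_assoc, ← mul_assoc w a z, hwa, mul_assoc a w z, hwz, mul_assoc,
        mul_assoc]
  have hbad := hB a b z y w L M F inferInstance inferInstance R S.tr S.hb hyy hya (S.toSit.field_of hy)
    hM hz S.zz S.z1 hwT.2 hww hwy hwM
  have hMc : IsComp (centralizer ({y} : Set G) ⊓ centralizer ({a} : Set G)) M := by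
    rw [inf_comm]
    exact PumpGen.isComp_of_inf S.tr.comp hM
  have hnf : ∀ k ∈ L, k * k = 1 → k ≠ 1 → k ≠ a := by
    rintro k hk h1 h2 rfl
    exact not_fixes_of_mem S.toSit.l2q.l2T hk h1 h2 (fixes_self' S.tr.comp.le)
  have key : ∀ k ∈ T ⊓ L, k * k = 1 → k ≠ 1 → k * y = y * k → Bad a b y k M →
      ∃ x' K, IsTriple x' y K ∧ x' * a = a * x' ∧
        ((a ∈ normalizer (K : Set G) ∧ M ≤ K) ∨ IsD a y M K) := by
    intro k hk hkk hk1 hky hbad
    obtain ⟨d, hd, hda, hdy, hdf⟩ := hbad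
    have hka := S.ta hk.1
    have hba : b * a = a * b := by
      rcases S.hb with h | h
      · rw [h, one_mul, mul_one]
      · rw [h]
    have hby : y * b = b * y := by
      rcases S.hb with h | h
      · rw [h, one_mul, mul_one]
      · rw [h]; exact hya
    have hbk : b * k = k * b := by
      rcases S.hb with h | h
      · rw [h, one_mul, mul_one]
      · rw [h]; exact hka.symm
    have hbb : b * b = 1 := by
      rcases S.hb with h | h
      · rw [h, one_mul]
      · rw [h]; exact haa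
    have hx1 : b * k ≠ 1 := by
      rcases S.hb with h | h
      · rw [h, one_mul]; exact hk1
      · rw [h]
        intro h2
        apply hnf k hk.2 hkk hk1
        calc k = a * a * k := by rw [haa, one_mul]
          _ = a * (a * k) := by rw [mul_assoc]
          _ = a := by rw [h2, mul_one]
    have hxx : b * k * (b * k) = 1 := by
      calc b * k * (b * k) = b * (k * b) * k := by group
        _ = b * (b * k) * k := by rw [hbk]
        _ = (b * b) * (k * k) := by group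
        _ = 1 := by rw [hbb, hkk, one_mul]
    have hxo : orderOf (b * k) = 2 := orderOf_eq_prime (by rw [pow_two, hxx]) hx1
    have hyx : y * (b * k) = b * k * y := by
      rw [← mul_assoc, hby, mul_assoc, ← hky, mul_assoc]
    have hxa : b * k * a = a * (b * k) := by
      rw [mul_assoc, hka, ← mul_assoc, hba, mul_assoc]
    obtain ⟨K, TK, -, hor⟩ := PumpGen.pump hxo hyo haa hya hyx hMc hd hda hdy hdf
    exact ⟨b * k, K, TK, hxa, hor.imp id fun h => ⟨TK.comp, h.1, h.2⟩⟩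
  rcases hbad with h | h
  · exact key z ⟨S.zT, S.zL⟩ S.zz S.z1 hyz.symm h
  · exact key w hwT hww hw1 hwy h

/-- the pair `a`, `a z` of `C(y)` -/
theorem Full.pair_of (S : Full a b z f v u L T Mf Me R) {y : G} {M M' : Subgroup G}
    (hy : y = f ∨ y = f * a ∨ y = f * z ∨ y = f * (a * z)) (hM : IsMc L y M) (hz : z ∈ M)
    (hM' : IsComp (centralizer ({a * z} : Set G) ⊓ centralizer ({y} : Set G)) M') (hz' : z ∈ M')
    (ht : L2T M') : Pair y a (a * z) z M M' := by
  have haa := S.aa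
  have hza := S.za
  obtain ⟨hya, hyz, hyf, hyT⟩ := S.toSit.comm_eight (Or.inr hy)
  obtain ⟨q0, h1, h2, -⟩ := S.q0
  have hT : L2T M := by
    rcases S.mc_cases hy hM hz with rfl | rfl
    · exact h1.l2T
    · exact h2.l2T
  refine ⟨hya, ?_, haa, ?_, ?_, ?_, S.z1, ?_, ?_, hT, ht, hz, hz'⟩
  · rw [← mul_assoc, hya, mul_assoc, hyz, mul_assoc]
  · calc a * z * (a * z) = a * (z * a) * z := by group
      _ = a * (a * z) * z := by rw [hza]
      _ = (a * a) * (z * z) := by group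
      _ = 1 := by rw [haa, S.zz, one_mul]
  · rw [mul_assoc, hza]
  · rw [← mul_assoc, haa, one_mul]
  · rw [inf_comm]
    exact PumpGen.isComp_of_inf S.tr.comp hM
  · rw [inf_comm]
    exact hM'

end

/-- the centre of `K / O(K)` -/
theorem center_of_type {K : Subgroup G} (h : L2T K ∨ IsAlt 7 (Bar K)) :
    center (↥K ⧸ oddCore ↥K) = ⊥ := by
  rcases h with ⟨F, _, _, ⟨R⟩⟩ | ⟨⟨e⟩⟩
  · exact R.center_eq_bot
  · obtain ⟨M₀⟩ := UAlt.Mod.nonempty_of_equiv (K := K) (S := (Finset.univ : Finset (Fin 7)))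
      (by rw [Finset.card_univ, Fintype.card_fin]) (Ω := Fin 7) (by rw [Finset.card_univ]) e
    exact RedR.center_bar M₀

/-- **the types** -/
theorem types (hB : BadHyp G) (W : World G) (q : ℕ) : TypesHyp G q := by
  intro a b z f v u L T Mf Me F i1 i2 R S hq y M hy hM hz M' q0 hM' hz' hq' hqq
  obtain ⟨x', K, TK, hxa, hor⟩ := S.exists_pump hB hy hM hz
  have P := S.pair_of hy hM hz hM' hz' hq'.l2T
  rcases hor with ⟨haK, hMK⟩ | hD
  · left
    have hty := (W x' y K TK).resolve_right (P.not_alt TK.comp haK hMK)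
    obtain ⟨F', i3, i4, ⟨R'⟩⟩ := hty
    have hfa := (P.field TK.comp haK hMK R').1
    obtain ⟨q1, h1, h2, h3⟩ := S.q0
    have hM1 : L2q q1 M := by
      rcases S.mc_cases hy hM hz with rfl | rfl
      · exact h1
      · exact h2
    have hcomp : IsComp (K ⊓ centralizer ({a} : Set G)) M :=
      P.cM.restrict (inf_le_inf_right _ TK.comp.le) (le_inf hMK (P.cM.le.trans inf_le_right))
    obtain ⟨haK', hfa'⟩ := hfa
    have hcard := card_of_comp P.aa haK' hcomp hM1 R' hfa'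
    refine ⟨x', K, TK, ⟨F', i3, i4, ?_, ⟨R'⟩⟩, inner_of TK P.aa hxa R' ⟨haK', hfa'⟩⟩
    rw [hcard, h3, hq]
  · right
    refine ⟨K, hD, ?_⟩
    have hz2 : a * (a * z) ∈ diag (centralizer ({y} : Set G)) K a := by
      rw [← hD.eq, ← P.hz]
      exact hz
    obtain ⟨h, hh, h1⟩ := DiagConj.exists_conj_centralizer TK.comp (center_of_type (W x' y K TK))
      P.ya.symm P.yb.symm P.aa P.bb hD.ne hz2
    exact ⟨h, mem_c hh, h1⟩

/-- **(G1) for the glue** -/
theorem Full.exists_isD (hB : BadHyp G) (W : World G) {a b z f v u : G} {L T Mf Me : Subgroup G}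
    {F : Type} [Field F] [Finite F] {R : GH.L2Aut.Rep F (↥L ⧸ oddCore ↥L)}
    (S : Full a b z f v u L T Mf Me R) {y : G} {M M' : Subgroup G}
    (hy : y = f ∨ y = f * a ∨ y = f * z ∨ y = f * (a * z)) (hM : IsMc L y M) (hz : z ∈ M)
    (hM' : IsComp (centralizer ({a * z} : Set G) ⊓ centralizer ({y} : Set G)) M') (hz' : z ∈ M')
    (ht : L2T M') {d w : G} (hd : d ∈ M) (hdd : d * d = 1) (hd1 : d ≠ 1) (hdz : d ≠ z)
    (hcd : d * z = z * d) (hw : w ∈ closure {a, z, f}) (hdw : d * w ∈ M') : ∃ K, IsD a y M K := by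
  obtain ⟨x', K, TK, hxa, hor⟩ := S.exists_pump hB hy hM hz
  have P := S.pair_of hy hM hz hM' hz' ht
  rcases hor with ⟨haK, hMK⟩ | hD
  swap
  · exact ⟨K, hD⟩
  exfalso
  have hty := W x' y K TK
  obtain ⟨hbK, hM'K⟩ := P.same TK.comp hMK
  have hwK : w ∈ K := by
    have h1 := K.mul_mem (K.inv_mem (hMK hd)) (hM'K hdw)
    rwa [inv_mul_cancel_left] at h1
  have hT := hty.resolve_right (P.not_alt TK.comp haK hMK)
  obtain ⟨F', i3, i4, ⟨R'⟩⟩ := hT
  have hT' : L2T K := ⟨F', i3, i4, ⟨R'⟩⟩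
  have haa := S.aa
  have hza := S.za
  have hfa := S.fa
  have hfz := S.fz
  -- elements acting as `a` or `a z` are not in `K`
  have hno : ∀ t, FieldType K R' t → ∀ m ∈ K, ¬ Fixes (t⁻¹ * m) K := by
    rintro t ⟨htK, htf⟩ m hm hfx
    apply htf
    have h1 : act K ⟨m, le_normalizer hm⟩ = act K ⟨t, htK⟩ := by
      have h2 : (⟨m, le_normalizer hm⟩ : ↥(normalizer (K : Set G))) = ⟨t, htK⟩ * ⟨t⁻¹ * m, hfx.1⟩ :=
        Subtype.ext (by change m = t * (t⁻¹ * m); group)
      rw [h2, map_mul, (act_eq_one_iff hfx.1).mpr hfx, mul_one]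
    rw [← h1, act_of_mem hm]
    exact R'.mem_PGL_iff_fld.1 (R'.conj_mem_PGL _)
  obtain ⟨hFa, hFb⟩ := P.field TK.comp haK hMK R'
  have hyf : Fixes y K := fixes_self' TK.comp.le
  have hyy : y * y = 1 := sq_of_order TK.inva
  have hy1 : y ≠ 1 := ne_one_of_order TK.inva
  have hzK : z ∈ K := hMK hz
  have hyz := (S.toSit.comm_eight (Or.inr hy)).2.1
  have hya := (S.toSit.comm_eight (Or.inr hy)).1
  have hyK : y ∉ K := fun h => not_fixes_of_mem hT' h hyy hy1 hyf
  have h1f : Fixes (1 : G) K := fixes_one K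
  -- `w` is `m` or `y m` with `m ∈ {1, a, z, a z}`
  have h8 : ∃ m, (m = 1 ∨ m = a ∨ m = z ∨ m = a * z) ∧ (w = m ∨ w = y * m) := by
    have e1 : a * (a * z) = z := by rw [← mul_assoc, haa, one_mul]
    have e2 : z * (a * z) = a := by rw [← mul_assoc, hza, mul_assoc, S.zz, mul_one]
    have e3 : a * z * a = z := by rw [mul_assoc, hza, e1]
    have e4 : a * z * z = a := by rw [mul_assoc, S.zz, mul_one]
    have e5 : a * z * (a * z) = 1 := by rw [← mul_assoc, e3, S.zz]
    rcases mem_closure_eight haa S.zz S.ff hza hfa hfz hw with h | h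
    · exact ⟨w, h, Or.inl rfl⟩
    · rcases hy with rfl | rfl | rfl | rfl <;> rcases h with rfl | rfl | rfl | rfl
      · exact ⟨1, Or.inl rfl, Or.inr (mul_one _).symm⟩
      · exact ⟨a, Or.inr (Or.inl rfl), Or.inr rfl⟩
      · exact ⟨z, Or.inr (Or.inr (Or.inl rfl)), Or.inr rfl⟩
      · exact ⟨a * z, Or.inr (Or.inr (Or.inr rfl)), Or.inr rfl⟩
      · exact ⟨a, Or.inr (Or.inl rfl), Or.inr (by rw [mul_assoc, haa, mul_one])⟩
      · exact ⟨1, Or.inl rfl, Or.inr (mul_one _).symm⟩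
      · exact ⟨a * z, Or.inr (Or.inr (Or.inr rfl)), Or.inr (by rw [mul_assoc, e1])⟩
      · exact ⟨z, Or.inr (Or.inr (Or.inl rfl)), Or.inr (by rw [mul_assoc])⟩
      · exact ⟨z, Or.inr (Or.inr (Or.inl rfl)), Or.inr (by rw [mul_assoc, S.zz, mul_one])⟩
      · exact ⟨a * z, Or.inr (Or.inr (Or.inr rfl)), Or.inr (by rw [mul_assoc, e2])⟩
      · exact ⟨1, Or.inl rfl, Or.inr (mul_one _).symm⟩
      · exact ⟨a, Or.inr (Or.inl rfl), Or.inr (by rw [mul_assoc, hza])⟩
      · exact ⟨a * z, Or.inr (Or.inr (Or.inr rfl)), Or.inr (by rw [mul_assoc, e5, mul_one])⟩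
      · exact ⟨z, Or.inr (Or.inr (Or.inl rfl)), Or.inr (by rw [mul_assoc, e4])⟩
      · exact ⟨a, Or.inr (Or.inl rfl), Or.inr (by rw [mul_assoc, e3])⟩
      · exact ⟨1, Or.inl rfl, Or.inr (mul_one _).symm⟩
  -- `w ∈ {1, z}`
  have hw' : w = 1 ∨ w = z := by
    obtain ⟨m, hm, hwm⟩ := h8
    have hym : y * m = m * y := by
      rcases hm with rfl | rfl | rfl | rfl
      · rw [one_mul, mul_one]
      · exact hya
      · exact hyz
      · rw [← mul_assoc, hya, mul_assoc, hyz, mul_assoc]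
    have hfx : Fixes (m⁻¹ * w) K := by
      rcases hwm with h | h
      · rw [h, inv_mul_cancel]; exact h1f
      · rw [h, hym, inv_mul_cancel_left]; exact hyf
    rcases hm with rfl | rfl | rfl | rfl
    · rcases hwm with h | h
      · exact Or.inl h
      · exfalso
        rw [mul_one] at h
        exact hyK (h ▸ hwK)
    · exact absurd hfx (hno _ hFa w hwK)
    · rcases hwm with h | h
      · exact Or.inr h
      · exfalso
        apply hyK
        have h1 := K.mul_mem hwK (K.inv_mem hzK)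
        rwa [h, mul_inv_cancel_right] at h1
    · exact absurd hfx (hno _ hFb w hwK)
  have hdM' : d ∈ M' := by
    rcases hw' with rfl | rfl
    · rwa [mul_one] at hdw
    · have h1 := M'.mul_mem hdw hz'
      rwa [mul_assoc, S.zz, mul_one] at h1
  exact P.not_vert TK.comp haK hMK hty hd hdM' hdd hd1 hdz hcd

end Cfsg.Agent.UGT.Q2
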