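import Cfsg.Agent.UGT.Q2.DDLine
import Cfsg.Agent.UGT.Q2K.DDGlue
import Cfsg.Agent.UGT.Q2.Main
import Cfsg.Agent.UGT.Q2.Types3

/-!
# THEOREM Q2 (#13005), (DD): `f` and `f z` are not both diagonal

* `dd`, `lineHyp`; `badHyp` = (F).
-/

set_option autoImplicit false

open Cfsg Subgroup

namespace Cfsg.Agent.UGT.Q2

universe u

variable {G : Type u} [Group G] [Finite G]

theorem ddEnd {q : ℕ} (W : World G) (hH : HQ G q) : DDEnd G q := by
  intro a z f v u w z1 y y1 Mf Me I J q0 C H ht hM hq hni T hy _ _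
  exact Q2K.dd_end W hH C H ht hM hq hni hy T

/-- **(DD)** -/
theorem dd {a b z f v u : G} {L Mf Me I J : Subgroup G} {F : Type} [Field F] [Finite F]
    {R : GH.L2Aut.Rep F (↥L ⧸ oddCore ↥L)} (W : World G) (hH : HQ G (Nat.card F))
    (K : Line a b z f v u L Mf Me R) (hI : IsD a f Mf I) (hJ : IsD a (f * z) Me J) : False :=
  dd_of W (ddEnd W hH) K hI hJ

theorem lineHyp {q : ℕ} (W : World G) (hH : HQ G q) : LineHyp G q := by
  intro a b z f v u L Mf Me I J F _ _ R K hq hI hJ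
  subst hq
  exact dd W hH K hI hJ

theorem badHyp : BadHyp G := by
  intro a b z c u L M F _ _ R T hb h1 h2 h3 h4 h5 h6 h7 h8 h9 h10 h11
  exact bad_or T hb h1 h2 h3 h4 h5 h6 h7 h8 h9 h10 h11

end Cfsg.Agent.UGT.Q2
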