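import Cfsg.Agent.UGT.Q2.Defs

/-!
# The full frame for `|Q| = 2` (#14508)

`Full` extends `Sit` by the 2-components `Mf`, `Me` of `L ∩ C(f)`, `L ∩ C(f z)`, involutions `v`, `u` of
`T ∩ Mf`, `T ∩ Me` and the action of `N(T)` on `⟨a, z, f⟩`.
-/

set_option autoImplicit false

open Cfsg Subgroup
open Cfsg.Agent.SignalizersComponents Cfsg.Agent.Lib
open Cfsg.Agent.SignalizersComponents.IntrinsicBasic
open Cfsg.Agent.Intrinsic.Basic Cfsg.Agent.Intrinsic.Cen Cfsg.Agent.Intrinsic.Diag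
open Cfsg.Agent.UGT.Triple Cfsg.Agent.UGT.TriBase Cfsg.Agent.UGT.Iface Cfsg.Agent.UGT.L2Inner

namespace Cfsg.Agent.UGT.Q2

universe u

variable {G : Type u} [Group G]

/-- The dihedral group `D = T ∩ L = ⟨r, c⟩` and its two non-cyclic maximal subgroups `D ∩ Mf`, `D ∩ Me`; involutions
of `C_T(f)` lie in `D⟨a, z, f⟩`. -/
structure Ext (a z f : G) (L T Mf Me : Subgroup G) : Prop where
  spl : ∀ t ∈ T, t * t = 1 → t * f = f * t → ∃ d ∈ T ⊓ L, ∃ w ∈ closure {a, z, f}, t = d * w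
  dih : ∃ (r c : G) (N : ℕ), r ∈ T ⊓ L ∧ c ∈ T ⊓ L ∧ 2 ≤ N ∧ orderOf r = 2 ^ N ∧ z = r ^ 2 ^ (N - 1) ∧
    c * c = 1 ∧ c * r * c⁻¹ = r⁻¹ ∧ ∀ d ∈ T ⊓ L, (∃ k : ℤ, d = r ^ k) ∨ ∃ k : ℤ, d = r ^ k * c
  idxf : ∀ x ∈ T ⊓ L, ∀ y ∈ T ⊓ L, x ∉ Mf → y ∉ Mf → x * y ∈ Mf
  idxe : ∀ x ∈ T ⊓ L, ∀ y ∈ T ⊓ L, x ∉ Me → y ∉ Me → x * y ∈ Me
  noi : ∀ d, d ∈ Mf → d ∈ Me → d * d = 1 → d * z = z * d → d = 1 ∨ d = z

structure Full (a b z f v u : G) (L T Mf Me : Subgroup G) {F : Type} [Field F] [Finite F]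
    (R : GH.L2Aut.Rep F (↥L ⧸ oddCore ↥L)) : Prop extends Sit a b z f L T R where
  mf : IsMc L f Mf
  me : IsMc L (f * z) Me
  zf : z ∈ Mf
  ze : z ∈ Me
  vT : v ∈ T ⊓ L
  uT : u ∈ T ⊓ L
  vf : v ∈ Mf
  ue : u ∈ Me
  vv : v * v = 1
  uu : u * u = 1
  v1 : v ≠ 1
  u1 : u ≠ 1
  vz : v ≠ z
  uz : u ≠ z
  vu : ∃ k : ℕ, (v * u) ^ (2 * k) = z
  q0 : ∃ q0 : ℕ, L2q q0 Mf ∧ L2q q0 Me ∧ q0 ^ 2 = Nat.card F
  ext : Ext a z f L T Mf Me
  nrm : ∀ s ∈ normalizer (T : Set G), s * z * s⁻¹ = z ∧ s * f * s⁻¹ ∈ closure {a, z, f} ∧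
    s * a * s⁻¹ ∈ closure {a, z, f}

section facts

variable {a b z f v u : G} {L T Mf Me : Subgroup G} {F : Type} [Field F] [Finite F]
  {R : GH.L2Aut.Rep F (↥L ⧸ oddCore ↥L)}

theorem Sit.orda (S : Sit a b z f L T R) : orderOf a = 2 := S.tr.inva

theorem Sit.aa (S : Sit a b z f L T R) : a * a = 1 := Triple.sq_of_order S.orda

theorem Sit.a1 (S : Sit a b z f L T R) : a ≠ 1 := Triple.ne_one_of_order S.orda

theorem Sit.ta (S : Sit a b z f L T R) {t : G} (ht : t ∈ T) : t * a = a * t := comm_c (S.syl.le ht)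

theorem Sit.za (S : Sit a b z f L T R) : z * a = a * z := S.ta S.zT

theorem Sit.fa (S : Sit a b z f L T R) : f * a = a * f := S.ta S.fT

theorem Sit.fz (S : Sit a b z f L T R) : f * z = z * f := S.zc f S.fT

theorem Sit.aT (S : Sit a b z f L T R) : a ∈ T := by
  have h2 : IsPGroup 2 ↥(T ⊔ zpowers a) := by
    refine S.syl.two.to_sup_of_normal_left' ?_ ?_
    · intro x
      obtain ⟨n, hn⟩ := mem_zpowers_iff.mp x.2
      refine ⟨1, Subtype.ext ?_⟩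
      change (x : G) ^ 2 ^ 1 = 1
      rw [pow_one, pow_two, ← hn, ← zpow_add, ← two_mul, zpow_mul, zpow_two, S.aa, one_zpow]
    · rw [zpowers_le, mem_normalizer_iff_cj]
      ext x
      rw [mem_cj]
      constructor
      · intro hx
        have h3 := S.ta hx
        have h4 : x = a⁻¹ * x * a := by
          have h5 : a⁻¹ * x * a * a = a⁻¹ * x * a * a := rfl
          calc x = a * (a⁻¹ * x * a) * a⁻¹ := by group
            _ = (a⁻¹ * x * a) * a * a⁻¹ := by rw [h3]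
            _ = a⁻¹ * x * a := by group
        rw [h4]
        exact hx
      · intro hx
        have h3 := S.ta hx
        have h4 : a⁻¹ * x * a = x := by
          rw [mul_assoc, h3]; group
        rwa [h4]
  have h3 := S.syl.max _ h2 (sup_le S.syl.le (by rw [zpowers_le]; exact mem_c rfl)) le_sup_left
  rw [← h3]
  exact (le_sup_right : zpowers a ≤ T ⊔ zpowers a) (mem_zpowers a)

end facts

end Cfsg.Agent.UGT.Q2
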