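import Cfsg.Agent.UGT.Q2.Facts
import Cfsg.Agent.UGT.Q2.Full
import Cfsg.Agent.UGT.L2Inner.WBField

/-!
# UGT, inner `L₂(q)`, `|Q| = 2`: the 2-components `M_f`, `M_{fz}`

* `exists_mc` : the 2-component `M` of `L ∩ C(c)`, `c` of field type, over `M₀ = C(c)^∞` in `L / O(L)`; it contains the
  2-elements of `L ∩ C(c)` over `M₀`.
* `exists_data` : the fields `mf, …, q0` of `Full`.
-/

set_option autoImplicit false

open Cfsg Subgroup
open Cfsg.Agent.SignalizersComponents Cfsg.Agent.Lib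
open Cfsg.Agent.SignalizersComponents.IntrinsicBasic
open Cfsg.Agent.SignalizersComponents.PLayerAut
open Cfsg.Agent.Intrinsic.Basic Cfsg.Agent.Intrinsic.Cen Cfsg.Agent.Intrinsic.Diag
open Cfsg.Agent.McLLyComp.Act
open Cfsg.Agent.UGT.Triple Cfsg.Agent.UGT.TriBase Cfsg.Agent.UGT.L2Inner
open Cfsg.Agent.UGT.Q2.Facts
open scoped commutatorElement

namespace Cfsg.Agent.UGT.Q2.MfData

universe u

variable {G : Type u} [Group G] [Finite G]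

theorem exists_mc {L : Subgroup G} {F : Type} [Field F] [Finite F]
    (R : GH.L2Aut.Rep F (↥L ⧸ oddCore ↥L)) (h9 : 9 < Nat.card F) {v : G} (hvv : v * v = 1)
    (hvK : v ∈ normalizer (L : Set G)) {M₀ : Subgroup (↥L ⧸ oddCore ↥L)}
    (h : Fd R (act L ⟨v, hvK⟩) M₀) :
    ∃ I : Subgroup G, IsMc L v I ∧ (∃ q0, L2q q0 I ∧ q0 ^ 2 = Nat.card F) ∧
      (∀ (x : G) (hx : x ∈ L), x * v = v * x → (QuotientGroup.mk ⟨x, hx⟩ : ↥L ⧸ oddCore ↥L) ∈ M₀ →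
        (∃ n, x ^ 2 ^ n = 1) → x ∈ I) ∧
      ∀ x ∈ I, ∃ hx : x ∈ L, (QuotientGroup.mk ⟨x, hx⟩ : ↥L ⧸ oddCore ↥L) ∈ M₀ := by
  obtain ⟨φ, hφ⟩ : ∃ φ, φ = act L ⟨v, hvK⟩ := ⟨_, rfl⟩
  rw [← hφ] at h
  have hφφ : φ * φ = 1 := h.sq
  obtain ⟨E, RS, hcard, -⟩ := h.rep
  have hfix : ∀ m ∈ M₀, φ m = m := h.le
  have hnorm : ∀ c, φ c = c → ∀ m ∈ M₀, c * m * c⁻¹ ∈ M₀ := fun c hc m hm => h.normal hc hm
  have h3 : 3 < Nat.card E := by
    rw [hcard] at h9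
    by_contra hcon
    push Not at hcon
    have := Nat.pow_le_pow_left hcon 2
    omega
  have hsim : IsSimpleGroup M₀ := Cfsg.Agent.OddHalf.D6.SubFix.isSimple RS h3
  have hqs : IsQuasisimple M₀ := Cfsg.Agent.OddHalf.D6.SubFix.isQuasisimple RS h3
  -- `J`, the preimage of `M₀` in `C_L(v)`
  let J : Subgroup G :=
    { carrier := {k | ∃ hk : k ∈ L, k * v = v * k ∧ (QuotientGroup.mk ⟨k, hk⟩ : ↥L ⧸ oddCore ↥L) ∈ M₀}
      one_mem' := ⟨one_mem _, by rw [one_mul, mul_one], one_mem M₀⟩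
      mul_mem' := by
        rintro a b ⟨ha, ha1, ha2⟩ ⟨hb, hb1, hb2⟩
        refine ⟨mul_mem ha hb, ?_, mul_mem ha2 hb2⟩
        rw [mul_assoc, hb1, ← mul_assoc, ha1, mul_assoc]
      inv_mem' := by
        rintro a ⟨ha, ha1, ha2⟩
        refine ⟨inv_mem ha, ?_, inv_mem ha2⟩
        rw [inv_mul_eq_iff_eq_mul, ← mul_assoc, ha1, mul_inv_cancel_right] }
  have hJK : J ≤ L := fun k hk => hk.1
  have hJv : J ≤ centralizer ({v} : Set G) := by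
    rintro k ⟨-, h, -⟩
    exact mem_c h
  have hlift : ∀ m ∈ M₀, ∃ (j : G) (hj : j ∈ J), (QuotientGroup.mk ⟨j, hJK hj⟩ :
      ↥L ⧸ oddCore ↥L) = m := by
    intro m hm
    obtain ⟨l, hl, hlv, h⟩ := WBTriple.exists_lift hvK hvv (y := m) (by rw [← hφ]; exact hfix m hm)
    exact ⟨l, ⟨hl, hlv, by rw [h]; exact hm⟩, h⟩
  have hnJ : L ⊓ centralizer ({v} : Set G) ≤ normalizer (J : Set G) := by
    refine le_normalizer_of fun a ha j hj => ?_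
    obtain ⟨hjK, hjv, hjM⟩ := hj
    have hav : a * v = v * a := comm_c ha.2
    refine ⟨mul_mem (mul_mem ha.1 hjK) (inv_mem ha.1), ?_, ?_⟩
    · have h1 : a⁻¹ * v = v * a⁻¹ := by
        rw [inv_mul_eq_iff_eq_mul, ← mul_assoc, hav, mul_inv_cancel_right]
      calc a * j * a⁻¹ * v = a * j * (a⁻¹ * v) := by group
        _ = a * (j * v) * a⁻¹ := by rw [h1]; group
        _ = (a * v) * j * a⁻¹ := by rw [hjv]; group
        _ = v * (a * j * a⁻¹) := by rw [hav]; group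
    · have h1 : φ (QuotientGroup.mk ⟨a, ha.1⟩) = QuotientGroup.mk ⟨a, ha.1⟩ := by
        rw [hφ, act_mk hvK ha.1]
        congr 1
        exact Subtype.ext (by change v * a * v⁻¹ = a; rw [← hav, mul_inv_cancel_right])
      exact hnorm _ h1 _ hjM
  obtain ⟨I, hI⟩ : ∃ I, I = PComponents.pElem 2 J := ⟨_, rfl⟩
  have hIJ : I ≤ J := hI ▸ PComponents.pElem_le _
  have hIK : I ≤ L := hIJ.trans hJK
  have hnI : L ⊓ centralizer ({v} : Set G) ≤ normalizer (I : Set G) := by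
    rw [hI]
    exact hnJ.trans (PComponents.normalizer_le_normalizer_pElem J)
  have hJnI : J ≤ normalizer (I : Set G) := (le_inf hJK hJv).trans hnI
  -- the map `I → M₀`
  let f : ↥I →* ↥M₀ :=
    { toFun := fun i => ⟨QuotientGroup.mk ⟨i, hIK i.2⟩, (hIJ i.2).2.2⟩
      map_one' := rfl
      map_mul' := fun _ _ => rfl }
  have hfk : ∀ i : ↥I, f i = 1 ↔ (i : G) ∈ core L := by
    intro i
    rw [← mk_eq_one_iff (hIK i.2)]
    exact ⟨fun h => congrArg Subtype.val h, fun h => Subtype.ext h⟩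
  have hfn : f.range.Normal := by
    constructor
    rintro _ ⟨i, rfl⟩ ⟨m, hm⟩
    obtain ⟨j, hj, hjm⟩ := hlift m hm
    refine ⟨⟨j * i * j⁻¹, conj_mem (hJnI hj) i.2⟩, ?_⟩
    apply Subtype.ext
    change (QuotientGroup.mk (⟨j, hJK hj⟩ * ⟨i, hIK i.2⟩ * ⟨j, hJK hj⟩⁻¹) : ↥L ⧸ oddCore ↥L) = _
    rw [QuotientGroup.mk_mul, QuotientGroup.mk_mul, QuotientGroup.mk_inv, hjm]
    rfl
  have hfs : Function.Surjective f := by
    rw [← MonoidHom.range_eq_top]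
    refine (hsim.eq_bot_or_eq_top_of_normal _ hfn).resolve_left fun hbot => ?_
    obtain ⟨a, b, hF⟩ := RS.exists_four
    obtain ⟨j, hj, hjm⟩ := hlift a a.2
    have h5 : j ^ 2 ^ 1 ∈ core L := by
      rw [pow_one, pow_two, ← mk_eq_one_iff (mul_mem (hJK hj) (hJK hj))]
      have h6 : (QuotientGroup.mk (⟨j, hJK hj⟩ * ⟨j, hJK hj⟩) : ↥L ⧸ oddCore ↥L) = 1 := by
        rw [QuotientGroup.mk_mul, hjm]
        exact congrArg Subtype.val hF.aa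
      exact h6
    obtain ⟨k, hk1, hk2⟩ := Intrinsic.Lifting.exists_two_part (odd_card_core L) h5
    have hkJ : j ^ k ∈ J := J.pow_mem hj k
    have hkI : j ^ k ∈ I := by
      rw [hI]
      exact PComponents.mem_pElem (n := 1) hkJ hk1
    have h6 : f ⟨j ^ k, hkI⟩ = a := by
      apply Subtype.ext
      change (QuotientGroup.mk ⟨j ^ k, hJK hkJ⟩ : ↥L ⧸ oddCore ↥L) = a
      rw [← hjm]
      exact ((mk_eq_iff (hJK hj) (hJK hkJ)).mpr hk2).symm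
    have h7 : f ⟨j ^ k, hkI⟩ ∈ f.range := ⟨_, rfl⟩
    rw [hbot, mem_bot, h6] at h7
    exact hF.a1 h7
  have hker : oddCore ↥I = f.ker := by
    have hker2 : (Nat.card f.ker).Coprime 2 := by
      rw [Nat.coprime_two_right]
      have h5 : f.ker.map I.subtype ≤ core L := by
        rintro _ ⟨i, hi, rfl⟩
        exact (hfk i).mp hi
      have h6 := card_dvd_of_le h5
      rw [card_map_of_injective I.subtype_injective] at h6
      exact Odd.of_dvd_nat (odd_card_core L) h6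
    apply le_antisymm
    · intro x hx
      have h4 : (oddCore ↥I).map f = ⊥ := by
        refine WBAut.odd_normal_eq_bot RS (Normal.map inferInstance f hfs) ?_
        rw [← Nat.coprime_two_right]
        exact Nat.Coprime.coprime_dvd_left (Subgroup.card_map_dvd _ f)
          (Cores.pPrimeCore_coprime 2)
      have h5 : f x ∈ (oddCore ↥I).map f := ⟨x, hx, rfl⟩
      rw [h4, mem_bot] at h5
      exact h5
    · exact Cores.le_pPrimeCore inferInstance hker2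
  let e : (↥I ⧸ oddCore ↥I) ≃* ↥M₀ :=
    (QuotientGroup.quotientMulEquivOfEq hker).trans (QuotientGroup.quotientKerEquivOfSurjective f hfs)
  have hcomp : IsComp (L ⊓ centralizer ({v} : Set G)) I := by
    rw [isComp_iff]
    refine ⟨le_inf hIK (hIJ.trans hJv), ?_, ?_, ?_⟩
    · have : (I.subgroupOf (L ⊓ centralizer ({v} : Set G))).Normal :=
        normal_subgroupOf_of_le_normalizer hnI
      exact this.isSubnormal
    · have : Nontrivial (↥I ⧸ oddCore ↥I) := e.toEquiv.nontrivial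
      exact QuasisimpleQuotient.isQuasisimple_of_surjective e.symm.toMonoidHom e.symm.surjective hqs
    · rw [hI]
      apply le_antisymm (PComponents.pElem_le _)
      refine (Subgroup.closure_le _).mpr ?_
      rintro y ⟨hy, n, hn⟩
      exact PComponents.mem_pElem (n := n) (PComponents.mem_pElem (n := n) hy hn) hn
  refine ⟨I, hcomp, ⟨Nat.card E, ?_, hcard.symm⟩, ?_, ?_⟩
  · exact ⟨E, inferInstance, inferInstance, rfl,
      ⟨{ π := e.symm.toMonoidHom.comp RS.π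
         surj := e.symm.surjective.comp RS.surj
         ker := fun x => by
           rw [← RS.ker x]
           exact e.symm.map_eq_one_iff
         two := RS.two }⟩⟩
  · rintro x hx hxv hxM ⟨n, hn⟩
    rw [hI]
    exact PComponents.mem_pElem (n := n) ⟨hx, hxv, hxM⟩ hn
  · intro x hx
    exact ⟨hIK hx, (hIJ hx).2.2⟩

/-- an element of a 2-group in `L` trivial modulo `O(L)` is trivial -/
theorem eq_of_mk {L D : Subgroup G} (hD2 : IsPGroup 2 ↥D) {x y : G} (hx : x ∈ D) (hy : y ∈ D)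
    (hxL : x ∈ L) (hyL : y ∈ L)
    (h : (QuotientGroup.mk ⟨x, hxL⟩ : ↥L ⧸ oddCore ↥L) = QuotientGroup.mk ⟨y, hyL⟩) : x = y := by
  rw [mk_eq_iff hxL hyL] at h
  have h1 : x⁻¹ * y ∈ D := mul_mem (inv_mem hx) hy
  obtain ⟨n, hn⟩ := hD2 ⟨_, h1⟩
  have h2 : (x⁻¹ * y) ^ 2 ^ n = 1 := congrArg Subtype.val hn
  have h3 : Odd (orderOf (x⁻¹ * y)) := by
    have h4 : orderOf (⟨x⁻¹ * y, h⟩ : core L) ∣ Nat.card (core L) := orderOf_dvd_natCard _
    rw [Subgroup.orderOf_mk] at h4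
    exact Odd.of_dvd_nat (odd_card_core L) h4
  have h5 := Cfsg.Agent.OddHalf.D6.PglType.eq_one_of_odd_two ⟨n, h2⟩ h3
  exact (inv_mul_eq_one.1 h5)

/-- `M_f`, `M_{fz}`, involutions `v`, `u` and the dihedral group `D` -/
structure Data (f z v u : G) (L D Mf Me : Subgroup G) (q : ℕ) : Prop where
  mf : IsMc L f Mf
  me : IsMc L (f * z) Me
  zf : z ∈ Mf
  ze : z ∈ Me
  vD : v ∈ D
  uD : u ∈ D
  vf : v ∈ Mf
  ue : u ∈ Me
  vv : v * v = 1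
  uu : u * u = 1
  v1 : v ≠ 1
  u1 : u ≠ 1
  vz : v ≠ z
  uz : u ≠ z
  vu : ∃ k : ℕ, (v * u) ^ (2 * k) = z
  q0 : ∃ q0 : ℕ, L2q q0 Mf ∧ L2q q0 Me ∧ q0 ^ 2 = q
  idxf : ∀ x ∈ D, ∀ y ∈ D, x ∉ Mf → y ∉ Mf → x * y ∈ Mf
  idxe : ∀ x ∈ D, ∀ y ∈ D, x ∉ Me → y ∉ Me → x * y ∈ Me
  noi : ∀ d, d ∈ Mf → d ∈ Me → d * d = 1 → d * z = z * d → d = 1 ∨ d = z
  dih : ∃ (r c : G) (N : ℕ), r ∈ D ∧ c ∈ D ∧ 2 ≤ N ∧ orderOf r = 2 ^ N ∧ z = r ^ 2 ^ (N - 1) ∧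
    c * c = 1 ∧ c * r * c⁻¹ = r⁻¹ ∧ ∀ d ∈ D, (∃ k : ℤ, d = r ^ k) ∨ ∃ k : ℤ, d = r ^ k * c

/-- **the fields `mf, …, q0` of `Full`** -/
theorem exists_data' {L D : Subgroup G} {F : Type} [Field F] [Finite F]
    (R : GH.L2Aut.Rep F (↥L ⧸ oddCore ↥L)) (h9 : 9 < Nat.card F) {f z : G} (hff : f * f = 1)
    (hft : FieldType L R f) (hD : IsSyl L D) (hfD : ∀ d ∈ D, d * f = f * d) (hzD : z ∈ D)
    (hzz : z * z = 1) (hz1 : z ≠ 1) (hzc : ∀ d ∈ D, d * z = z * d) :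
    ∃ (Mf Me : Subgroup G) (v u : G), Data f z v u L D Mf Me (Nat.card F) := by
  obtain ⟨hfN, hf⟩ := hft
  have hzL : z ∈ L := hD.le hzD
  have hzN := le_normalizer (H := L) hzL
  have hfz : f * z = z * f := (hfD z hzD).symm
  have hzfN : f * z ∈ normalizer (L : Set G) := mul_mem hfN hzN
  obtain ⟨φ, hφ⟩ : ∃ φ, φ = act L ⟨f, hfN⟩ := ⟨_, rfl⟩
  obtain ⟨Z, hZ⟩ : ∃ Z : ↥L ⧸ oddCore ↥L, Z = QuotientGroup.mk ⟨z, hzL⟩ := ⟨_, rfl⟩
  have hφφ : φ * φ = 1 := by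
    rw [hφ, ← map_mul]
    have h1 : (⟨f, hfN⟩ : ↥(normalizer (L : Set G))) * ⟨f, hfN⟩ = 1 := Subtype.ext hff
    rw [h1, map_one]
  have hact : act L ⟨f * z, hzfN⟩ = MulAut.conj Z * φ := by
    have h1 : (⟨f * z, hzfN⟩ : ↥(normalizer (L : Set G))) = ⟨z, hzN⟩ * ⟨f, hfN⟩ := Subtype.ext hfz
    rw [h1, map_mul, ← hφ, act_of_mem hzL, hZ]
  rw [← hφ] at hf
  obtain ⟨M₀, hM₀⟩ := exists_fd R h9 hφφ hf
  have hcore : z ∉ core L := by
    intro hc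
    have h3 : Odd (orderOf z) := by
      have h4 : orderOf (⟨z, hc⟩ : core L) ∣ Nat.card (core L) := orderOf_dvd_natCard _
      rw [Subgroup.orderOf_mk] at h4
      exact Odd.of_dvd_nat (odd_card_core L) h4
    exact hz1 (Cfsg.Agent.OddHalf.D6.PglType.eq_one_of_odd_sq hzz h3)
  have hZ1 : Z ≠ 1 := by
    rw [hZ, Ne, mk_eq_one_iff hzL]
    exact hcore
  have hZZ : Z * Z = 1 := by
    rw [hZ]
    change (QuotientGroup.mk (⟨z, hzL⟩ * ⟨z, hzL⟩) : ↥L ⧸ oddCore ↥L) = 1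
    have h1 : (⟨z, hzL⟩ : ↥L) * ⟨z, hzL⟩ = 1 := Subtype.ext hzz
    rw [h1]
    rfl
  have hφd : ∀ (d : G) (hd : d ∈ L), d * f = f * d →
      φ (QuotientGroup.mk ⟨d, hd⟩) = QuotientGroup.mk ⟨d, hd⟩ := by
    intro d hd hdf
    rw [hφ, act_mk hfN hd]
    congr 1
    exact Subtype.ext (by change f * d * f⁻¹ = d; rw [← hdf, mul_inv_cancel_right])
  have hφZ : φ Z = Z := by
    rw [hZ]
    exact hφd z hzL (hfD z hzD)
  have hφφ' : MulAut.conj Z * φ * (MulAut.conj Z * φ) = 1 := by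
    have h1 : φ * MulAut.conj Z = MulAut.conj Z * φ := by
      have h2 := Cfsg.Agent.GH.L2Aut.conj_conj φ Z
      rw [hφZ] at h2
      calc φ * MulAut.conj Z = φ * MulAut.conj Z * φ⁻¹ * φ := by group
        _ = MulAut.conj Z * φ := by rw [h2]
    calc MulAut.conj Z * φ * (MulAut.conj Z * φ) = MulAut.conj Z * (φ * MulAut.conj Z) * φ := by group
      _ = (MulAut.conj Z * MulAut.conj Z) * (φ * φ) := by rw [h1]; group
      _ = 1 := by rw [← map_mul, hZZ, map_one, hφφ, one_mul]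
  have hf' : R.fld (MulAut.conj Z * φ) ≠ 1 := by
    rw [map_mul, R.mem_PGL_iff_fld.1 (R.conj_mem_PGL Z), one_mul]
    exact hf
  obtain ⟨M₁, hM₁⟩ := exists_fd R h9 hφφ' hf'
  -- the Sylow subgroup of `L / O(L)`
  obtain ⟨P, hP⟩ := hD.exists_sylow
  have hsurj : Function.Surjective (QuotientGroup.mk' (oddCore ↥L)) := QuotientGroup.mk'_surjective _
  obtain ⟨S, hS⟩ : ∃ S : Sylow 2 (↥L ⧸ oddCore ↥L), S = P.mapSurjective hsurj := ⟨_, rfl⟩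
  have hmem : ∀ s ∈ S, ∃ (d : G) (hd : d ∈ D), s = QuotientGroup.mk ⟨d, hD.le hd⟩ := by
    intro s hs
    rw [hS] at hs
    obtain ⟨p, hp, rfl⟩ := hs
    have h1 : (p : G) ∈ D := by
      rw [← hP]
      exact ⟨p, hp, rfl⟩
    exact ⟨p, h1, rfl⟩
  have hmem' : ∀ (d : G) (hd : d ∈ D), (QuotientGroup.mk ⟨d, hD.le hd⟩ : ↥L ⧸ oddCore ↥L) ∈ S := by
    intro d hd
    have h1 := hd
    rw [← hP] at h1
    obtain ⟨p, hp, hpd⟩ := h1
    rw [hS]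
    refine ⟨p, hp, ?_⟩
    have h2 : p = ⟨d, hD.le hd⟩ := Subtype.ext hpd
    rw [h2]
    rfl
  have hfixS : ∀ s ∈ S, φ s = s := by
    intro s hs
    obtain ⟨d, hd, rfl⟩ := hmem s hs
    exact hφd d (hD.le hd) (hfD d hd)
  have hZS : Z ∈ S := by
    rw [hZ]
    exact hmem' z hzD
  have hZc : ∀ s ∈ S, s * Z = Z * s := by
    intro s hs
    obtain ⟨d, hd, rfl⟩ := hmem s hs
    rw [hZ]
    change (QuotientGroup.mk (⟨d, hD.le hd⟩ * ⟨z, hzL⟩) : ↥L ⧸ oddCore ↥L) =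
      QuotientGroup.mk (⟨z, hzL⟩ * ⟨d, hD.le hd⟩)
    congr 1
    exact Subtype.ext (hzc d hd)
  have hfixS' : ∀ s ∈ S, (MulAut.conj Z * φ) s = s := by
    intro s hs
    rw [MulAut.mul_apply, hfixS s hs, MulAut.conj_apply, ← hZc s hs, mul_inv_cancel_right]
  have hZM₀ := hM₀.z_mem S hfixS hZS hZZ hZc
  have hZM₁ := hM₁.z_mem S hfixS' hZS hZZ hZc
  obtain ⟨V, hVS, hVM, hVV, hV1, hVZ⟩ := hM₀.exists_v S hfixS Z
  obtain ⟨U, hUS, hUM, hUU, hU1, hUZ⟩ := hM₁.exists_v S hfixS' Z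
  obtain ⟨-, k, hk⟩ := hM₀.orderOf_mul hM₁ S hfixS hZS hZZ hZ1 hZc hVS hUS hVM hUM hVV hV1 hVZ hUU
    hU1 hUZ
  obtain ⟨v, hv, rfl⟩ := hmem V hVS
  obtain ⟨u, hu, rfl⟩ := hmem U hUS
  obtain ⟨Mf, hMf, ⟨q0, hq0, hq0'⟩, hMf2, hMf3⟩ := exists_mc R h9 hff hfN (by rw [← hφ]; exact hM₀)
  have hffz : f * z * (f * z) = 1 := by
    calc f * z * (f * z) = f * (z * f) * z := by group
      _ = (f * f) * (z * z) := by rw [← hfz]; group
      _ = 1 := by rw [hff, hzz, one_mul]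
  obtain ⟨Me, hMe, ⟨q1, hq1, hq1'⟩, hMe2, hMe3⟩ := exists_mc R h9 hffz hzfN (by rw [hact]; exact hM₁)
  have hq : q1 = q0 := by
    have h1 : q1 ^ 2 = q0 ^ 2 := by rw [hq0', hq1']
    exact Nat.pow_left_injective (n := 2) (by norm_num) h1
  rw [hq] at hq1
  have htwo : ∀ d ∈ D, ∃ n, d ^ 2 ^ n = 1 := by
    intro d hd
    obtain ⟨n, hn⟩ := hD.two ⟨d, hd⟩
    exact ⟨n, congrArg Subtype.val hn⟩
  have hDfz : ∀ d ∈ D, d * (f * z) = f * z * d := by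
    intro d hd
    rw [← mul_assoc, hfD d hd, mul_assoc, hzc d hd, mul_assoc]
  rw [hZ] at hZM₀ hZM₁
  have hsq : ∀ (d : G) (hd : d ∈ D),
      (QuotientGroup.mk ⟨d, hD.le hd⟩ : ↥L ⧸ oddCore ↥L) * QuotientGroup.mk ⟨d, hD.le hd⟩ = 1 →
      d * d = 1 := by
    intro d hd h1
    exact eq_of_mk hD.two (mul_mem hd hd) (one_mem D) (hD.le (mul_mem hd hd)) (one_mem L) h1
  have hne1 : ∀ (d : G) (hd : d ∈ D), (QuotientGroup.mk ⟨d, hD.le hd⟩ : ↥L ⧸ oddCore ↥L) ≠ 1 →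
      d ≠ 1 := by
    rintro d hd h1 rfl
    exact h1 rfl
  have hneZ : ∀ (d : G) (hd : d ∈ D), (QuotientGroup.mk ⟨d, hD.le hd⟩ : ↥L ⧸ oddCore ↥L) ≠ Z →
      d ≠ z := by
    rintro d hd h1 rfl
    exact h1 hZ.symm
  have hidx : ∀ (c : G) (M : Subgroup G) (ψ : MulAut (↥L ⧸ oddCore ↥L))
      (N : Subgroup (↥L ⧸ oddCore ↥L)), Fd R ψ N → (∀ s ∈ S, ψ s = s) → (∀ d ∈ D, d * c = c * d) →
      (∀ (x : G) (hx : x ∈ L), x * c = c * x → (QuotientGroup.mk ⟨x, hx⟩ : ↥L ⧸ oddCore ↥L) ∈ N →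
        (∃ n, x ^ 2 ^ n = 1) → x ∈ M) → ∀ x ∈ D, ∀ y ∈ D, x ∉ M → y ∉ M → x * y ∈ M := by
    intro c M ψ N hN hψ hc h2 x hx y hy hxM hyM
    have hx' : (QuotientGroup.mk ⟨x, hD.le hx⟩ : ↥L ⧸ oddCore ↥L) ∉ N := fun h =>
      hxM (h2 x (hD.le hx) (hc x hx) h (htwo x hx))
    have hy' : (QuotientGroup.mk ⟨y, hD.le hy⟩ : ↥L ⧸ oddCore ↥L) ∉ N := fun h =>
      hyM (h2 y (hD.le hy) (hc y hy) h (htwo y hy))
    exact h2 (x * y) (hD.le (mul_mem hx hy)) (hc _ (mul_mem hx hy))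
      (hN.idx _ _ (hψ _ (hmem' x hx)) (hψ _ (hmem' y hy)) hx' hy') (htwo _ (mul_mem hx hy))
  have hvu : ∃ k : ℕ, (v * u) ^ (2 * k) = z := by
    refine ⟨k, ?_⟩
    refine eq_of_mk hD.two (pow_mem (mul_mem hv hu) _) hzD (hD.le (pow_mem (mul_mem hv hu) _)) hzL ?_
    rw [← hZ, ← hk]
    rfl
  have hnoi : ∀ d, d ∈ Mf → d ∈ Me → d * d = 1 → d * z = z * d → d = 1 ∨ d = z := by
    intro d hdf hde hdd hdz
    by_cases hd1 : d = 1
    · exact Or.inl hd1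
    right
    obtain ⟨hdL, hdM⟩ := hMf3 d hdf
    obtain ⟨hdL', hdM'⟩ := hMe3 d hde
    have hdcore : ∀ e : G, e * e = 1 → e ∈ core L → e = 1 := by
      intro e hee hc
      have h3 : Odd (orderOf e) := by
        have h4 : orderOf (⟨e, hc⟩ : core L) ∣ Nat.card (core L) := orderOf_dvd_natCard _
        rw [Subgroup.orderOf_mk] at h4
        exact Odd.of_dvd_nat (odd_card_core L) h4
      exact Cfsg.Agent.OddHalf.D6.PglType.eq_one_of_odd_sq hee h3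
    have h1 := hM₀.eq_z hM₁ hZZ hZ1 (by rw [hZ]; exact hZM₀) (by rw [hZ]; exact hZM₁)
      (v := QuotientGroup.mk ⟨d, hdL⟩) (by
        change (QuotientGroup.mk (⟨d, hdL⟩ * ⟨d, hdL⟩) : ↥L ⧸ oddCore ↥L) = 1
        have h1 : (⟨d, hdL⟩ : ↥L) * ⟨d, hdL⟩ = 1 := Subtype.ext hdd
        rw [h1]
        rfl) (by
        rw [Ne, mk_eq_one_iff hdL]
        exact fun h => hd1 (hdcore d hdd h)) (by
        rw [hZ]
        change (QuotientGroup.mk (⟨d, hdL⟩ * ⟨z, hzL⟩) : ↥L ⧸ oddCore ↥L) =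
          QuotientGroup.mk (⟨z, hzL⟩ * ⟨d, hdL⟩)
        congr 1
        exact Subtype.ext hdz) hdM hdM'
    rw [hZ, mk_eq_iff hdL hzL] at h1
    have hdi : d⁻¹ = d := inv_eq_of_mul_eq_one_left hdd
    rw [hdi] at h1
    have h2 : d * z * (d * z) = 1 := by
      calc d * z * (d * z) = d * (z * d) * z := by group
        _ = (d * d) * (z * z) := by rw [← hdz]; group
        _ = 1 := by rw [hdd, hzz, one_mul]
    have h3 := hdcore _ h2 h1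
    rw [← hdi, inv_mul_eq_one] at h3
    exact h3
  have hdih : ∃ (r c : G) (N : ℕ), r ∈ D ∧ c ∈ D ∧ 2 ≤ N ∧ orderOf r = 2 ^ N ∧ z = r ^ 2 ^ (N - 1) ∧
      c * c = 1 ∧ c * r * c⁻¹ = r⁻¹ ∧ ∀ d ∈ D, (∃ k : ℤ, d = r ^ k) ∨ ∃ k : ℤ, d = r ^ k * c := by
    have hfin : Finite (↥L ⧸ oddCore ↥L) := R.finite
    obtain ⟨r', c', hd, hdd, -, -⟩ := hM₀.exists_dih S hfixS
    obtain ⟨n, hn, h1, h2⟩ := hd.exists_z S.2
    have hzr := hM₀.central_rot S hd hdd hZS hZc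
    obtain ⟨r, hr, rfl⟩ := hmem r' hd.d_mem
    obtain ⟨c, hc, rfl⟩ := hmem c' hd.r_mem
    have hmkpow : ∀ (m : ℕ), (QuotientGroup.mk ⟨r, hD.le hr⟩ : ↥L ⧸ oddCore ↥L) ^ m =
        QuotientGroup.mk ⟨r ^ m, hD.le (pow_mem hr m)⟩ := fun m => rfl
    have hmkzpow : ∀ (m : ℤ), (QuotientGroup.mk ⟨r, hD.le hr⟩ : ↥L ⧸ oddCore ↥L) ^ m =
        QuotientGroup.mk ⟨r ^ m, hD.le (zpow_mem hr m)⟩ := fun m => rfl
    have hn0 : n ≠ 0 := by
      rintro rfl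
      apply hdd
      rw [pow_zero, pow_one] at h1
      exact h1
    -- the order of `r`
    have hordr : orderOf r = 2 ^ (n + 1) := by
      rw [← hn]
      apply Nat.dvd_antisymm
      · rw [orderOf_dvd_iff_pow_eq_one]
        refine eq_of_mk hD.two (pow_mem hr _) (one_mem D) (hD.le (pow_mem hr _)) (one_mem L) ?_
        rw [← hmkpow, pow_orderOf_eq_one]
        rfl
      · rw [orderOf_dvd_iff_pow_eq_one, hmkpow]
        have h3 : (⟨r ^ orderOf r, hD.le (pow_mem hr _)⟩ : ↥L) = 1 :=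
          Subtype.ext (pow_orderOf_eq_one r)
        rw [h3]
        rfl
    -- `Z` is the involution of `⟨r⟩`
    have hZr : Z = (QuotientGroup.mk ⟨r, hD.le hr⟩ : ↥L ⧸ oddCore ↥L) ^ 2 ^ n := by
      by_contra hne
      have h3 : (QuotientGroup.mk ⟨r, hD.le hr⟩ : ↥L ⧸ oddCore ↥L) ^ 2 ^ n ∈
          Subgroup.zpowers (QuotientGroup.mk ⟨r, hD.le hr⟩ : ↥L ⧸ oddCore ↥L) :=
        Subgroup.pow_mem _ (Subgroup.mem_zpowers _) _
      exact Cfsg.Agent.GH.L2Aut.four_not_cyc ⟨hZZ, h1, hZ1, h2, hne,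
        (hZc _ (pow_mem (hmem' r hr) (2 ^ n))).symm⟩ hzr h3
    refine ⟨r, c, n + 1, hr, hc, by omega, hordr, ?_, ?_, ?_, ?_⟩
    · rw [Nat.add_sub_cancel]
      refine eq_of_mk hD.two hzD (pow_mem hr _) hzL (hD.le (pow_mem hr _)) ?_
      rw [← hZ, hZr]
      rfl
    · exact hsq c hc hd.rr
    · have h3 := hd.rd
      refine eq_of_mk hD.two (mul_mem (mul_mem hc hr) (inv_mem hc)) (inv_mem hr)
        (hD.le (mul_mem (mul_mem hc hr) (inv_mem hc))) (hD.le (inv_mem hr)) h3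
    · intro d hdD
      rcases hd.cov _ (hmem' d hdD) with ⟨m, hm⟩ | ⟨m, hm⟩
      · left
        refine ⟨m, ?_⟩
        exact eq_of_mk hD.two hdD (zpow_mem hr m) (hD.le hdD) (hD.le (zpow_mem hr m)) hm.symm
      · right
        refine ⟨m, ?_⟩
        exact eq_of_mk hD.two hdD (mul_mem (zpow_mem hr m) hc) (hD.le hdD)
          (hD.le (mul_mem (zpow_mem hr m) hc)) hm
  exact ⟨Mf, Me, v, u, {
    mf := hMf
    me := hMe
    zf := hMf2 z hzL (hfD z hzD) hZM₀ (htwo z hzD)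
    ze := hMe2 z hzL (hDfz z hzD) hZM₁ (htwo z hzD)
    vD := hv
    uD := hu
    vf := hMf2 v (hD.le hv) (hfD v hv) hVM (htwo v hv)
    ue := hMe2 u (hD.le hu) (hDfz u hu) hUM (htwo u hu)
    vv := hsq v hv hVV
    uu := hsq u hu hUU
    v1 := hne1 v hv hV1
    u1 := hne1 u hu hU1
    vz := hneZ v hv hVZ
    uz := hneZ u hu hUZ
    vu := hvu
    q0 := ⟨q0, hq0, hq1, hq0'⟩
    idxf := hidx f Mf φ M₀ hM₀ hfixS hfD hMf2
    idxe := hidx (f * z) Me _ M₁ hM₁ hfixS' hDfz hMe2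
    noi := hnoi
    dih := hdih }⟩

/-- the same without `idxf`, `idxe`, `noi`, `dih` -/
theorem exists_data {L D : Subgroup G} {F : Type} [Field F] [Finite F]
    (R : GH.L2Aut.Rep F (↥L ⧸ oddCore ↥L)) (h9 : 9 < Nat.card F) {f z : G} (hff : f * f = 1)
    (hft : FieldType L R f) (hD : IsSyl L D) (hfD : ∀ d ∈ D, d * f = f * d) (hzD : z ∈ D)
    (hzz : z * z = 1) (hz1 : z ≠ 1) (hzc : ∀ d ∈ D, d * z = z * d) :
    ∃ (Mf Me : Subgroup G) (v u : G), IsMc L f Mf ∧ IsMc L (f * z) Me ∧ z ∈ Mf ∧ z ∈ Me ∧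
      v ∈ D ∧ u ∈ D ∧ v ∈ Mf ∧ u ∈ Me ∧ v * v = 1 ∧ u * u = 1 ∧ v ≠ 1 ∧ u ≠ 1 ∧ v ≠ z ∧ u ≠ z ∧
      (∃ k : ℕ, (v * u) ^ (2 * k) = z) ∧
      ∃ q0 : ℕ, L2q q0 Mf ∧ L2q q0 Me ∧ q0 ^ 2 = Nat.card F := by
  obtain ⟨Mf, Me, v, u, h⟩ := exists_data' R h9 hff hft hD hfD hzD hzz hz1 hzc
  exact ⟨Mf, Me, v, u, h.mf, h.me, h.zf, h.ze, h.vD, h.uD, h.vf, h.ue, h.vv, h.uu, h.v1, h.u1, h.vz,
    h.uz, h.vu, h.q0⟩

end Cfsg.Agent.UGT.Q2.MfData
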