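import Cfsg.Agent.UGT.Q2.Defs
import Cfsg.Agent.UGT.L2Inner.WBField

/-!
# N5, `|Q| = 2`: `q ≠ 9`

`triple_nine_lt`: an inner triple of type `PSL(2,F)`, where `F` has an automorphism of order 2, has `|F| > 9`.
-/

set_option autoImplicit false

open Cfsg Subgroup
open Cfsg.Agent.SignalizersComponents Cfsg.Agent.Lib
open Cfsg.Agent.SignalizersComponents.IntrinsicBasic
open Cfsg.Agent.Intrinsic.Basic Cfsg.Agent.Intrinsic.Cen Cfsg.Agent.Intrinsic.Diag
open Cfsg.Agent.McLLyComp.Act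
open Cfsg.Agent.UGT.Triple Cfsg.Agent.UGT.TriBase Cfsg.Agent.UGT.Iface Cfsg.Agent.UGT.L2Inner

namespace Cfsg.Agent.UGT.Q2

section inner

open Cfsg.Agent.GH.L2Aut

variable {F : Type*} [Field F] [Finite F] {L : Type*} [Group L] (R : GH.L2Aut.Rep F L)

local notation "M2" => Matrix (Fin 2) (Fin 2) F

/-- elements of `PGL(2,9)` commuting with an involution of `PSL(2,9)` -/
theorem pow_of_inner (h9 : Nat.card F = 9) {y : L} {σ : MulAut L} (hyy : y * y = 1) (hy1 : y ≠ 1)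
    (hσ : σ ∈ R.PGL) (hc : σ * MulAut.conj y = MulAut.conj y * σ) : σ ^ 8 = 1 := by
  have hC := charP_three h9
  have : Fact (Nat.Prime 3) := ⟨Nat.prime_three⟩
  have : Fintype F := Fintype.ofFinite F
  have hcard : Fintype.card F = 9 := by rw [← Nat.card_eq_fintype_card, h9]
  obtain ⟨t, rfl⟩ := R.mem_PGL.1 hσ
  obtain ⟨s, rfl⟩ := R.surj y
  rw [R.conj_π] at hc
  obtain ⟨g, hg⟩ : ∃ g, g = Matrix.SpecialLinearGroup.toGL s := ⟨_, rfl⟩
  have hdet : g.1.det = 1 := by rw [hg]; exact s.2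
  have hφ1 : R.gl g ≠ 1 := by
    rw [hg, ← R.conj_π]
    exact fun h => hy1 (R.conj_injective (by rw [h, map_one]))
  have hφφ : R.gl g * R.gl g = 1 := by
    rw [hg, ← R.conj_π, ← map_mul, hyy, map_one]
  rw [← hg] at hc
  have hs := R.not_scalar_of_ne hφ1
  have htr := R.tr_of_inv hφ1 hφφ
  rcases R.comm_cases hc with h | h
  · obtain ⟨a, b, hab⟩ := exists_ab hs h.symm
    have hg2 : g.1 * g.1 = (-1 : F) • (1 : M2) := by rw [Rep.sq_of_tr htr, hdet]
    have hpow9 : ∀ x : F, x ^ 9 = x := by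
      intro x
      rw [← hcard]
      exact FiniteField.pow_card x
    have hg9 : g.1 ^ 9 = g.1 := by
      have h1 : g.1 ^ 2 = (-1 : F) • (1 : M2) := by rw [pow_two, hg2]
      calc g.1 ^ 9 = (g.1 ^ 2) ^ 4 * g.1 := by rw [← pow_mul, ← pow_succ]
        _ = ((-1 : F) • (1 : M2)) ^ 4 * g.1 := by rw [h1]
        _ = g.1 := by
          rw [smul_pow, one_pow, Matrix.smul_mul, Matrix.one_mul]
          norm_num
    have ht9 : t.1 ^ 9 = t.1 := by
      have hcm : Commute (a • (1 : M2)) (b • g.1) := by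
        change a • (1 : M2) * (b • g.1) = b • g.1 * (a • (1 : M2))
        rw [Matrix.smul_mul, Matrix.one_mul, Matrix.mul_smul, Matrix.mul_one]
      have h1 := add_pow_char_pow_of_commute (p := 3) (n := 2) hcm
      rw [show (3 : ℕ) ^ 2 = 9 by norm_num] at h1
      rw [hab, h1, smul_pow, smul_pow, one_pow, hpow9, hpow9, hg9]
    have h3 : t ^ 9 = t := Units.ext (by rw [Units.val_pow_eq_pow_val]; exact ht9)
    have h4 : t ^ 8 = 1 := by
      rw [pow_succ] at h3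
      exact mul_right_cancel (b := t) (by rw [h3, one_mul])
    rw [← map_pow, h4, map_one]
  · have h1 := R.anticomm_inv h
    rw [show (8 : ℕ) = 2 * 4 by norm_num, pow_mul, pow_two, h1, one_pow]

end inner

variable {G : Type*} [Group G] [Finite G]

theorem triple_nine_lt {x a : G} {L : Subgroup G} (hT : IsTriple x a L) {F : Type*} [Field F] [Finite F]
    (R : GH.L2Aut.Rep F (↥L ⧸ oddCore ↥L)) (hin : IsInner x L)
    (hf : ∃ φ : MulAut (↥L ⧸ oddCore ↥L), φ * φ = 1 ∧ R.fld φ ≠ 1) : 9 < Nat.card F := by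
  obtain ⟨φ, hφφ, hφ⟩ := hf
  have hord : orderOf (R.fld φ) = 2 := by
    rw [orderOf_eq_prime_iff]
    exact ⟨by rw [sq, ← map_mul, hφφ, map_one], hφ⟩
  obtain ⟨K₀, hK₀, hcard⟩ := GH.L2Aut.exists_fixed_field (R.fld φ)
  rw [hord] at hcard
  have h1 : Odd (Nat.card K₀) := GH.L2Aut.odd_card (GH.L2Aut.two_sub R.two K₀)
  have h2 : 1 < Nat.card K₀ := Finite.one_lt_card
  by_contra hlt
  have h3 : Nat.card K₀ ≤ 3 := by
    by_contra h
    push Not at h
    have h4 : 4 ≤ Nat.card K₀ := h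
    have := Nat.pow_le_pow_left h4 2
    omega
  have h9 : Nat.card F = 9 := by
    obtain ⟨k, hk⟩ := h1
    have h4 : Nat.card K₀ = 3 := by omega
    rw [hcard, h4]
    norm_num
  obtain ⟨d, hd, hda, hfd⟩ := hT.bad
  have hdN := hT.mem_normalizer_of_core hd hda
  apply hfd
  rw [← act_eq_one_iff hdN]
  have hodd : Odd (orderOf (act L ⟨d, hdN⟩)) := by
    have h5 : Odd (orderOf d) := by
      refine Odd.of_dvd_nat (odd_card_core (centralizer ({x} : Set G))) ?_
      have h6 : orderOf (⟨d, hd⟩ : ↥(core (centralizer ({x} : Set G)))) ∣ _ := orderOf_dvd_natCard _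
      rwa [Subgroup.orderOf_mk] at h6
    refine Odd.of_dvd_nat h5 ((orderOf_map_dvd (act L) ⟨d, hdN⟩).trans ?_)
    rw [Subgroup.orderOf_mk]
  -- in `PGL`
  have hP : act L ⟨d, hdN⟩ ∈ R.PGL := by
    rw [R.mem_PGL_iff_fld]
    obtain ⟨K₁, hK₁, hcard₁⟩ := GH.L2Aut.exists_fixed_field (R.fld (act L ⟨d, hdN⟩))
    have h4 : Odd (orderOf (R.fld (act L ⟨d, hdN⟩))) := Odd.of_dvd_nat hodd (orderOf_map_dvd _ _)
    have h5 : Odd (Nat.card K₁) := GH.L2Aut.odd_card (GH.L2Aut.two_sub R.two K₁)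
    have h6 : 1 < Nat.card K₁ := Finite.one_lt_card
    have h7 : 3 ≤ Nat.card K₁ := by
      obtain ⟨k, hk⟩ := h5
      omega
    rw [← orderOf_eq_one_iff]
    by_contra hne
    have h8 : 3 ≤ orderOf (R.fld (act L ⟨d, hdN⟩)) := by
      obtain ⟨k, hk⟩ := h4
      omega
    have h10 : 3 ^ 3 ≤ Nat.card K₁ ^ orderOf (R.fld (act L ⟨d, hdN⟩)) :=
      (Nat.pow_le_pow_left h7 3).trans (Nat.pow_le_pow_right (by omega) h8)
    rw [← hcard₁, h9] at h10
    norm_num at h10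
  -- the inner involution
  obtain ⟨r, hr, hfix⟩ := hin
  have hxN := hT.x_mem
  have hxr : act L ⟨x, hxN⟩ = MulAut.conj (QuotientGroup.mk ⟨r, hr⟩ : ↥L ⧸ oddCore ↥L) := by
    have e1 : (⟨x, hxN⟩ : ↥(normalizer (L : Set G))) =
        ⟨x * r⁻¹, hfix.1⟩ * ⟨r, le_normalizer hr⟩ := Subtype.ext (by
      change x = x * r⁻¹ * r
      group)
    rw [e1, map_mul, (act_eq_one_iff hfix.1).2 hfix, one_mul]
    ext k
    obtain ⟨k, rfl⟩ := QuotientGroup.mk_surjective k
    rw [act_mk (le_normalizer hr) k.2]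
    rfl
  have hxx := sq_of_order hT.invx
  have hact : act L ⟨x, hxN⟩ * act L ⟨x, hxN⟩ = 1 := by
    rw [← map_mul]
    have : (⟨x, hxN⟩ : ↥(normalizer (L : Set G))) * ⟨x, hxN⟩ = 1 := Subtype.ext hxx
    rw [this, map_one]
  have hinj := R.conj_injective
  have h8 := pow_of_inner R h9 (y := (QuotientGroup.mk ⟨r, hr⟩ : ↥L ⧸ oddCore ↥L))
    (hinj (by rw [map_mul, ← hxr, hact, map_one]))
    (fun h => hT.not_fixes ((act_eq_one_iff hxN).1 (by rw [hxr, h, map_one])))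
    hP (by
      rw [← hxr, ← map_mul, ← map_mul]
      congr 1
      exact Subtype.ext (comm_c (core_le _ hd)))
  exact Cfsg.Agent.OddHalf.D6.PglType.eq_one_of_odd_two ⟨3, by norm_num; exact h8⟩ hodd

end Cfsg.Agent.UGT.Q2
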