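import Cfsg.Agent.GH.L2QTwo.Frame
import Cfsg.Agent.GH.Rank
import Cfsg.Agent.S0501

/-!
# `|Q| = 2`: a square root of `x` centralising `D` gives sectional 2-rank at most 4

`rank_of_sq`: in the frame `Cfsg.Agent.GH.L2QTwo.Frame` let `f ∈ T` with `f² = x`, `f` of field type and centralising
`D`. If `T` has sectional rank at most 4, then so has `G`.
-/

set_option autoImplicit false

open Cfsg Subgroup

namespace Cfsg.Agent.UGT.Q2

open Cfsg.Agent.GH.L2QTwo

namespace RankSq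

variable {G A : Type*} [Group G] [Group A] {x : G} {K T D : Subgroup G} {d : ℕ} {r c : G} {o1 : G → ℤˣ}
  {o2 : G → A}

/-- `C_S(x) = T` -/
theorem mem_T [Finite G] (F : Frame x K T D d r c o1 o2) {S : Subgroup G} (hS : IsPGroup 2 S) (hTS : T ≤ S)
    {g : G} (hg : g ∈ S) (hx : x * g = g * x) : g ∈ T := by
  have hle : T ≤ S ⊓ centralizer ({x} : Set G) := by
    intro t ht
    exact ⟨hTS ht, mem_centralizer_singleton_iff.2 (F.T_comm t ht).symm⟩
  have hP : IsPGroup 2 ↥(S ⊓ centralizer ({x} : Set G)) := hS.to_le inf_le_left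
  obtain ⟨y, -, hy⟩ := F.T_syl _ hP (fun p hp => (mem_centralizer_singleton_iff.1 hp.2).symm)
  have hcard : Nat.card ↥(S ⊓ centralizer ({x} : Set G)) ≤ Nat.card T := by
    let φ : ↥(S ⊓ centralizer ({x} : Set G)) → T := fun p => ⟨y * p * y⁻¹, hy p p.2⟩
    refine Nat.card_le_card_of_injective φ ?_
    intro p q hpq
    have h1 : y * (p : G) * y⁻¹ = y * (q : G) * y⁻¹ := congrArg Subtype.val hpq
    exact Subtype.ext (mul_left_cancel (mul_right_cancel h1))
  have heq := Subgroup.eq_of_le_of_card_ge hle hcard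
  rw [heq]
  exact ⟨hg, mem_centralizer_singleton_iff.2 hx.symm⟩

theorem d_ge3 (F : Frame x K T D d r c o1 o2) {f : G} (hf : f ∈ T) (hne : o2 f ≠ 1) : 3 ≤ d := by
  by_contra hd
  have h2 : d = 2 := by have := F.d_ge; omega
  exact hne (F.small h2 f hf).1

theorem o1_f (F : Frame x K T D d r c o1 o2) {f : G} (hf : f ∈ T) (hne : o2 f ≠ 1)
    (hD : ∀ e ∈ D, f * e = e * f) : o1 f = 1 := by
  rw [F.swap (d_ge3 F hf hne) f hf 0 (by rw [hD c F.c_mem]; group)]
  exact Even.zero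

theorem xe_sq (F : Frame x K T D d r c o1 o2) {e : G} (he : e ∈ D) : x * e * (x * e) = e * e := by
  calc x * e * (x * e) = x * (e * x) * e := by group
    _ = x * (x * e) * e := by rw [F.x_comm_D he]
    _ = (x * x) * (e * e) := by group
    _ = e * e := by rw [F.xx, one_mul]

/-- the involutions of `T` with `o1 = 1` -/
theorem invol_form (F : Frame x K T D d r c o1 o2) {f : G} (hf : f ∈ T) (hff : f * f = x) (hne : o2 f ≠ 1)
    (hD : ∀ e ∈ D, f * e = e * f) {u : G} (hu : u ∈ T) (huu : u * u = 1) (h1 : o1 u = 1) :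
    ∃ e ∈ D, e * e = 1 ∧ (u = e ∨ u = x * e) := by
  by_cases h2 : o2 u = 1
  · obtain ⟨e, he, h3 | h3⟩ := F.ker u hu h1 h2
    · exact ⟨e, he, by rw [← h3, huu], Or.inl h3⟩
    · exact ⟨e, he, by rw [← xe_sq F he, ← h3, huu], Or.inr h3⟩
  · exfalso
    have h3 : o2 f * o2 f = 1 := by rw [← F.o2_mul' hf hf, hff, F.o2_x]
    have h4 : o2 f = o2 u := F.A_inv _ _ h3 hne (F.o2_invol hu huu) h2
    have h5 : o1 (f * u) = 1 := by rw [F.o1_mul' hf hu, o1_f F hf hne hD, h1, one_mul]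
    have h6 : o2 (f * u) = 1 := by rw [F.o2_mul' hf hu, ← h4, h3]
    have key : ∀ e ∈ D, ∀ w : G, w = f * u → (w = e ∨ w = x * e) → False := by
      intro e he w hw h7
      have h8 : f⁻¹ * w = u := by rw [hw]; group
      have hw2 : w * w = e * e := by
        rcases h7 with h7 | h7
        · rw [h7]
        · rw [h7, xe_sq F he]
      have hcomm : f * w = w * f := by
        rcases h7 with h7 | h7
        · rw [h7, hD e he]
        · rw [h7, ← mul_assoc, ← F.T_comm f hf, mul_assoc, hD e he, mul_assoc]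
      have h9 : e * e = x := by
        have h10 : u * u = (f * f)⁻¹ * (w * w) := by
          rw [← h8]
          have hc : Commute f w := hcomm
          have hc' : f⁻¹ * w = w * f⁻¹ := hc.inv_left
          calc f⁻¹ * w * (f⁻¹ * w) = f⁻¹ * (w * f⁻¹) * w := by group
            _ = f⁻¹ * (f⁻¹ * w) * w := by rw [hc']
            _ = _ := by group
        rw [huu, hff, hw2] at h10
        exact (inv_mul_eq_one.1 h10.symm).symm
      exact F.x_not (by rw [← h9]; exact D.mul_mem he he)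
    obtain ⟨e, he, h7⟩ := F.ker _ (T.mul_mem hf hu) h5 h6
    exact key e he _ rfl h7

/-- product of two reflections -/
theorem refl_mul (F : Frame x K T D d r c o1 o2) (k l : ℤ) : r ^ k * c * (r ^ l * c) = r ^ (k - l) := by
  calc r ^ k * c * (r ^ l * c) = r ^ k * (c * r ^ l) * c := by group
    _ = r ^ k * (r ^ (-l) * c) * c := by rw [F.c_rk]
    _ = r ^ k * r ^ (-l) * (c * c) := by group
    _ = r ^ (k - l) := by rw [F.cc, mul_one, ← zpow_add, sub_eq_add_neg]

theorem four_dvd (hd : 3 ≤ d) {k : ℤ} (F : Frame x K T D d r c o1 o2) (h : r ^ k * r ^ k = 1) : Even k := by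
  rw [← zpow_add, F.rk_one] at h
  have h3 : (2 : ℤ) ^ 2 ∣ 2 ^ (d - 1) := pow_dvd_pow 2 (by omega)
  have h4 := h3.trans h
  norm_num at h4
  obtain ⟨m, hm⟩ := h4
  exact ⟨m, by omega⟩

/-- conjugates of reflections -/
theorem conj_refl (F : Frame x K T D d r c o1 o2) {t : G} {l m : ℤ} (hl : t * r * t⁻¹ = r ^ l)
    (hm : t * c * t⁻¹ = r ^ m * c) (k : ℤ) : t * (r ^ k * c) * t⁻¹ = r ^ (l * k + m) * c := by
  calc t * (r ^ k * c) * t⁻¹ = (t * r ^ k * t⁻¹) * (t * c * t⁻¹) := by group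
    _ = r ^ (l * k) * (r ^ m * c) := by rw [F.conj_rk hl, hm]
    _ = r ^ (l * k + m) * c := by rw [zpow_add, mul_assoc]

/-- CASE A: a normal elementary abelian subgroup of `S` contains no reflection of `D` and no `x`-multiple of one -/
theorem no_refl (F : Frame x K T D d r c o1 o2) (hd : 3 ≤ d)
    (hA : 4 ≤ d ∨ ∃ t ∈ T, o1 t ≠ 1) {U : Subgroup G} (hUn : ∀ g ∈ T, ∀ u ∈ U, g * u * g⁻¹ ∈ U)
    (hU2 : ∀ u ∈ U, u * u = 1) {k : ℤ} (h : r ^ k * c ∈ U ∨ x * (r ^ k * c) ∈ U) : False := by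
  -- an element `t` of `T` such that `t (r^k c) t⁻¹ = r^j c` and `r^(k - j)` is of order at least 4
  have hex : ∃ t ∈ T, ∃ j : ℤ, t * (r ^ k * c) * t⁻¹ = r ^ j * c ∧ r ^ (k - j) * r ^ (k - j) ≠ 1 := by
    rcases hA with h4 | ⟨t, ht, h1⟩
    · refine ⟨r, F.r_T, k + 2, ?_, ?_⟩
      · have h5 := conj_refl F (t := r) (l := 1) (m := 2) (by group) (by
          have h6 : c * r⁻¹ = r * c := by
            have := F.c_rk (-1)
            rwa [zpow_neg_one, neg_neg, zpow_one] at this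
          rw [mul_assoc, h6, zpow_two, mul_assoc]) k
        rw [h5, one_mul]
      · intro h5
        rw [← zpow_add, F.rk_one] at h5
        have h3 : (2 : ℤ) ^ 3 ∣ 2 ^ (d - 1) := pow_dvd_pow 2 (by omega)
        have h4 := h3.trans h5
        norm_num at h4
    · obtain ⟨l, hlo, hl⟩ := F.conj_r hd ht
      obtain ⟨m, hm⟩ := F.conj_c hd ht
      have hmo : Odd m := by
        rw [← Int.not_even_iff_odd]
        intro h2
        exact h1 ((F.swap hd t ht m hm).2 h2)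
      refine ⟨t, ht, l * k + m, conj_refl F hl hm k, ?_⟩
      intro h2
      have h3 := four_dvd hd F h2
      obtain ⟨a, rfl⟩ := hlo
      obtain ⟨b, rfl⟩ := hmo
      obtain ⟨e, he⟩ := h3
      have h9 : k - ((2 * a + 1) * k + (2 * b + 1)) = 2 * (-(a * k) - b) - 1 := by ring
      rw [h9] at he
      omega
  obtain ⟨t, ht, j, hj, hne⟩ := hex
  apply hne
  rcases h with h | h
  · have h1 := U.mul_mem h (hUn t ht _ h)
    rw [hj, refl_mul F] at h1
    exact hU2 _ h1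
  · have h0 : t * (x * (r ^ k * c)) * t⁻¹ = x * (r ^ j * c) := by
      calc t * (x * (r ^ k * c)) * t⁻¹ = (t * x) * (r ^ k * c) * t⁻¹ := by group
        _ = (x * t) * (r ^ k * c) * t⁻¹ := by rw [F.T_comm t ht]
        _ = x * (t * (r ^ k * c) * t⁻¹) := by group
        _ = _ := by rw [hj]
    have h1 := U.mul_mem h (hUn t ht _ h)
    rw [h0] at h1
    have h2 : x * (r ^ k * c) * (x * (r ^ j * c)) = r ^ (k - j) := by
      calc x * (r ^ k * c) * (x * (r ^ j * c)) = x * ((r ^ k * c) * x) * (r ^ j * c) := by group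
        _ = x * (x * (r ^ k * c)) * (r ^ j * c) := by rw [F.x_comm_D (F.refl_mem k)]
        _ = (x * x) * (r ^ k * c * (r ^ j * c)) := by group
        _ = r ^ (k - j) := by rw [F.xx, one_mul, refl_mul F]
    rw [h2] at h1
    exact hU2 _ h1

/-- CASE A: `U ∩ T ≤ ⟨x, z⟩` -/
theorem UT_form (F : Frame x K T D d r c o1 o2) {f : G} (hf : f ∈ T) (hff : f * f = x) (hne : o2 f ≠ 1)
    (hD : ∀ e ∈ D, f * e = e * f) (hA : 4 ≤ d ∨ ∃ t ∈ T, o1 t ≠ 1) {U : Subgroup G}
    (hUn : ∀ g ∈ T, ∀ u ∈ U, g * u * g⁻¹ ∈ U) (hU2 : ∀ u ∈ U, u * u = 1) {u : G} (hu : u ∈ U)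
    (huT : u ∈ T) : u = 1 ∨ u = r ^ 2 ^ (d - 2) ∨ u = x ∨ u = x * r ^ 2 ^ (d - 2) := by
  have hd := d_ge3 F hf hne
  have huu := hU2 u hu
  have hui : u⁻¹ = u := inv_eq_of_mul_eq_one_right huu
  have ho : o1 u = 1 := by
    obtain ⟨k, hk⟩ := F.conj_c hd huT
    rw [F.swap hd u huT k hk]
    apply four_dvd hd F
    have h1 := U.mul_mem hu (hUn c F.c_T u hu)
    have h2 : u * (c * u * c⁻¹) = r ^ k := by
      calc u * (c * u * c⁻¹) = (u * c * u⁻¹) * c⁻¹ := by rw [hui]; group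
        _ = r ^ k := by rw [hk]; group
    rw [h2] at h1
    exact hU2 _ h1
  obtain ⟨e, he, hee, h1⟩ := invol_form F hf hff hne hD huT huu ho
  rcases F.inv_form he hee with h2 | h2 | ⟨k, h2⟩
  · rcases h1 with h1 | h1
    · left; rw [h1, h2]
    · right; right; left; rw [h1, h2, mul_one]
  · rcases h1 with h1 | h1
    · right; left; rw [h1, h2]
    · right; right; right; rw [h1, h2]
  · exfalso
    refine no_refl F hd hA hUn hU2 (k := k) ?_
    rcases h1 with h1 | h1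
    · left; rw [← h2, ← h1]; exact hu
    · right; rw [← h2, ← h1]; exact hu

/-- CASE A -/
theorem caseA [Finite G] (F : Frame x K T D d r c o1 o2) {f : G} (hf : f ∈ T) (hff : f * f = x)
    (hne : o2 f ≠ 1) (hD : ∀ e ∈ D, f * e = e * f) (hA : 4 ≤ d ∨ ∃ t ∈ T, o1 t ≠ 1) (S : Sylow 2 G)
    (hTS : T ≤ S) : SectionalPRankLE 2 4 G := by
  classical
  have : Fact (Nat.Prime 2) := ⟨Nat.prime_two⟩
  rw [← GH.Rank.sylow_iff S]
  refine Cfsg.Agent.S0501.result S.isPGroup' ?_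
  intro A0 hAn hAc hA2
  -- the image `U` in `G`
  set U := A0.map (S : Subgroup G).subtype with hU
  have hUS : ∀ u ∈ U, u ∈ (S : Subgroup G) := by
    rintro _ ⟨u, -, rfl⟩
    exact u.2
  have hUn : ∀ g ∈ (S : Subgroup G), ∀ u ∈ U, g * u * g⁻¹ ∈ U := by
    rintro w hw _ ⟨u, hu, rfl⟩
    exact ⟨⟨w, hw⟩ * u * ⟨w, hw⟩⁻¹, hAn.conj_mem u hu ⟨w, hw⟩, rfl⟩
  have hUc : ∀ u ∈ U, ∀ v ∈ U, u * v = v * u := by
    rintro _ ⟨u, hu, rfl⟩ _ ⟨v, hv, rfl⟩
    exact congrArg (fun y : A0 => ((y : ↥(S : Subgroup G)) : G)) (hAc.is_comm.comm (⟨u, hu⟩ : A0) ⟨v, hv⟩)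
  have hU2 : ∀ u ∈ U, u * u = 1 := by
    rintro _ ⟨u, hu, rfl⟩
    have h1 := hA2 u hu
    rw [pow_two] at h1
    exact congrArg Subtype.val h1
  have hcard : Nat.card A0 = Nat.card U :=
    (card_map_of_injective (S : Subgroup G).subtype_injective).symm
  rw [hcard]
  have hUnT : ∀ g ∈ T, ∀ u ∈ U, g * u * g⁻¹ ∈ U := fun g hg => hUn g (hTS hg)
  have hform := fun {u : G} (hu : u ∈ U) (huT : u ∈ T) =>
    UT_form F hf hff hne hD hA hUnT hU2 hu huT
  have hcT : ∀ g ∈ (S : Subgroup G), x * g = g * x → g ∈ T :=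
    fun g hg h => mem_T F S.isPGroup' hTS hg h
  by_cases hUT : U ≤ T
  · let E : Finset G := {1, r ^ 2 ^ (d - 2), x, x * r ^ 2 ^ (d - 2)}
    have hE : E.card ≤ 4 := Finset.card_le_four
    let φ : U → E := fun g => ⟨(g : G), by
      rcases hform g.2 (hUT g.2) with h1 | h1 | h1 | h1 <;> rw [h1] <;> simp [E]⟩
    have hφ : Function.Injective φ := fun g g' hgg =>
      Subtype.ext (congrArg (fun y : E => (y : G)) hgg)
    calc Nat.card U ≤ Nat.card E := Nat.card_le_card_of_injective φ hφ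
      _ = E.card := by rw [Nat.card_eq_fintype_card, Fintype.card_coe]
      _ ≤ 4 := hE
  · -- `x ∉ U`
    have hxU : x ∉ U := by
      intro hx
      apply hUT
      intro u hu
      exact hcT u (hUS u hu) (hUc x hx u hu)
    -- `|U ∩ T| ≤ 2`
    have h2 : Nat.card ↥(U ⊓ T) ≤ 2 := by
      have hxi : ¬ (r ^ 2 ^ (d - 2) ∈ U ∧ x * r ^ 2 ^ (d - 2) ∈ U) := by
        rintro ⟨h3, h4⟩
        apply hxU
        have h5 := U.mul_mem h4 h3
        rwa [mul_assoc, F.z_sq, mul_one] at h5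
      by_cases hz : r ^ 2 ^ (d - 2) ∈ U
      · let E : Finset G := {1, r ^ 2 ^ (d - 2)}
        have hE : E.card ≤ 2 := Finset.card_le_two
        let φ : ↥(U ⊓ T) → E := fun g => ⟨(g : G), by
          rcases hform g.2.1 g.2.2 with h1 | h1 | h1 | h1
          · rw [h1]; simp [E]
          · rw [h1]; simp [E]
          · exact absurd (h1 ▸ g.2.1) hxU
          · exact absurd ⟨hz, h1 ▸ g.2.1⟩ hxi⟩
        have hφ : Function.Injective φ := fun g g' hgg =>
          Subtype.ext (congrArg (fun y : E => (y : G)) hgg)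
        calc Nat.card ↥(U ⊓ T) ≤ Nat.card E := Nat.card_le_card_of_injective φ hφ
          _ = E.card := by rw [Nat.card_eq_fintype_card, Fintype.card_coe]
          _ ≤ 2 := hE
      · let E : Finset G := {1, x * r ^ 2 ^ (d - 2)}
        have hE : E.card ≤ 2 := Finset.card_le_two
        let φ : ↥(U ⊓ T) → E := fun g => ⟨(g : G), by
          rcases hform g.2.1 g.2.2 with h1 | h1 | h1 | h1
          · rw [h1]; simp [E]
          · exact absurd (h1 ▸ g.2.1) hz
          · exact absurd (h1 ▸ g.2.1) hxU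
          · rw [h1]; simp [E]⟩
        have hφ : Function.Injective φ := fun g g' hgg =>
          Subtype.ext (congrArg (fun y : E => (y : G)) hgg)
        calc Nat.card ↥(U ⊓ T) ≤ Nat.card E := Nat.card_le_card_of_injective φ hφ
          _ = E.card := by rw [Nat.card_eq_fintype_card, Fintype.card_coe]
          _ ≤ 2 := hE
    -- the map `u ↦ u (x u x⁻¹)`
    have hxS : x ∈ (S : Subgroup G) := hTS F.x_mem
    have hmemv : ∀ u ∈ U, u * (x * u * x⁻¹) ∈ U ⊓ T := by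
      intro u hu
      have h3 := hUn x hxS u hu
      refine ⟨U.mul_mem hu h3, hcT _ (hUS _ (U.mul_mem hu h3)) ?_⟩
      calc x * (u * (x * u * x⁻¹)) = (x * u * x⁻¹) * (x * x * u * (x * x)⁻¹) * x := by group
        _ = ((x * u * x⁻¹) * u) * x := by rw [F.xx]; group
        _ = (u * (x * u * x⁻¹)) * x := by rw [hUc _ hu _ h3]
    let φ : U →* ↥(U ⊓ T) :=
      { toFun := fun u => ⟨(u : G) * (x * u * x⁻¹), hmemv u u.2⟩
        map_one' := by
          apply Subtype.ext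
          show (1 : G) * (x * 1 * x⁻¹) = 1
          group
        map_mul' := by
          intro u v
          apply Subtype.ext
          show ((u : G) * v) * (x * ((u : G) * v) * x⁻¹) =
            ((u : G) * (x * u * x⁻¹)) * ((v : G) * (x * v * x⁻¹))
          calc ((u : G) * v) * (x * ((u : G) * v) * x⁻¹)
              = (u : G) * (v * (x * u * x⁻¹)) * (x * v * x⁻¹) := by group
            _ = (u : G) * ((x * u * x⁻¹) * v) * (x * v * x⁻¹) := by
                rw [hUc _ v.2 _ (hUn x hxS u u.2)]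
            _ = _ := by group }
    have hker : Nat.card φ.ker ≤ Nat.card ↥(U ⊓ T) := by
      let ψ : φ.ker → ↥(U ⊓ T) := fun u => ⟨((u : U) : G), (u : U).2, by
        have h3 : ((u : U) : G) * (x * (u : U) * x⁻¹) = 1 := congrArg Subtype.val ((MonoidHom.mem_ker).1 u.2)
        have h4 : ((u : U) : G)⁻¹ = (u : U) := inv_eq_of_mul_eq_one_right (hU2 _ (u : U).2)
        have h5 : x * ((u : U) : G) * x⁻¹ = (u : U) := by
          rw [← inv_eq_of_mul_eq_one_right h3, h4]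
        exact hcT _ (hUS _ (u : U).2) (by rw [← mul_inv_eq_iff_eq_mul]; exact h5)⟩
      exact Nat.card_le_card_of_injective ψ (fun u v huv =>
        Subtype.ext (Subtype.ext (congrArg (fun y : ↥(U ⊓ T) => (y : G)) huv)))
    have hrange : Nat.card φ.range ≤ Nat.card ↥(U ⊓ T) := Subgroup.card_le_card_group _
    have hmul : Nat.card φ.ker * Nat.card φ.range = Nat.card U := by
      rw [← Subgroup.index_ker, Subgroup.card_mul_index]
    rw [← hmul]
    calc Nat.card φ.ker * Nat.card φ.range ≤ 2 * 2 :=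
          Nat.mul_le_mul (hker.trans h2) (hrange.trans h2)
      _ = 4 := rfl

/-! ### CASE B: `T = ⟨f⟩ × D`, `D` dihedral of order 8 -/

/-- `T = ⟨f⟩ × D` -/
theorem T_form (F : Frame x K T D d r c o1 o2) {f : G} (hf : f ∈ T) (hff : f * f = x)
    (hne : o2 f ≠ 1) (h3 : d = 3) (h1 : ∀ t ∈ T, o1 t = 1) {t : G} (ht : t ∈ T) :
    ∃ n : ℤ, ∃ e ∈ D, t = f ^ n * e := by
  have hd : 3 ≤ d := h3.ge
  obtain ⟨l, hlo, hl⟩ := F.conj_r hd ht
  obtain ⟨k, hk⟩ := F.conj_c hd ht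
  have hke : Even k := (F.swap hd t ht k hk).1 (h1 t ht)
  obtain ⟨j, hj⟩ := hke
  -- `e ∈ D` inducing `t` on `D`
  have hex : ∃ e ∈ D, e * r * e⁻¹ = t * r * t⁻¹ ∧ e * c * e⁻¹ = t * c * t⁻¹ := by
    have hmod : r ^ l = r ∨ r ^ l = r⁻¹ := by
      obtain ⟨m, hm⟩ := hlo
      rcases Int.even_or_odd m with ⟨a, ha⟩ | ⟨a, ha⟩
      · left
        have : r ^ l = r ^ (1 : ℤ) := by
          rw [F.rk_eq, h3]
          exact ⟨a, by rw [hm, ha]; norm_num; ring⟩
        rwa [zpow_one] at this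
      · right
        have : r ^ l = r ^ (-1 : ℤ) := by
          rw [F.rk_eq, h3]
          exact ⟨a + 1, by rw [hm, ha]; norm_num; ring⟩
        rwa [zpow_neg_one] at this
    rcases hmod with hm | hm
    · refine ⟨r ^ j, F.r_rk j, by rw [hl, hm]; group, ?_⟩
      rw [hk, hj, ← zpow_neg, mul_assoc, F.c_rk, neg_neg, ← mul_assoc, ← zpow_add]
    · refine ⟨r ^ j * c, F.refl_mem j, ?_, ?_⟩
      · rw [hl, hm]
        calc r ^ j * c * r * (r ^ j * c)⁻¹ = r ^ j * (c * r * c⁻¹) * (r ^ j)⁻¹ := by group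
          _ = r ^ j * r⁻¹ * (r ^ j)⁻¹ := by rw [F.crc]
          _ = r⁻¹ := by group
      · rw [hk, hj]
        calc r ^ j * c * c * (r ^ j * c)⁻¹ = r ^ j * (c * r ^ (-j)) := by group
          _ = r ^ (j + j) * c := by rw [F.c_rk, neg_neg, ← mul_assoc, ← zpow_add]
  obtain ⟨e, he, hr, hc⟩ := hex
  have hg : e⁻¹ * t ∈ T := T.mul_mem (T.inv_mem (F.D_le he)) ht
  have hgr : Commute (e⁻¹ * t) r := by
    have h4 : e⁻¹ * t * r = e⁻¹ * (t * r * t⁻¹) * t := by group
    show e⁻¹ * t * r = r * (e⁻¹ * t)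
    rw [h4, ← hr]; group
  have hgc : Commute (e⁻¹ * t) c := by
    have h4 : e⁻¹ * t * c = e⁻¹ * (t * c * t⁻¹) * t := by group
    show e⁻¹ * t * c = c * (e⁻¹ * t)
    rw [h4, ← hc]; group
  have hgD : ∀ y ∈ D, e⁻¹ * t * y = y * (e⁻¹ * t) := by
    intro y hy
    obtain ⟨i, hi | hi⟩ := F.D_form y hy
    · rw [hi]; exact hgr.zpow_right i
    · rw [hi]; exact (hgr.zpow_right i).mul_right hgc
  have h4 : o2 (e⁻¹ * t) * o2 (e⁻¹ * t) = 1 := by
    rcases F.sq_mem _ hg hgD with h5 | h5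
    · exact F.o2_invol hg h5
    · rw [← F.o2_mul' hg hg, h5, F.o2_x]
  have h5 : o2 (e⁻¹ * t) = o2 t := by
    rw [F.o2_mul' (T.inv_mem (F.D_le he)) ht, F.o2_D (D.inv_mem he), one_mul]
  rw [h5] at h4
  have hxf : x = f ^ (2 : ℤ) := by rw [zpow_two, hff]
  by_cases h6 : o2 t = 1
  · obtain ⟨y, hy, h7 | h7⟩ := F.ker t ht (h1 t ht) h6
    · exact ⟨0, y, hy, by rw [h7]; group⟩
    · exact ⟨2, y, hy, by rw [h7, ← hxf]⟩
  · have h7 : o2 f * o2 f = 1 := by rw [← F.o2_mul' hf hf, hff, F.o2_x]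
    have h8 : o2 f = o2 t := F.A_inv _ _ h7 hne h4 h6
    have h9 : o2 (f * t) = 1 := by rw [F.o2_mul' hf ht, ← h8, h7]
    obtain ⟨y, hy, h7 | h7⟩ := F.ker _ (T.mul_mem hf ht) (h1 _ (T.mul_mem hf ht)) h9
    · refine ⟨-1, y, hy, ?_⟩
      rw [← h7]; group
    · refine ⟨1, y, hy, ?_⟩
      have h10 : t = f⁻¹ * (f * t) := by group
      rw [h10, h7, hxf]; group

/-- the square of `f^n e` -/
theorem sq_form {f : G} (hff : f * f = x) (hD : ∀ e ∈ D, f * e = e * f) (n : ℤ) {e : G} (he : e ∈ D) :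
    f ^ n * e * (f ^ n * e) = x ^ n * (e * e) := by
  have hc : Commute (f ^ n) e := (show Commute f e from hD e he).zpow_left n
  calc f ^ n * e * (f ^ n * e) = f ^ n * (e * f ^ n) * e := by group
    _ = f ^ n * (f ^ n * e) * e := by rw [hc.eq]
    _ = (f ^ n * f ^ n) * (e * e) := by group
    _ = x ^ n * (e * e) := by rw [← (Commute.refl f).mul_zpow, hff]

theorem x_zpow (F : Frame x K T D d r c o1 o2) (n : ℤ) : x ^ n = 1 ∨ x ^ n = x := by
  rcases Int.even_or_odd n with ⟨a, ha⟩ | ⟨a, ha⟩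
  · left
    rw [ha, zpow_add, ← (Commute.refl x).mul_zpow, F.xx, one_zpow]
  · right
    rw [ha, zpow_add, zpow_mul, zpow_two, F.xx, one_zpow, one_mul, zpow_one]

/-- CASE B: `N_S(T) ≤ C(x)` -/
theorem norm_x (F : Frame x K T D d r c o1 o2) {f : G} (hf : f ∈ T) (hff : f * f = x)
    (hne : o2 f ≠ 1) (hD : ∀ e ∈ D, f * e = e * f) (h3 : d = 3) (h1 : ∀ t ∈ T, o1 t = 1) {s : G}
    (hs : ∀ t ∈ T, s * t * s⁻¹ ∈ T) : x * s = s * x := by
  have hform := fun {t : G} (ht : t ∈ T) => T_form F hf hff hne h3 h1 ht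
  by_contra hcon
  have hsx : s * x * s⁻¹ ≠ x := by
    intro h
    exact hcon (mul_inv_eq_iff_eq_mul.1 h).symm
  -- a square root of `s x s⁻¹` in `T` has the form `f^n r^k`
  have hroot : ∀ t ∈ T, t * t = s * x * s⁻¹ → ∃ n k : ℤ, t = f ^ n * r ^ k := by
    intro t ht htt
    obtain ⟨n, e, he, hte⟩ := hform ht
    obtain ⟨k, hk | hk⟩ := F.D_form e he
    · exact ⟨n, k, by rw [hte, hk]⟩
    · exfalso
      rw [hte, sq_form hff hD n he, hk, F.refl_sq, mul_one] at htt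
      rcases x_zpow F n with h4 | h4
      · apply F.x_ne
        have h5 : x = s⁻¹ * (s * x * s⁻¹) * s := by group
        rw [h5, ← htt, h4]; group
      · exact hsx (by rw [← htt, h4])
  have hrr : r ≠ r⁻¹ := by
    intro h
    have h4 : r ^ (1 : ℤ) = r ^ (-1 : ℤ) := by rw [zpow_one, zpow_neg_one]; exact h
    rw [F.rk_eq, h3] at h4
    norm_num at h4
  -- two square roots of `x` which do not commute
  have key : ∀ k : ℤ, (s * (f * (r ^ k * c)) * s⁻¹) * (s * (f * (r ^ k * c)) * s⁻¹) = s * x * s⁻¹ := by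
    intro k
    have h4 := sq_form hff hD 1 (F.refl_mem k)
    rw [zpow_one, zpow_one, F.refl_sq, mul_one] at h4
    calc (s * (f * (r ^ k * c)) * s⁻¹) * (s * (f * (r ^ k * c)) * s⁻¹)
        = s * (f * (r ^ k * c) * (f * (r ^ k * c))) * s⁻¹ := by group
      _ = _ := by rw [h4]
  have hmem : ∀ k : ℤ, s * (f * (r ^ k * c)) * s⁻¹ ∈ T := fun k =>
    hs _ (T.mul_mem hf (F.D_le (F.refl_mem k)))
  obtain ⟨n, k, hn⟩ := hroot _ (hmem 0) (key 0)
  obtain ⟨n', k', hn'⟩ := hroot _ (hmem 1) (key 1)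
  have hfr : Commute f r := hD r F.r_mem
  have hcomm : Commute (s * (f * (r ^ (0 : ℤ) * c)) * s⁻¹) (s * (f * (r ^ (1 : ℤ) * c)) * s⁻¹) := by
    rw [hn, hn']
    have c1 : Commute (f ^ n) (f ^ n' * r ^ k') :=
      (((Commute.refl f).zpow_right n').zpow_left n).mul_right ((hfr.zpow_right k').zpow_left n)
    have c2 : Commute (r ^ k) (f ^ n' * r ^ k') :=
      ((hfr.symm.zpow_right n').zpow_left k).mul_right (((Commute.refl r).zpow_right k').zpow_left k)
    exact c1.mul_left c2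
  have hc2 : f * (r ^ (0 : ℤ) * c) * (f * (r ^ (1 : ℤ) * c)) =
      f * (r ^ (1 : ℤ) * c) * (f * (r ^ (0 : ℤ) * c)) := by
    have h4 : s * (f * (r ^ (0 : ℤ) * c) * (f * (r ^ (1 : ℤ) * c))) * s⁻¹ =
        s * (f * (r ^ (1 : ℤ) * c) * (f * (r ^ (0 : ℤ) * c))) * s⁻¹ := by
      have h5 := hcomm.eq
      calc _ = (s * (f * (r ^ (0 : ℤ) * c)) * s⁻¹) * (s * (f * (r ^ (1 : ℤ) * c)) * s⁻¹) := by group
        _ = _ := by rw [h5]
        _ = _ := by group
    exact mul_left_cancel (mul_right_cancel h4)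
  have hmul : ∀ k l : ℤ, f * (r ^ k * c) * (f * (r ^ l * c)) = x * r ^ (k - l) := by
    intro k l
    have h5 := hD _ (F.refl_mem k)
    calc f * (r ^ k * c) * (f * (r ^ l * c)) = f * ((r ^ k * c) * f) * (r ^ l * c) := by group
      _ = f * (f * (r ^ k * c)) * (r ^ l * c) := by rw [h5]
      _ = (f * f) * (r ^ k * c * (r ^ l * c)) := by group
      _ = x * r ^ (k - l) := by rw [hff, refl_mul F]
  rw [hmul, hmul] at hc2
  have h6 := mul_left_cancel hc2
  apply hrr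
  have h7 : r ^ (0 - 1 : ℤ) = r⁻¹ := by rw [zero_sub, zpow_neg_one]
  have h8 : r ^ (1 - 0 : ℤ) = r := by rw [sub_zero, zpow_one]
  rw [h7, h8] at h6
  exact h6.symm

/-- CASE B -/
theorem caseB [Finite G] (F : Frame x K T D d r c o1 o2) {f : G} (hf : f ∈ T) (hff : f * f = x)
    (hne : o2 f ≠ 1) (hD : ∀ e ∈ D, f * e = e * f) (h3 : d = 3) (h1 : ∀ t ∈ T, o1 t = 1) (S : Sylow 2 G)
    (hTS : T ≤ S) : T = (S : Subgroup G) := by
  have : Fact (Nat.Prime 2) := ⟨Nat.prime_two⟩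
  by_contra hneq
  have hlt : T.subgroupOf (S : Subgroup G) < ⊤ := by
    rw [lt_top_iff_ne_top]
    intro h
    apply hneq
    refine le_antisymm hTS fun g hg => ?_
    have : (⟨g, hg⟩ : ↥(S : Subgroup G)) ∈ T.subgroupOf (S : Subgroup G) := by rw [h]; exact mem_top _
    exact this
  have : Group.IsNilpotent ↥(S : Subgroup G) := S.isPGroup'.isNilpotent
  have hlt2 := Group.normalizerCondition_of_isNilpotent (T.subgroupOf (S : Subgroup G)) hlt
  obtain ⟨g, hg1, hg2⟩ := SetLike.exists_of_lt hlt2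
  apply hg2
  refine mem_T F S.isPGroup' hTS g.2 (norm_x F hf hff hne hD h3 h1 ?_)
  intro t ht
  exact ((mem_normalizer_iff.1 hg1) ⟨t, hTS ht⟩).1 ht

end RankSq

open RankSq in
/-- **A field element `f ∈ T` centralising `D` with `f² = x`: sectional 2-rank at most 4** (if `T` has). -/
theorem rank_of_sq {G A : Type*} [Group G] [Group A] {x : G} {K T D : Subgroup G} {d : ℕ} {r c : G}
    {o1 : G → ℤˣ} {o2 : G → A} [Finite G] (F : Frame x K T D d r c o1 o2)
    (_hcom : ∀ a ∈ T, ∀ b ∈ T, o2 a * o2 b = o2 b * o2 a) {f : G} (hf : f ∈ T) (hff : f * f = x)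
    (hne : o2 f ≠ 1) (hD : ∀ e ∈ D, f * e = e * f) (S : Sylow 2 G) (hTS : T ≤ S)
    (hrT : SectionalPRankLE 2 4 T) : SectionalPRankLE 2 4 G := by
  have hd := d_ge3 F hf hne
  by_cases hA : 4 ≤ d ∨ ∃ t ∈ T, o1 t ≠ 1
  · exact caseA F hf hff hne hD hA S hTS
  · push Not at hA
    have : Fact (Nat.Prime 2) := ⟨Nat.prime_two⟩
    have h3 : d = 3 := by omega
    have hT := caseB F hf hff hne hD h3 hA.2 S hTS
    rw [← GH.Rank.sylow_iff S, ← hT]
    exact hrT

end Cfsg.Agent.UGT.Q2
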