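import Cfsg.Agent.UGT.Q2.Base
import Cfsg.Agent.UGT.Q2.Nine
import Cfsg.Agent.UGT.Q2.MfData
import Cfsg.Agent.UGT.Q2.RankSq

/-!
# N5, `|Q| = 2`: `FullHyp` (helper285)

`fullHyp`: under (H), a group of sectional 2-rank at least 5 satisfies `FullHyp G q`.
-/

set_option autoImplicit false

open Cfsg Subgroup
open Cfsg.Agent.SignalizersComponents Cfsg.Agent.Lib
open Cfsg.Agent.SignalizersComponents.IntrinsicBasic
open Cfsg.Agent.Intrinsic.Basic Cfsg.Agent.Intrinsic.Cen Cfsg.Agent.Intrinsic.Diag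
open Cfsg.Agent.UGT.Triple Cfsg.Agent.UGT.TriBase Cfsg.Agent.UGT.Iface Cfsg.Agent.UGT.L2Inner

namespace Cfsg.Agent.UGT.Q2

universe u

variable {G : Type u} [Group G] [Finite G]

theorem exists_full {x a : G} {L : Subgroup G} (hT : IsTriple x a L) {F : Type} [Field F] [Finite F]
    (R : GH.L2Aut.Rep F (↥L ⧸ oddCore ↥L)) (hin : IsInner x L) (hH : HQ G (Nat.card F))
    (hr : ¬ SectionalPRankLE 2 4 G) :
    ∃ (b z f v u : G) (T Mf Me : Subgroup G), Full a b z f v u L T Mf Me R := by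
  obtain ⟨b, z, f, T, S, hnrm, hspl, hdih⟩ := exists_sit hT R hin hH hr (by
    intro T f I hf hff hne hfD
    obtain ⟨d, r, c, Fr⟩ := I.exists_fr R
    obtain ⟨S, hTS⟩ := I.syl.two.exists_le_sylow
    exact rank_of_sq Fr (fun g _ h _ => Cfsg.Agent.Lib.AutSL2Out.ringEquiv_comm _ _) hf hff hne hfD S
      hTS (I.rank_T R))
  have hsyl : IsSyl L (T ⊓ L) := S.syl.inf S.tr.comp.le S.nL
  have h9 : 9 < Nat.card F := by
    obtain ⟨hfN, hft⟩ := S.ft
    refine triple_nine_lt hT R hin ⟨_, ?_, hft⟩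
    rw [← map_mul]
    have h1 : (⟨f, hfN⟩ : ↥(normalizer (L : Set G))) * ⟨f, hfN⟩ = 1 := Subtype.ext S.ff
    rw [h1, map_one]
  obtain ⟨Mf, Me, v, u, D⟩ := MfData.exists_data' R h9 S.ff S.ft hsyl S.fD ⟨S.zT, S.zL⟩ S.zz S.z1
    (fun d hd => S.zc d hd.1)
  exact ⟨b, z, f, v, u, T, Mf, Me,
    { toSit := S
      mf := D.mf
      me := D.me
      zf := D.zf
      ze := D.ze
      vT := D.vD
      uT := D.uD
      vf := D.vf
      ue := D.ue
      vv := D.vv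
      uu := D.uu
      v1 := D.v1
      u1 := D.u1
      vz := D.vz
      uz := D.uz
      vu := D.vu
      q0 := D.q0
      ext := ⟨hspl, hdih, D.idxf, D.idxe, D.noi⟩
      nrm := hnrm }⟩

/-- **`FullHyp`** -/
theorem fullHyp {q : ℕ} (hH : HQ G q) (hr : ¬ SectionalPRankLE 2 4 G) : FullHyp G q := by
  rintro x a L ⟨hT, ⟨F, i1, i2, rfl, ⟨R⟩⟩, hin⟩
  obtain ⟨b, z, f, v, u, T, Mf, Me, S⟩ := exists_full hT R hin hH hr
  exact ⟨b, z, f, v, u, T, Mf, Me, F, i1, i2, R, S, rfl⟩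

end Cfsg.Agent.UGT.Q2
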