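import Cfsg.Agent.UGT.Q2.Glue
import Cfsg.Agent.UGT.Q2.Types3
import Cfsg.Agent.UGT.Q2.FullHyp

/-!
# THEOREM Q2: no inner triple of type `PSL(2,q)` in the world `HQ G q`

Assembly: `TypesHyp` (Types3), `GlueHyp` (Glue), `FullHyp` (FullHyp), with `BadHyp G` (statement (F)) and
`LineHyp G q` (statement (DD)) as hypotheses.
-/

set_option autoImplicit false

open Cfsg Subgroup
open Cfsg.Agent.SignalizersComponents Cfsg.Agent.Lib
open Cfsg.Agent.SignalizersComponents.IntrinsicBasic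
open Cfsg.Agent.Intrinsic.Basic Cfsg.Agent.Intrinsic.Cen Cfsg.Agent.Intrinsic.Diag
open Cfsg.Agent.McLLyComp.Act
open Cfsg.Agent.UGT.Triple Cfsg.Agent.UGT.TriBase Cfsg.Agent.UGT.Iface Cfsg.Agent.UGT.L2Inner

namespace Cfsg.Agent.UGT.Q2

universe u

variable {G : Type u} [Group G] [Finite G]

theorem isDHyp (hB : BadHyp G) (W : World G) (q : ℕ) : Glue.IsDHyp G q := by
  intro a b z f v u L T Mf Me F _ _ R S _ y M hy hM hz M' hM' hz' ht d w hd hdd hd1 hdz hcd hw hdw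
  exact S.exists_isD hB W hy hM hz hM' hz' ht hd hdd hd1 hdz hcd hw hdw

/-- **THEOREM Q2**, with (F) and (DD) as hypotheses. -/
theorem no_inn {q : ℕ} (hB : BadHyp G) (hl : LineHyp G q) (W : World G) (hH : HQ G q)
    (hr : ¬ SectionalPRankLE 2 4 G) : ∀ (x a : G) (L : Subgroup G), ¬ Inn q x a L :=
  no_triple (types hB W q) (Glue.glue (isDHyp hB W q)) hl (fullHyp hH hr)

end Cfsg.Agent.UGT.Q2
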