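import Cfsg.Agent.Intrinsic.Diag
import Cfsg.Agent.Intrinsic.Cen

/-!
# N5, `|Q| = 2`: an involution moving a 2-component is conjugate to its product with a diagonal involution

`K` a 2-component of `H` with `Z(K / O(K)) = 1`, `a`, `b` commuting involutions of `H`, `a` moves `K`, `a b` lies in the
diagonal 2-component `diag H K a` of `C_H(a)`: then `a` and `b` are conjugate in `H`.
-/

set_option autoImplicit false

open Cfsg Subgroup
open Cfsg.Agent.SignalizersComponents Cfsg.Agent.Lib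
open Cfsg.Agent.SignalizersComponents.IntrinsicBasic
open Cfsg.Agent.SignalizersComponents.IntrinsicIntr
open Cfsg.Agent.SignalizersComponents.PLayerAut
open Cfsg.Agent.Intrinsic.Basic Cfsg.Agent.Intrinsic.Cen Cfsg.Agent.Intrinsic.Diag
open scoped commutatorElement

namespace Cfsg.Agent.UGT.Q2.DiagConj

variable {G : Type*} [Group G] [Finite G]

/-- Involutions congruent modulo a subgroup of odd order are conjugate under it. -/
theorem conj_of_odd {N : Subgroup G} (hN : Odd (Nat.card N)) {a b : G} (ha : a * a = 1) (hb : b * b = 1)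
    (h : a * b ∈ N) : ∃ h ∈ N, h * a * h⁻¹ = b := by
  have hodd : Odd (orderOf (a * b)) := by
    have h1 : orderOf (⟨a * b, h⟩ : N) ∣ Nat.card N := orderOf_dvd_natCard _
    rw [Subgroup.orderOf_mk] at h1
    exact Odd.of_dvd_nat hN h1
  obtain ⟨m, hm⟩ := hodd
  have hbi : b⁻¹ = b := inv_eq_of_mul_eq_one_left hb
  have hai : a⁻¹ = a := inv_eq_of_mul_eq_one_left ha
  set d := a * b with hd
  have hbd : b * d * b⁻¹ = d⁻¹ := by
    rw [hd, mul_inv_rev, hbi, hai]
    calc b * (a * b) * b = b * a * (b * b) := by group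
      _ = b * a := by rw [hb, mul_one]
  have hdd : d ^ (m + 1) * d ^ (m + 1) = d := by
    rw [← pow_add, show m + 1 + (m + 1) = (2 * m + 1) + 1 by ring, pow_succ, ← hm, pow_orderOf_eq_one, one_mul]
  have hbp : b * d ^ (m + 1) * b⁻¹ = (d ^ (m + 1))⁻¹ := by
    rw [← conj_pow, hbd, inv_pow]
  have ha' : a = d * b := by rw [hd, mul_assoc, hb, mul_one]
  refine ⟨(d ^ (m + 1))⁻¹, N.inv_mem (N.pow_mem h _), ?_⟩
  rw [inv_inv]
  calc (d ^ (m + 1))⁻¹ * a * d ^ (m + 1) = (d ^ (m + 1))⁻¹ * (d * b) * d ^ (m + 1) := by rw [← ha']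
    _ = (d ^ (m + 1))⁻¹ * d * (b * d ^ (m + 1) * b⁻¹) * b := by group
    _ = (d ^ (m + 1))⁻¹ * (d ^ (m + 1) * d ^ (m + 1)) * (d ^ (m + 1))⁻¹ * b := by rw [hbp, hdd]
    _ = b := by group

/-- **The lemma.** -/
theorem exists_conj {H K : Subgroup G} {a b : G} (hK : IsComp H K) (hcen : center (↥K ⧸ oddCore ↥K) = ⊥)
    (haH : a ∈ H) (hbH : b ∈ H) (ha : a * a = 1) (hb : b * b = 1) (hne : cj a K ≠ K)
    (hz : a * b ∈ diag H K a) : ∃ h ∈ H, h * a * h⁻¹ = b := by
  obtain ⟨h1, h2, -, -, f, -, hker, hf, -⟩ := exists_diag hK haH ha hne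
  obtain ⟨k, hk, hkz⟩ := h2 _ hz
  have hai : a⁻¹ = a := inv_eq_of_mul_eq_one_left ha
  have hbi : b⁻¹ = b := inv_eq_of_mul_eq_one_left hb
  -- `a` commutes with `z = a b`, hence with `b`
  have haz : (a * b) * a = a * (a * b) := mem_centralizer_singleton_iff.mp (h1.le hz).2
  have hab : b * a = a * b := by
    have : a * (b * a) = a * (a * b) := by rw [← mul_assoc]; exact haz
    exact mul_left_cancel this
  have hzz : (a * b) * (a * b) = 1 := by
    calc (a * b) * (a * b) = a * (b * a) * b := by group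
      _ = (a * a) * (b * b) := by rw [hab]; group
      _ = 1 := by rw [ha, hb, one_mul]
  -- `k²` lies in the core
  have hkk : k * k ∈ core H := by
    apply hK.core_le_core
    rw [mem_core_iff (K.mul_mem hk hk)]
    have e1 : f (QuotientGroup.mk' (oddCore ↥K) ⟨k, hk⟩) =
        QuotientGroup.mk' (oddCore ↥(diag H K a)) ⟨a * b, hz⟩ := hf ⟨k, hk⟩ ⟨a * b, hz⟩ hkz
    have e2 : f (QuotientGroup.mk' (oddCore ↥K) (⟨k, hk⟩ * ⟨k, hk⟩)) = 1 := by
      rw [map_mul, map_mul, e1, ← map_mul]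
      have : (⟨a * b, hz⟩ : ↥(diag H K a)) * ⟨a * b, hz⟩ = 1 := Subtype.ext hzz
      rw [this, map_one]
    have e3 := hker (MonoidHom.mem_ker.mpr e2)
    rw [hcen, mem_bot] at e3
    have e4 : (⟨k, hk⟩ * ⟨k, hk⟩ : ↥K) ∈ oddCore ↥K := by
      rw [← QuotientGroup.eq_one_iff]
      exact e3
    exact e4
  -- conjugation by `k`
  have hkH : k ∈ H := hK.le hk
  have hkaH : a * k * a⁻¹ ∈ H := H.mul_mem (H.mul_mem haH hkH) (H.inv_mem haH)
  have hak : a * (k * k) * a⁻¹ ∈ core H := conj_mem_core (le_normalizer haH) hkk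
  have hkey : (k * a * k⁻¹) * b ∈ core H := by
    -- `k a k⁻¹ b = (k (a k a⁻¹)) ((a k a⁻¹)⁻¹ (a k a⁻¹)⁻¹) a b`
    have e1 : (k * a * k⁻¹) * b = (k * (a * k * a⁻¹)) * ((a * (k * k) * a⁻¹)⁻¹) * (a * b) := by group
    have e2 : (a * b)⁻¹ = a * b := inv_eq_of_mul_eq_one_left hzz
    rw [e2] at hkz
    -- conjugate everything by `a b`
    have e3 : (k * (a * k * a⁻¹)) * ((a * (k * k) * a⁻¹)⁻¹) * (a * b) =
        (a * b)⁻¹ * ((a * b) * (k * (a * k * a⁻¹)) * ((a * (k * k) * a⁻¹)⁻¹)) * (a * b) := by group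
    rw [e1, e3]
    have e4 : (a * b)⁻¹ ∈ H := H.inv_mem (H.mul_mem haH hbH)
    have e5 := conj_mem_core (le_normalizer e4) ((core H).mul_mem hkz ((core H).inv_mem hak))
    rwa [inv_inv] at e5
  obtain ⟨o, ho, ho'⟩ := conj_of_odd (odd_card_core H) (a := k * a * k⁻¹) (b := b) (by
    calc k * a * k⁻¹ * (k * a * k⁻¹) = k * (a * a) * k⁻¹ := by group
      _ = 1 := by rw [ha]; group) hb hkey
  refine ⟨o * k, H.mul_mem (core_le H ho) hkH, ?_⟩
  rw [← ho']
  group

/-- The lemma in `C(y)`. -/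
theorem exists_conj_centralizer {K : Subgroup G} {a b y : G} (hK : IsComp (centralizer ({y} : Set G)) K)
    (hcen : center (↥K ⧸ oddCore ↥K) = ⊥) (hay : a * y = y * a) (hby : b * y = y * b) (ha : a * a = 1)
    (hb : b * b = 1) (hne : cj a K ≠ K) (hz : a * b ∈ diag (centralizer ({y} : Set G)) K a) :
    ∃ h : G, h * y = y * h ∧ h * a * h⁻¹ = b := by
  obtain ⟨h, hh, h1⟩ := exists_conj hK hcen (mem_centralizer_singleton_iff.mpr hay)
    (mem_centralizer_singleton_iff.mpr hby) ha hb hne hz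
  exact ⟨h, mem_centralizer_singleton_iff.mp hh, h1⟩

end Cfsg.Agent.UGT.Q2.DiagConj
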