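import Cfsg.Agent.GH.L2AutField
import Cfsg.Agent.GH.L2AutOut

/-!
# Transport of `Rep F L` along an isomorphism

* `repTr R e : Rep F L'`, `e : L ≃* L'`; `repTr_fld`, `repTr_o1`, `repTr_PGL` : `e`-equivariant automorphisms have
  the same invariants.
-/

set_option autoImplicit false

namespace Cfsg.Agent.UGT.Q2

open Cfsg.Agent.GH.L2Aut Matrix

variable {F : Type*} [Field F] {L L' : Type*} [Group L] [Group L']

/-- transport of a representation -/
noncomputable def repTr (R : GH.L2Aut.Rep F L) (e : L ≃* L') : GH.L2Aut.Rep F L' where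
  π := e.toMonoidHom.comp R.π
  surj := e.surjective.comp R.surj
  two := R.two
  ker := by
    intro x
    rw [← R.ker x]
    exact e.map_eq_one_iff

theorem repTr_π (R : GH.L2Aut.Rep F L) (e : L ≃* L') (x : Matrix.SpecialLinearGroup (Fin 2) F) :
    (repTr R e).π x = e (R.π x) := rfl

variable [Finite F] (R : GH.L2Aut.Rep F L) (e : L ≃* L') {α : MulAut L} {α' : MulAut L'}

theorem repTr_lift (h : ∀ x, e (α x) = α' (e x)) : (repTr R e).lift α' = R.lift α := by
  apply GH.L2Aut.Rep.lift_eq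
  intro x
  rw [repTr_π, ← h, R.lift_apply, repTr_π]

theorem repTr_fld (h : ∀ x, e (α x) = α' (e x)) : (repTr R e).fld α' = R.fld α := by
  change Cfsg.Agent.Classification.QDW.TypeHom.typ ((repTr R e).lift α') =
    Cfsg.Agent.Classification.QDW.TypeHom.typ (R.lift α)
  rw [repTr_lift R e h]

theorem repTr_PGL (h : ∀ x, e (α x) = α' (e x)) : α' ∈ (repTr R e).PGL ↔ α ∈ R.PGL := by
  rw [GH.L2Aut.Rep.mem_PGL_iff_fld, GH.L2Aut.Rep.mem_PGL_iff_fld, repTr_fld R e h]

theorem repTr_o1 (h : ∀ x, e (α x) = α' (e x)) : (repTr R e).o1 α' = R.o1 α := by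
  obtain ⟨g, hg⟩ := R.exists_eq α
  have h1 : α' = (repTr R e).gl g * (repTr R e).fa (R.fld α) := by
    apply (repTr R e).ext_π
    intro x
    rw [MulAut.mul_apply, GH.L2Aut.Rep.fa_apply, GH.L2Aut.Rep.gl_apply, repTr_π, repTr_π, ← h]
    congr 1
    conv_lhs => rw [hg]
    rw [MulAut.mul_apply, GH.L2Aut.Rep.fa_apply, GH.L2Aut.Rep.gl_apply]
  rw [GH.L2Aut.Rep.o1_eq _ h1, GH.L2Aut.Rep.o1_eq _ hg]

end Cfsg.Agent.UGT.Q2
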