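import Cfsg.Agent.UGT.L2Inner.WBTriple
import Cfsg.Agent.UGT.L2Inner.WBBase
import Cfsg.Agent.UGT.TriBase
import Cfsg.Agent.UGT.Iface

/-!
# THEOREM Q2 (#13005): inner triples of type `PSL₂(q)`, `|Q| = 2`. Definitions

* `L2q q K`: `K / O(K) ≅ PSL(2,F)`, `|F| = q`.
* `World G`: all triples are of type `PSL(2,F)` or `A₇`.
* `HQ G q`: for every inner triple `(x, a, L)` with `L2q q L`, the 2-groups in `C(a)` acting trivially on
  `L / O(L)` have order at most two.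
* `FieldType L R c`: `c` acts on `L / O(L)` with nontrivial field part.
* `IsMc L c M`: `M` is a 2-component of `L ∩ C(c)`.
* `Bad a b c y M`: `O(C(b y)) ∩ C(a) ∩ C(c)` is nontrivial on `M / O(M)` (`b = 1` or `b = a`, `x = b z`).
* `Line`: the situation of (DD).
* `Sit`: the frame.
-/

set_option autoImplicit false

open Cfsg Subgroup
open Cfsg.Agent.SignalizersComponents Cfsg.Agent.Lib
open Cfsg.Agent.SignalizersComponents.IntrinsicBasic
open Cfsg.Agent.Intrinsic.Basic Cfsg.Agent.Intrinsic.Cen Cfsg.Agent.Intrinsic.Diag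
open Cfsg.Agent.McLLyComp.Act
open Cfsg.Agent.UGT.Triple Cfsg.Agent.UGT.TriBase Cfsg.Agent.UGT.Iface Cfsg.Agent.UGT.L2Inner

namespace Cfsg.Agent.UGT.Q2

universe u

variable {G : Type u} [Group G]

/-- `K / O(K) ≅ PSL(2,F)`, `|F| = q` -/
def L2q (q : ℕ) (K : Subgroup G) : Prop :=
  ∃ (F : Type) (_ : Field F) (_ : Finite F), Nat.card F = q ∧ Nonempty (GH.L2Aut.Rep F (↥K ⧸ oddCore ↥K))

theorem L2q.l2T {q : ℕ} {K : Subgroup G} (h : L2q q K) : L2T K := by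
  obtain ⟨F, i, j, -, h⟩ := h
  exact ⟨F, i, j, h⟩

theorem L2T.exists_q {K : Subgroup G} (h : L2T K) : ∃ q, L2q q K := by
  obtain ⟨F, i, j, h⟩ := h
  exact ⟨_, F, i, j, rfl, h⟩

/-- all triples are of type `PSL(2,F)` or `A₇` -/
def World (G : Type u) [Group G] : Prop :=
  ∀ (x a : G) (L : Subgroup G), IsTriple x a L → L2T L ∨ IsAlt 7 (Bar L)

/-- **(H)** -/
def HQ (G : Type u) [Group G] (q : ℕ) : Prop :=
  ∀ (x a : G) (L : Subgroup G), IsTriple x a L → L2q q L → IsInner x L →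
    ∀ Q : Subgroup G, IsPGroup 2 ↥Q → Q ≤ centralizer ({a} : Set G) → (∀ g ∈ Q, Fixes g L) →
      Nat.card Q ≤ 2

/-- `c` acts on `L / O(L)` with nontrivial field part -/
def FieldType (L : Subgroup G) {F : Type} [Field F] [Finite F] (R : GH.L2Aut.Rep F (↥L ⧸ oddCore ↥L))
    (c : G) : Prop :=
  ∃ h : c ∈ normalizer (L : Set G), R.fld (act L ⟨c, h⟩) ≠ 1

/-- `M` is a 2-component of `L ∩ C(c)` -/
def IsMc (L : Subgroup G) (c : G) (M : Subgroup G) : Prop :=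
  IsComp (L ⊓ centralizer ({c} : Set G)) M

/-- `x = b * z` with `b = 1` or `b = a`; `b * y` is the conjugate of `x` for an involution `y` of `L`. Some
element of `O(C(b y)) ∩ C(a) ∩ C(c)` is nontrivial on `M / O(M)`. -/
def Bad (a b c y : G) (M : Subgroup G) : Prop :=
  ∃ d ∈ core (centralizer ({b * y} : Set G)), d ∈ centralizer ({a} : Set G) ∧
    d ∈ centralizer ({c} : Set G) ∧ ¬ Fixes d M

/-- **The situation of (DD)**, `x = b * z`. `Mf`, `Me` are the 2-components of `L ∩ C(f)`, `L ∩ C(f * z)`. `v`, `u`: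
involutions `≠ z` of `D ∩ Mf`, `D ∩ Me`. -/
structure Line (a b z f v u : G) (L Mf Me : Subgroup G) {F : Type} [Field F] [Finite F]
    (R : GH.L2Aut.Rep F (↥L ⧸ oddCore ↥L)) : Prop where
  tr : IsTriple (b * z) a L
  hb : b = 1 ∨ b = a
  ff : f * f = 1
  fa : f * a = a * f
  ft : FieldType L R f
  cf : IsMc L f Mf
  ce : IsMc L (f * z) Me
  zf : z ∈ Mf
  ze : z ∈ Me
  zz : z * z = 1
  z1 : z ≠ 1
  vf : v ∈ Mf
  ue : u ∈ Me
  vv : v * v = 1
  uu : u * u = 1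
  /-- `⟨v, u⟩` is a dihedral 2-group with `z` in the subgroup generated by `(v u)²` -/
  two : IsPGroup 2 ↥(closure {v, u})
  vu : ∃ k : ℕ, (v * u) ^ (2 * k) = z

/-- `M` (a 2-component of `L ∩ C(y)`) is diagonal in `I * (a I a⁻¹)`, `I` a 2-component of `C(y)`: case (D). -/
structure IsD (a y : G) (M I : Subgroup G) : Prop where
  comp : IsComp (centralizer ({y} : Set G)) I
  ne : cj a I ≠ I
  eq : M = diag (centralizer ({y} : Set G)) I a

/-- **The frame**: `(x, a, L)`, `x = b * z`, `L / O(L) ≅ PSL(2,F)`, `L ⊴ C(a)`, `T ∈ Syl₂(C(a))`,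
`C_T(L / O(L)) = ⟨a⟩`, `z ∈ Z(T) ∩ L`, `f ∈ T` an involution of field type centralizing `T ∩ L`,
`C_T(T ∩ L) = ⟨a, z, f⟩`, `T` is not a Sylow 2-subgroup of `G`. -/
structure Sit (a b z f : G) (L T : Subgroup G) {F : Type} [Field F] [Finite F]
    (R : GH.L2Aut.Rep F (↥L ⧸ oddCore ↥L)) : Prop where
  tr : IsTriple (b * z) a L
  hb : b = 1 ∨ b = a
  nL : centralizer ({a} : Set G) ≤ normalizer (L : Set G)
  syl : IsSyl (centralizer ({a} : Set G)) T
  q2 : ∀ g ∈ T, Fixes g L → g = 1 ∨ g = a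
  zL : z ∈ L
  zz : z * z = 1
  z1 : z ≠ 1
  zT : z ∈ T
  zc : ∀ t ∈ T, t * z = z * t
  fT : f ∈ T
  ff : f * f = 1
  ft : FieldType L R f
  fD : ∀ d ∈ T ⊓ L, d * f = f * d
  cen : ∀ g ∈ T, (∀ d ∈ T ⊓ L, g * d = d * g) → g ∈ closure {a, z, f}
  lt : ∃ s, s ∉ T ∧ s ∈ normalizer (T : Set G) ∧ s * s ∈ T

end Cfsg.Agent.UGT.Q2
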