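import Cfsg.Agent.UGT.A7.PumpL2
import Cfsg.Agent.OddHalf.D6.SubFix
import Cfsg.Agent.OddHalf.D6.FieldFacts
import Cfsg.Agent.GH.L2AutField
import Cfsg.Agent.OddHalf.D6.FieldInv
import Cfsg.Agent.UGT.TriBase

/-!
# UGT, inner `L₂(q)`, `|Q| = 2`: facts on involutory automorphisms of `L = PSL(2,F)`

`R : Rep F L`; `Fd R φ M`: `φ` is an involutory automorphism of field type, `M = C_L(φ)^∞ ≅ PSL(2,E)`,
`|F| = |E|²`.

* `exists_fd` : existence of `M` (`9 < |F|`); `Fd.unique`.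
* `Fd.cent` : `C_{Aut L}(M) = {1, φ}`.
* `Fd.normal`, `Fd.pgl` : fixed points of `φ` normalize `M`; those outside `M` induce outer automorphisms of `M`.
* `inner_or_field` : an involutory automorphism commuting with `φ` is inner or of field type.
* `one_or_field` : an involutory automorphism fixing a perfect subgroup `≠ 1` is trivial or of field type.
* `Fd.syl` : `S ∈ Syl₂(L)` fixed by `φ`: `S` dihedral of order at least 8 and `S ∩ M` is one of the two noncyclic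
  maximal subgroups.
* `Fd.ne_zmul` : `z ∈ Z(S)` an involution, `M'` the group belonging to `φ ∘ conj z`: `S ∩ M`, `S ∩ M'` are different.
* `Fd.orderOf_mul` : the product of noncentral involutions of `S ∩ M` and `S ∩ M'` has order `|S|/2`.
-/

set_option autoImplicit false
set_option linter.unusedSectionVars false

open Cfsg.Agent.GH.L2Aut Cfsg.Agent.OddHalf.D6 Cfsg.Agent.Lib.SL2Mat
open scoped commutatorElement

namespace Cfsg.Agent.UGT.Q2.Facts

variable {F : Type*} [Field F] [Finite F] {L : Type*} [Group L] (R : Cfsg.Agent.GH.L2Aut.Rep F L)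

/-- an automorphism fixing the fixed field of the involutory `σ` is `1` or `σ` -/
theorem fld_cases {σ τ : F ≃+* F} (hσ2 : σ * σ = 1) (hσ : σ ≠ 1) (h2 : (2 : F) ≠ 0)
    (h : ∀ a, σ a = a → τ a = a) : τ = 1 ∨ τ = σ := by
  obtain ⟨u, hu, hu'⟩ := Cfsg.Agent.GH.L2Aut.Rep.exists_anti hσ2 hσ
  have hss : ∀ a, σ (σ a) = a := fun a => congrArg (fun ρ : F ≃+* F => ρ a) hσ2
  have h1 : τ (u * u) = u * u := h _ (by rw [map_mul, hu']; ring)
  have h3 : (τ u - u) * (τ u + u) = 0 := by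
    rw [map_mul] at h1
    linear_combination h1
  have e2 : σ 2 = 2 := map_ofNat σ 2
  have hu2 : (2 : F) * u ≠ 0 := mul_ne_zero h2 hu
  have h5 : ∀ a : F, a = (a + σ a) / 2 + (a - σ a) / (2 * u) * u := by
    intro a
    field_simp
    ring
  have h6 : ∀ a, τ a = (a + σ a) / 2 + (a - σ a) / (2 * u) * τ u := by
    intro a
    conv_lhs => rw [h5 a]
    rw [map_add, map_mul, h ((a + σ a) / 2), h ((a - σ a) / (2 * u))]
    · rw [map_div₀, map_mul, map_sub, hss, hu', e2]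
      field_simp
      ring
    · rw [map_div₀, map_add, hss, e2, add_comm]
  rcases mul_eq_zero.1 h3 with h4 | h4
  · left
    have h7 : τ u = u := by linear_combination h4
    ext a
    rw [h6 a, h7, ← h5 a]
    rfl
  · right
    have h7 : τ u = -u := by linear_combination h4
    ext a
    rw [h6 a, h7]
    field_simp
    ring

/-- `φ` is an involutory automorphism of field type of `L = PSL(2,F)`, `M = C_L(φ)^∞`. -/
structure Fd (φ : MulAut L) (M : Subgroup L) : Prop where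
  sq : φ * φ = 1
  fld : R.fld φ ≠ 1
  le : ∀ m ∈ M, φ m = m
  perf : ⁅M, M⁆ = M
  max : ∀ P : Subgroup L, (∀ p ∈ P, φ p = p) → ⁅P, P⁆ = P → P ≤ M
  /-- index two in the group of fixed points -/
  idx : ∀ x y, φ x = x → φ y = y → x ∉ M → y ∉ M → x * y ∈ M
  cent : ∀ β : MulAut L, (∀ m ∈ M, β m = m) → β = 1 ∨ β = φ
  odd : ¬ 2 ∣ (fixSub φ).index
  /-- `M ≅ PSL(2,E)`; fixed points outside `M` are of PGL type on `M` -/
  rep : ∃ (E : Subfield F) (R₀ : Cfsg.Agent.GH.L2Aut.Rep E M), Nat.card F = Nat.card E ^ 2 ∧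
    ∀ x, φ x = x → x ∉ M → ∀ β : MulAut M, (∀ n, (β n : L) = x * n * x⁻¹) →
      β ∈ R₀.PGL ∧ R₀.o1 β = -1

/-- **existence** -/
theorem exists_fd (h9 : 9 < Nat.card F) {φ : MulAut L} (hφ : φ * φ = 1) (hf : R.fld φ ≠ 1) :
    ∃ M, Fd R φ M := by
  obtain ⟨R', hP, hfl, hR', hord⟩ := R.ftype_rep (fun h => hf (R.mem_PGL_iff_fld.1 h)) hφ
  obtain ⟨σ, hσ⟩ : ∃ σ, σ = R.fld φ := ⟨_, rfl⟩
  rw [← hσ] at hR' hord
  have hf' : σ ≠ 1 := hσ ▸ hf
  have hσ2 : σ * σ = 1 := by rw [hσ, ← map_mul, hφ, map_one]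
  have heven : Even (orderOf σ) := by rw [hord]; decide
  obtain ⟨K₀, hK₀, hcard⟩ := exists_fixed_field σ
  have h3 : 3 < Nat.card K₀ := by
    have hc2 := hcard
    rw [hord] at hc2
    rw [hc2] at h9
    by_contra hcon
    push Not at hcon
    have := Nat.pow_le_pow_left hcon 2
    omega
  have hsim := SubFix.isSimple (R'.subRep K₀) h3
  have hfix : ∀ m ∈ R'.sub K₀, φ m = m := by
    intro m hm
    rw [hR']
    exact R'.sub_le_fix hK₀ hm
  obtain ⟨w, hw, hwn, hwx⟩ := R'.exists_outer heven hK₀ hcard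
  refine ⟨R'.sub K₀, hφ, hf, hfix, ?_, ?_, ?_, ?_, ?_, K₀, R'.subRep K₀, by rw [hcard, hord], ?_⟩
  · -- perfect
    have hq := SubFix.isQuasisimple (R'.subRep K₀) h3
    exact Subgroup.isPerfect_iff.1 hq.1
  · intro P hP hp
    refine A7.PumpL2.le_sub_of_perfect R' heven hK₀ hcard ?_ hp
    intro p hpP
    rw [mem_fixSub, ← hR']
    exact hP p hpP
  · intro x y hx hy hxn hyn
    have hx' : x ∈ fixSub (R'.fa σ) := by rw [mem_fixSub, ← hR']; exact hx
    have hy' : y ∈ fixSub (R'.fa σ) := by rw [mem_fixSub, ← hR']; exact hy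
    have hxi : x⁻¹ ∉ R'.sub K₀ := fun h => hxn (inv_mem_iff.1 h)
    have h1 := hwx _ (inv_mem hx') hxi
    have h2 := hwx y hy' hyn
    have h4 : x * y = (w * x⁻¹)⁻¹ * (w * y) := by group
    rw [h4]
    exact mul_mem (inv_mem h1) h2
  · intro β hβ
    have hup : ∀ a : F, σ a = a → β (R'.π (up a)) = R'.π (up a) := by
      intro a ha
      apply hβ
      rw [R'.mem_sub]
      refine ⟨up ⟨a, (hK₀ a).2 ha⟩, ?_⟩
      congr 1
      apply Subtype.ext
      apply mat_ext <;> rfl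
    have hlo : β (R'.π (lo 1)) = R'.π (lo 1) := by
      apply hβ
      rw [R'.mem_sub]
      refine ⟨lo ⟨1, (hK₀ 1).2 (map_one σ)⟩, ?_⟩
      congr 1
      apply Subtype.ext
      apply mat_ext <;> rfl
    have h1 := SubFix.eq_fa R' (hup 1 (map_one σ)) hlo
    have h2 : ∀ a, σ a = a → R'.fld β a = a := by
      intro a ha
      have h4 := hup a ha
      rw [h1, SubFix.fa_up, R'.π_eq_iff] at h4
      rcases h4 with h4 | h4
      · exact congrArg (fun x => ent x 0 1) h4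
      · exfalso
        have h5 := congrArg (fun x => ent x 0 0) h4
        have h6 : (1 : F) = -1 := h5
        exact R'.two (by linear_combination h6)
    rcases fld_cases hσ2 hf' R'.two h2 with h4 | h4
    · left
      rw [h1, h4, map_one]
    · right
      rw [h1, h4, hR']
  · rw [hR']
    exact R'.odd_index hord
  · intro x hx hxn β hβ
    have hx' : x ∈ fixSub (R'.fa σ) := by rw [mem_fixSub, ← hR']; exact hx
    obtain ⟨h1, h2⟩ := R'.outer_act heven hK₀ hcard hx' hxn hβ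
    refine ⟨h1, ?_⟩
    rcases Int.units_eq_one_or ((R'.subRep K₀).o1 β) with h4 | h4
    · exact absurd ((R'.subRep K₀).mem_inn_iff.2 ⟨((R'.subRep K₀).mem_PGL_iff_fld).1 h1, h4⟩) h2
    · exact h4

/-! ### involutory automorphisms -/

/-- an involutory automorphism trivial on a perfect subgroup `≠ 1` is trivial or of field type -/
theorem one_or_field {α : MulAut L} (hα : α * α = 1) {P : Subgroup L} (hP : ∀ p ∈ P, α p = p)
    (hp : ⁅P, P⁆ = P) (hne : P ≠ ⊥) : α = 1 ∨ R.fld α ≠ 1 := by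
  by_contra h
  push Not at h
  exact hne (A7.PumpL2.eq_bot_of_PGL R (R.mem_PGL_iff_fld.2 h.2) h.1 hα hP hp)

include R in
/-- the centralizer of an involution of `L` contains no perfect subgroup `≠ 1` -/
theorem solv {z : L} (hzz : z * z = 1) (hz1 : z ≠ 1) {P : Subgroup L} (hP : ∀ p ∈ P, p * z = z * p)
    (hp : ⁅P, P⁆ = P) : P = ⊥ := by
  refine A7.PumpL2.eq_bot_of_PGL R (R.conj_mem_PGL z) ?_ ?_ (E := P) ?_ hp
  · intro h
    exact hz1 (R.conj_injective (by rw [h, map_one]))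
  · rw [← map_mul, hzz, map_one]
  · intro p hpP
    rw [mem_fixSub, MulAut.conj_apply, ← hP p hpP, mul_inv_cancel_right]

/-- an involutory automorphism commuting with one of field type is inner or of field type -/
theorem inner_or_field {φ β : MulAut L} (hφ : φ * φ = 1) (hf : R.fld φ ≠ 1) (hβ : β * β = 1)
    (hc : β * φ = φ * β) : R.fld β ≠ 1 ∨ ∃ y : L, y * y = 1 ∧ β = MulAut.conj y := by
  by_cases h : R.fld β = 1
  · right
    obtain ⟨y, hy⟩ := Cfsg.Agent.GH.L2AutField.sig_of_comm R hφ hf hc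
    rw [h, map_one, mul_one] at hy
    refine ⟨y, ?_, hy⟩
    apply R.conj_injective
    rw [map_mul, ← hy, hβ, map_one]
  · exact Or.inl h

/-! ### four-groups -/

include R in
/-- `C_L(V) = V` -/
theorem four_cent {a b h : L} (hF : Four a b) (ha : h * a = a * h) (hb : h * b = b * h) :
    h = 1 ∨ h = a ∨ h = b ∨ h = a * b := by
  have h1 : MulAut.conj h a = a := by rw [MulAut.conj_apply, ha, mul_inv_cancel_right]
  have h2 : MulAut.conj h b = b := by rw [MulAut.conj_apply, hb, mul_inv_cancel_right]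
  rcases R.fix_four hF (R.conj_mem_PGL h) h1 h2 with h3 | h3 | h3 | h3
  · left
    apply R.conj_injective
    rw [h3, map_one]
  · exact Or.inr (Or.inl (R.conj_injective h3))
  · exact Or.inr (Or.inr (Or.inl (R.conj_injective h3)))
  · exact Or.inr (Or.inr (Or.inr (R.conj_injective h3)))

include R in
/-- some element maps `a` to `b` and `b` to `a b` -/
theorem rho {a b : L} (hF : Four a b) : ∃ y : L, y * a * y⁻¹ = b ∧ y * b * y⁻¹ = a * b := by
  obtain ⟨Φ, y, δ, -, -, -, -, -, -, h1, h2, -⟩ := R.exists_frame hF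
  exact ⟨y, h1, h2⟩

include R in
/-- the centralizer of a four-group in `Aut(L)` is abelian -/
theorem four_comm {a b : L} (hF : Four a b) {α β : MulAut L} (ha : α a = a) (hb : α b = b)
    (ha' : β a = a) (hb' : β b = b) : α * β = β * α := by
  obtain ⟨Φ, y, δ, -, hΦa, hΦb, -, -, -, -, -, -, -, -, -, -, hfix, -⟩ := R.exists_frame hF
  obtain ⟨u, hu, h1⟩ := hfix α ha hb
  obtain ⟨v, hv, h2⟩ := hfix β ha' hb'
  have hΦ : ∀ σ, ∀ w, (w = 1 ∨ w = a ∨ w = b ∨ w = a * b) → Φ σ w = w := by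
    rintro σ w (rfl | rfl | rfl | rfl)
    · exact map_one _
    · exact hΦa σ
    · exact hΦb σ
    · rw [map_mul, hΦa, hΦb]
  have huv : u * v = v * u := by
    have e1 : a * (a * b) = a * b * a := by rw [hF.comm, ← mul_assoc, hF.comm]
    have e2 : b * (a * b) = a * b * b := by rw [← mul_assoc, ← hF.comm]
    rcases hu with rfl | rfl | rfl | rfl <;> rcases hv with rfl | rfl | rfl | rfl <;>
      first
        | rfl
        | rw [one_mul, mul_one]
        | rw [mul_one, one_mul]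
        | exact hF.comm
        | exact hF.comm.symm
        | exact e1
        | exact e1.symm
        | exact e2
        | exact e2.symm
  have hc : ∀ σ w, (w = 1 ∨ w = a ∨ w = b ∨ w = a * b) →
      Φ σ * MulAut.conj w = MulAut.conj w * Φ σ := by
    intro σ w hw
    have h3 := conj_conj (Φ σ) w
    rw [hΦ σ w hw] at h3
    calc Φ σ * MulAut.conj w = Φ σ * MulAut.conj w * (Φ σ)⁻¹ * Φ σ := by group
      _ = MulAut.conj w * Φ σ := by rw [h3]
  rw [h1, h2]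
  obtain ⟨σ, hσ⟩ : ∃ σ, σ = R.fld α := ⟨_, rfl⟩
  obtain ⟨τ, hτ⟩ : ∃ τ, τ = R.fld β := ⟨_, rfl⟩
  rw [← hσ, ← hτ]
  have h4 : Φ σ * Φ τ = Φ τ * Φ σ := by
    rw [← map_mul, ← map_mul, Cfsg.Agent.Lib.AutSL2Out.ringEquiv_comm]
  calc MulAut.conj u * Φ σ * (MulAut.conj v * Φ τ) =
      MulAut.conj u * (Φ σ * MulAut.conj v) * Φ τ := by group
    _ = MulAut.conj (u * v) * (Φ σ * Φ τ) := by
      rw [hc _ v hv, map_mul]; group
    _ = MulAut.conj (v * u) * (Φ τ * Φ σ) := by rw [huv, h4]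
    _ = MulAut.conj v * (MulAut.conj u * Φ τ) * Φ σ := by rw [map_mul]; group
    _ = MulAut.conj v * Φ τ * (MulAut.conj u * Φ σ) := by
      rw [← hc _ u hu]; group

/-! ### Sylow 2-subgroups -/

namespace Fd

variable {R} {φ : MulAut L} {M : Subgroup L} (h : Fd R φ M)
include h

/-- `M` is determined by `φ` -/
theorem unique {M' : Subgroup L} (h' : Fd R φ M') : M = M' :=
  le_antisymm (h'.max M h.le h.perf) (h.max M' h'.le h'.perf)

theorem sq_mem {x : L} (hx : φ x = x) : x * x ∈ M := by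
  by_cases hxM : x ∈ M
  · exact mul_mem hxM hxM
  · exact h.idx x x hx hx hxM hxM

/-- fixed points normalize `M` -/
theorem normal {c m : L} (hc : φ c = c) (hm : m ∈ M) : c * m * c⁻¹ ∈ M := by
  by_cases hcM : c ∈ M
  · exact mul_mem (mul_mem hcM hm) (inv_mem hcM)
  · have h1 : φ (c * m) = c * m := by rw [map_mul, hc, h.le m hm]
    have h2 : c * m ∉ M := fun h3 => hcM ((Subgroup.mul_mem_cancel_right _ hm).1 h3)
    have h3 : c⁻¹ ∉ M := fun h4 => hcM (inv_mem_iff.1 h4)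
    exact h.idx _ _ h1 (by rw [map_inv, hc]) h2 h3

theorem card_eq : ∃ k, Odd k ∧ Nat.card L = Nat.card M * (2 * k) := by
  obtain ⟨E, R₀, hE, -⟩ := h.rep
  have h1 := R.card_mul_two
  have h2 := R₀.card_mul_two
  obtain ⟨q, hq⟩ : ∃ q, q = Nat.card E := ⟨_, rfl⟩
  rw [hE, ← hq] at h1
  rw [← hq] at h2
  have hodd : Odd q := hq ▸ odd_card (two_sub R.two E)
  have hq1 : 1 < q := hq ▸ Finite.one_lt_card
  obtain ⟨t, ht⟩ := hodd
  have h3 : (q ^ 2 + 1) = 2 * (2 * (t ^ 2 + t) + 1) := by rw [ht]; ring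
  refine ⟨q * (2 * (t ^ 2 + t) + 1), ⟨2 * t * t ^ 2 + 2 * t * t + t + (t ^ 2 + t) , ?_⟩, ?_⟩
  · rw [ht]; ring
  · have h4 : q ^ 2 * ((q ^ 2) ^ 2 - 1) = q * (q ^ 2 - 1) * (q * (q ^ 2 + 1)) := by
      have h5 : (q ^ 2) ^ 2 - 1 = (q ^ 2 - 1) * (q ^ 2 + 1) := by
        obtain ⟨n, hn⟩ : ∃ n, q ^ 2 = n + 1 := ⟨q ^ 2 - 1, by
          have : 0 < q ^ 2 := by positivity
          omega⟩
        rw [hn, Nat.add_sub_cancel]
        have : (n + 1) ^ 2 = n * (n + 1 + 1) + 1 := by ring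
        rw [this, Nat.add_sub_cancel]
      rw [h5]
      ring
    rw [h4, ← h2, h3] at h1
    have h6 : Nat.card L * 2 = Nat.card M * (2 * (q * (2 * (t ^ 2 + t) + 1))) * 2 := by
      rw [h1]; ring
    exact Nat.eq_of_mul_eq_mul_right (by norm_num) h6

/-- a Sylow 2-subgroup is not contained in `M` -/
theorem not_le (S : Sylow 2 L) : ¬ (S : Subgroup L) ≤ M := by
  intro hle
  have hfin : Finite L := R.finite
  obtain ⟨k, -, hk⟩ := h.card_eq
  obtain ⟨j, hj⟩ := Subgroup.card_dvd_of_le hle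
  have h1 := (S : Subgroup L).card_mul_index
  have h2 : ¬ 2 ∣ (S : Subgroup L).index := S.not_dvd_index
  apply h2
  rw [hk, hj, mul_assoc] at h1
  have h3 := Nat.eq_of_mul_eq_mul_left Nat.card_pos h1
  rw [h3]
  exact ⟨j * k, by ring⟩

section syl

variable (S : Sylow 2 L)

theorem exists_not_mem : ∃ s ∈ S, s ∉ M := by
  by_contra hcon
  push Not at hcon
  exact h.not_le S hcon

variable (hS : ∀ s ∈ S, φ s = s)
include hS

/-- `S ∩ M` contains a four-group -/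
theorem exists_four : ∃ a b : L, Four a b ∧ a ∈ S ∧ b ∈ S ∧ a ∈ M ∧ b ∈ M := by
  have hfin : Finite L := R.finite
  obtain ⟨E, R₀, -, -⟩ := h.rep
  obtain ⟨a, b, hab⟩ := R₀.exists_four
  have hF := four_coe hab
  have hsyl : TriBase.IsSyl (fixSub φ) (S : Subgroup L) :=
    ⟨S.2, hS, fun R' h1 _ h3 => S.3 h1 h3⟩
  have hle : hF.sub ≤ fixSub φ := by
    rintro x (rfl | rfl | rfl | rfl)
    · exact one_mem _
    · exact h.le _ a.2
    · exact h.le _ b.2
    · exact mul_mem (h.le _ a.2) (h.le _ b.2)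
  obtain ⟨g, hg, hle'⟩ := hsyl.conj hF.sub_two hle
  have hgi : φ g⁻¹ = g⁻¹ := by rw [map_inv, (hg : φ g = g)]
  have key : ∀ x : L, x ∈ hF.sub → x ∈ M → g⁻¹ * x * g ∈ S ∧ g⁻¹ * x * g ∈ M := by
    intro x hx hxM
    constructor
    · have h1 := hle' hx
      rw [SignalizersComponents.IntrinsicBasic.mem_cj] at h1
      exact h1
    · have h1 := h.normal hgi hxM
      rwa [inv_inv] at h1
  have ha := key a (Or.inr (Or.inl rfl)) a.2
  have hb := key b (Or.inr (Or.inr (Or.inl rfl))) b.2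
  have hF' := hF.map (MulAut.conj g⁻¹)
  rw [MulAut.conj_apply, MulAut.conj_apply, inv_inv] at hF'
  exact ⟨_, _, hF', ha.1, hb.1, ha.2, hb.2⟩

/-- the dihedral frame: `d ∉ M`, `r ∈ M`, `d² ≠ 1` -/
theorem exists_dih : ∃ d r : L, Dih (S : Subgroup L) d r ∧ d * d ≠ 1 ∧ d ∉ M ∧ r ∈ M := by
  obtain ⟨d, r, hd⟩ := R.exists_dih S
  have hdd : d * d ≠ 1 := R.ftype_dd (fun hp => h.fld (R.mem_PGL_iff_fld.1 hp)) h.sq S hd
  have hd2 : d * d ∈ M := h.sq_mem (hS d hd.d_mem)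
  obtain ⟨a, b, hF, haS, hbS, haM, hbM⟩ := h.exists_four S hS
  have hfin : Finite L := R.finite
  -- some involution of `S ∩ M` is a reflection
  obtain ⟨v, hvS, hvM, hvd⟩ : ∃ v ∈ S, v ∈ M ∧ v ∉ Subgroup.zpowers d := by
    by_contra hcon
    push Not at hcon
    exact four_not_cyc hF (hcon a haS haM) (hcon b hbS hbM)
  obtain ⟨k, rfl⟩ := (hd.cov v hvS).resolve_left hvd
  refine ⟨d, d ^ k * r, hd.change k, hdd, ?_, hvM⟩
  intro hdM
  apply h.not_le S
  intro s hs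
  rcases (hd.change k).cov s hs with ⟨j, rfl⟩ | ⟨j, rfl⟩
  · exact M.zpow_mem hdM j
  · exact M.mul_mem (M.zpow_mem hdM j) hvM

omit hS in
/-- a central involution of `S` is a rotation -/
theorem central_rot {d r : L} (hd : Dih (S : Subgroup L) d r) (hdd : d * d ≠ 1) {z : L} (hz : z ∈ S)
    (hc : ∀ s ∈ S, s * z = z * s) : z ∈ Subgroup.zpowers d := by
  rcases hd.cov z hz with h1 | ⟨k, rfl⟩
  · exact h1
  · exfalso
    have h1 := hd.pow_r_conj k 1
    rw [zpow_one, ← hc d hd.d_mem, mul_inv_cancel_right, zpow_neg, zpow_one] at h1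
    exact hdd (mul_eq_one_iff_eq_inv.2 h1)

/-- rotations of `S ∩ M` are even -/
theorem even_of_mem {d r : L} (hd : Dih (S : Subgroup L) d r) (hdM : d ∉ M) {k : ℤ}
    (hk : d ^ k ∈ M) : Even k := by
  rcases Int.even_or_odd k with h1 | ⟨j, hj⟩
  · exact h1
  · exfalso
    apply hdM
    have hd2 : d * d ∈ M := h.sq_mem (hS d hd.d_mem)
    have h2 : d ^ k = (d * d) ^ j * d := by
      rw [hj, zpow_add, zpow_one, zpow_mul, show ((2 : ℤ)) = ((2 : ℕ) : ℤ) from rfl, zpow_natCast, pow_two]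
    rw [h2] at hk
    exact (Subgroup.mul_mem_cancel_left _ (M.zpow_mem hd2 j)).1 hk

theorem pow_even_mem {d : L} (hd : d ∈ S) {k : ℤ} (hk : Even k) : d ^ k ∈ M := by
  obtain ⟨j, hj⟩ := hk
  have hd2 : d * d ∈ M := h.sq_mem (hS d hd)
  have h2 : d ^ k = (d * d) ^ j := by
    rw [hj, zpow_add, ← (Commute.refl d).mul_zpow]
  rw [h2]
  exact M.zpow_mem hd2 j

/-- the central involution of `S` lies in `M` -/
theorem z_mem {z : L} (hz : z ∈ S) (hzz : z * z = 1) (hc : ∀ s ∈ S, s * z = z * s) : z ∈ M := by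
  have hfin : Finite L := R.finite
  obtain ⟨d, r, hd, hdd, hdM, hrM⟩ := h.exists_dih S hS
  obtain ⟨k, rfl⟩ := central_rot h S hd hdd hz hc
  refine h.pow_even_mem S hS hd.d_mem ?_
  obtain ⟨n, hn, h1, h2⟩ := hd.exists_z S.2
  change d ^ k * d ^ k = 1 at hzz
  rw [← zpow_add, ← orderOf_dvd_iff_zpow_eq_one, hn] at hzz
  have hn1 : n ≠ 0 := by
    rintro rfl
    apply hdd
    rw [pow_zero, pow_one] at h1
    exact h1
  obtain ⟨m, rfl⟩ := Nat.exists_eq_succ_of_ne_zero hn1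
  obtain ⟨j, hj⟩ := hzz
  refine ⟨2 ^ m * j, ?_⟩
  have h3 : (((2 : ℕ) ^ (m.succ + 1) : ℕ) : ℤ) = 4 * 2 ^ m := by
    push_cast
    rw [Nat.succ_eq_add_one]
    ring
  rw [h3] at hj
  linarith

/-- a noncentral involution of `S ∩ M` -/
theorem exists_v (z : L) : ∃ v ∈ S, v ∈ M ∧ v * v = 1 ∧ v ≠ 1 ∧ v ≠ z := by
  obtain ⟨a, b, hF, haS, hbS, haM, hbM⟩ := h.exists_four S hS
  by_cases h1 : a = z
  · exact ⟨b, hbS, hbM, hF.bb, hF.b1, fun h2 => hF.ne (h1.trans h2.symm)⟩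
  · exact ⟨a, haS, haM, hF.aa, hF.a1, h1⟩

end syl

/-- `z ∈ M ∩ M'` an involution, `M'` the group belonging to `φ ∘ conj z`: no other involution commuting with `z` lies in
`M ∩ M'`. -/
theorem eq_z {z : L} {M' : Subgroup L} (h' : Fd R (MulAut.conj z * φ) M') (hzz : z * z = 1)
    (hz1 : z ≠ 1) (hzM : z ∈ M) (hzM' : z ∈ M') {v : L} (hvv : v * v = 1) (hv1 : v ≠ 1)
    (hvz : v * z = z * v) (hvM : v ∈ M) (hvM' : v ∈ M') : v = z := by
  by_contra hne
  have hF : Four z v := ⟨hzz, hvv, hz1, hv1, fun h1 => hne h1.symm, hvz.symm⟩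
  have hsub : ∀ N : Subgroup L, (∃ (E : Subfield F) (_ : Cfsg.Agent.GH.L2Aut.Rep E N), True) →
      z ∈ N → v ∈ N → ∃ ρ ∈ N, ρ * z * ρ⁻¹ = v ∧ ρ * v * ρ⁻¹ = z * v := by
    rintro N ⟨E, R₀, -⟩ hzN hvN
    have hF' : Four (⟨z, hzN⟩ : N) ⟨v, hvN⟩ :=
      ⟨Subtype.ext hzz, Subtype.ext hvv, fun h1 => hz1 (congrArg Subtype.val h1),
        fun h1 => hv1 (congrArg Subtype.val h1), fun h1 => hne (congrArg Subtype.val h1).symm,
        Subtype.ext hvz.symm⟩
    obtain ⟨ρ, h1, h2⟩ := rho R₀ hF'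
    exact ⟨ρ, ρ.2, congrArg Subtype.val h1, congrArg Subtype.val h2⟩
  obtain ⟨ρ, hρ, h1, h2⟩ := hsub M (by obtain ⟨E, R₀, -⟩ := h.rep; exact ⟨E, R₀, trivial⟩) hzM hvM
  obtain ⟨τ, hτ, h3, h4⟩ := hsub M' (by obtain ⟨E, R₀, -⟩ := h'.rep; exact ⟨E, R₀, trivial⟩) hzM' hvM'
  -- `τ ρ⁻¹` centralizes the four-group
  have h5 : ρ⁻¹ * v * ρ = z := by rw [← h1]; group
  have h6 : ρ⁻¹ * (z * v) * ρ = v := by rw [← h2]; group
  have hv : τ * ρ⁻¹ * v = v * (τ * ρ⁻¹) := by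
    calc τ * ρ⁻¹ * v = τ * (ρ⁻¹ * v * ρ) * τ⁻¹ * (τ * ρ⁻¹) := by group
      _ = v * (τ * ρ⁻¹) := by rw [h5, h3]
  have hzv : τ * ρ⁻¹ * (z * v) = z * v * (τ * ρ⁻¹) := by
    calc τ * ρ⁻¹ * (z * v) = τ * (ρ⁻¹ * (z * v) * ρ) * τ⁻¹ * (τ * ρ⁻¹) := by group
      _ = z * v * (τ * ρ⁻¹) := by rw [h6, h4]
  have hz : τ * ρ⁻¹ * z = z * (τ * ρ⁻¹) := by
    have hzz' : z = z * v * v := by rw [mul_assoc, hvv, mul_one]
    calc τ * ρ⁻¹ * z = τ * ρ⁻¹ * (z * v) * v := by rw [mul_assoc (τ * ρ⁻¹), ← hzz']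
      _ = z * v * (τ * ρ⁻¹ * v) := by rw [hzv, mul_assoc]
      _ = z * v * v * (τ * ρ⁻¹) := by rw [hv]; group
      _ = z * (τ * ρ⁻¹) := by rw [← hzz']
  have h7 : φ (τ * ρ⁻¹) = τ * ρ⁻¹ := by
    rcases four_cent R hF hz hv with h8 | h8 | h8 | h8 <;> rw [h8]
    · exact map_one _
    · exact h.le z hzM
    · exact h.le v hvM
    · rw [map_mul, h.le z hzM, h.le v hvM]
  have h8 : φ τ = τ := by
    rw [map_mul, map_inv, h.le ρ hρ] at h7
    exact mul_right_cancel h7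
  have h9 := h'.le τ hτ
  rw [MulAut.mul_apply, h8, MulAut.conj_apply, mul_inv_eq_iff_eq_mul] at h9
  apply hne
  rw [← h3, ← h9, mul_inv_cancel_right]

/-- **the product of noncentral involutions of `S ∩ M` and `S ∩ M'`** -/
theorem mul_odd {z : L} {M' : Subgroup L} (h' : Fd R (MulAut.conj z * φ) M') (S : Sylow 2 L)
    (hS : ∀ s ∈ S, φ s = s) (hzS : z ∈ S) (hzz : z * z = 1) (hz1 : z ≠ 1)
    (hc : ∀ s ∈ S, s * z = z * s) {v u : L} (hvS : v ∈ S) (huS : u ∈ S) (hvM : v ∈ M) (huM : u ∈ M')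
    (hvv : v * v = 1) (hv1 : v ≠ 1) (hvz : v ≠ z) (huu : u * u = 1) (hu1 : u ≠ 1) (huz : u ≠ z) :
    ∃ (d r : L) (k : ℤ), Dih (S : Subgroup L) d r ∧ d * d ≠ 1 ∧ Odd k ∧ v * u = d ^ k := by
  have hfin : Finite L := R.finite
  have hS' : ∀ s ∈ S, (MulAut.conj z * φ) s = s := by
    intro s hs
    rw [MulAut.mul_apply, hS s hs, MulAut.conj_apply, ← hc s hs, mul_inv_cancel_right]
  have hzM := h.z_mem S hS hzS hzz hc
  have hzM' := h'.z_mem S hS' hzS hzz hc
  obtain ⟨d, r, hd, hdd, hdM, hrM⟩ := h.exists_dih S hS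
  have hrefl : ∀ w ∈ S, w * w = 1 → w ≠ 1 → w ≠ z → ∃ k : ℤ, w = d ^ k * r := by
    intro w hw hww hw1 hwz
    refine (hd.cov w hw).resolve_left fun h1 => ?_
    have h2 := central_rot h S hd hdd hzS hc
    exact four_not_cyc ⟨hww, hzz, hw1, hz1, hwz, hc w hw⟩ h1 h2
  obtain ⟨i, rfl⟩ := hrefl v hvS hvv hv1 hvz
  obtain ⟨j, rfl⟩ := hrefl u huS huu hu1 huz
  have h1 : d ^ i * r * (d ^ j * r) = d ^ (i - j) := by
    have h2 := hd.pow_r_sq j
    calc d ^ i * r * (d ^ j * r) = d ^ (i - j) * (d ^ j * r * (d ^ j * r)) := by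
          rw [zpow_sub]; group
      _ = d ^ (i - j) := by rw [h2, mul_one]
  refine ⟨d, r, i - j, hd, hdd, ?_, h1⟩
  by_contra hcon
  rw [Int.not_odd_iff_even] at hcon
  have h2 := h'.pow_even_mem S hS' hd.d_mem hcon
  rw [← h1] at h2
  have h3 : d ^ i * r ∈ M' := (Subgroup.mul_mem_cancel_right _ huM).1 h2
  exact hvz (h.eq_z h' hzz hz1 hzM hzM' hvv hv1 (hc _ hvS) hvM h3)

/-- the order of the product -/
theorem orderOf_mul {z : L} {M' : Subgroup L} (h' : Fd R (MulAut.conj z * φ) M') (S : Sylow 2 L)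
    (hS : ∀ s ∈ S, φ s = s) (hzS : z ∈ S) (hzz : z * z = 1) (hz1 : z ≠ 1)
    (hc : ∀ s ∈ S, s * z = z * s) {v u : L} (hvS : v ∈ S) (huS : u ∈ S) (hvM : v ∈ M) (huM : u ∈ M')
    (hvv : v * v = 1) (hv1 : v ≠ 1) (hvz : v ≠ z) (huu : u * u = 1) (hu1 : u ≠ 1) (huz : u ≠ z) :
    2 * orderOf (v * u) = Nat.card S ∧ ∃ k : ℕ, (v * u) ^ (2 * k) = z := by
  have hfin : Finite L := R.finite
  obtain ⟨d, r, k, hd, hdd, hk, hvu⟩ :=
    h.mul_odd h' S hS hzS hzz hz1 hc hvS huS hvM huM hvv hv1 hvz huu hu1 huz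
  obtain ⟨n, hn, h1, h2⟩ := hd.exists_z S.2
  have hd2 : ∃ n, d ^ 2 ^ n = 1 := ⟨n + 1, by rw [← hn, pow_orderOf_eq_one]⟩
  obtain ⟨j, hj⟩ := zpowers_odd hd2 hk
  change (d ^ k) ^ j = d at hj
  rw [hvu]
  constructor
  · have h3 : orderOf (d ^ k) = orderOf d := by
      apply Nat.dvd_antisymm
      · exact orderOf_dvd_of_mem_zpowers ⟨k, rfl⟩
      · exact orderOf_dvd_of_mem_zpowers ⟨j, hj⟩
    rw [h3]
    exact (hd.card).symm
  · obtain ⟨m, rfl⟩ := central_rot h S hd hdd hzS hc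
    have h3 : Even m := by
      change d ^ m * d ^ m = 1 at hzz
      rw [← zpow_add, ← orderOf_dvd_iff_zpow_eq_one, hn] at hzz
      have hn1 : n ≠ 0 := by
        rintro rfl
        apply hdd
        rw [pow_zero, pow_one] at h1
        exact h1
      obtain ⟨l, rfl⟩ := Nat.exists_eq_succ_of_ne_zero hn1
      obtain ⟨i, hi⟩ := hzz
      refine ⟨2 ^ l * i, ?_⟩
      have h3 : (((2 : ℕ) ^ (l.succ + 1) : ℕ) : ℤ) = 4 * 2 ^ l := by
        push_cast
        rw [Nat.succ_eq_add_one]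
        ring
      rw [h3] at hi
      linarith
    obtain ⟨l, hl⟩ := h3
    -- `d ^ m = (d ^ k) ^ (j m) = ((d ^ k) ^ 2) ^ (j l)`
    have h4 : d ^ m = ((d ^ k) ^ 2) ^ (j * l) := by
      rw [← zpow_natCast, ← zpow_mul]
      have : ((2 : ℕ) : ℤ) * (j * l) = j * m := by rw [hl]; push_cast; ring
      rw [this, zpow_mul (d ^ k) j m, hj]
    have h5 : d ^ m ∈ Subgroup.zpowers ((d ^ k) ^ 2) := ⟨j * l, h4.symm⟩
    obtain ⟨i, hi⟩ := (mem_powers_iff_mem_zpowers).2 h5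
    exact ⟨i, by rw [pow_mul]; exact hi⟩

end Fd

end Cfsg.Agent.UGT.Q2.Facts
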