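import Cfsg.Agent.UGT.Q2.BaseB
import Cfsg.Agent.UGT.Q2.Main

/-!
# N5, `|Q| = 2`: the frame of an inner triple (helper285)

`exists_sit`: an inner triple of type `L2q q` under (H) in a group of sectional 2-rank at least 5 gives `Sit`, the action
of `N(T)` on `⟨a, z, f⟩`, the involutions of `C_T(f)` and the dihedral structure of `T ⊓ L`.
-/

set_option autoImplicit false
set_option linter.unusedSectionVars false

open Cfsg Subgroup
open Cfsg.Agent.SignalizersComponents Cfsg.Agent.Lib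
open Cfsg.Agent.SignalizersComponents.IntrinsicBasic
open Cfsg.Agent.Intrinsic.Basic Cfsg.Agent.Intrinsic.Cen Cfsg.Agent.Intrinsic.Diag
open Cfsg.Agent.UGT.Triple Cfsg.Agent.UGT.TriBase Cfsg.Agent.UGT.Iface Cfsg.Agent.UGT.L2Inner

namespace Cfsg.Agent.UGT.Q2

universe u

variable {G : Type u} [Group G] {F : Type} [Field F] [Finite F]

theorem fieldType_of {L : Subgroup G} {R : GH.L2Aut.Rep F (↥L ⧸ oddCore ↥L)} {g : G}
    (h : p2 R g ≠ 1) : FieldType L R g := by
  by_cases hg : g ∈ normalizer (L : Set G)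
  · rw [p2_of R hg] at h
    exact ⟨hg, h⟩
  · exact absurd (dif_neg hg) h

theorem p1_fix {L : Subgroup G} (R : GH.L2Aut.Rep F (↥L ⧸ oddCore ↥L)) {g : G} (h : Fixes g L) :
    p1 R g = 1 := by
  rw [p1_of R h.1, (McLLyComp.Act.act_eq_one_iff h.1).2 h, map_one]

theorem p2_fix {L : Subgroup G} (R : GH.L2Aut.Rep F (↥L ⧸ oddCore ↥L)) {g : G} (h : Fixes g L) :
    p2 R g = 1 := by
  rw [p2_of R h.1, (McLLyComp.Act.act_eq_one_iff h.1).2 h, map_one]

theorem isPGroup_of_sq {a : G} (h : a * a = 1) : IsPGroup 2 ↥(zpowers a) :=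
  OddHalf.D6.isPGroup_zp ⟨1, by rw [pow_one, sq, h]⟩

variable [Finite G]

/-- **the frame of a triple under (H)** -/
theorem exists_inp {x a : G} {L : Subgroup G} (hT : IsTriple x a L)
    (R : GH.L2Aut.Rep F (↥L ⧸ oddCore ↥L)) (hin : IsInner x L) (hH : HQ G (Nat.card F)) :
    ∃ T, Inp a L T ∧ x ∈ T := by
  have hL : L2q (Nat.card F) L := ⟨F, inferInstance, inferInstance, rfl, ⟨R⟩⟩
  have hH' := hH x a L hT hL hin
  have hxx := sq_of_order hT.invx
  have haa := sq_of_order hT.inva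
  have ha1 := ne_one_of_order hT.inva
  obtain ⟨T, hTs, hxT⟩ := exists_isSyl (E := centralizer ({a} : Set G)) (isPGroup_of_sq hxx)
    (by rw [zpowers_le]; exact mem_c hT.comm.symm)
  refine ⟨T, ⟨hT.inva, hT.comp, ?_, hTs, ?_⟩, hxT (mem_zpowers x)⟩
  · -- `L` is normal in `C(a)`
    intro c hc
    rw [mem_normalizer_iff_cj]
    by_contra hne
    have hca : cj c (centralizer ({a} : Set G)) = centralizer ({a} : Set G) :=
      mem_normalizer_iff_cj.mp (le_normalizer hc)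
    have hK : IsComp (centralizer ({a} : Set G)) (cj c L) := by
      have := hT.comp.cj c
      rwa [hca] at this
    obtain ⟨P, hP, -⟩ := exists_isSyl (E := cj c L) (R₀ := ⊥) (IsPGroup.of_bot) bot_le
    have h1 := two_mul_card_lt hK hP (D := ⊥) bot_le (by
      rintro d hd
      rw [mem_bot.1 hd]
      exact McLLyComp.Act.fixes_one _)
    rw [card_bot] at h1
    have h2 := hH' P hP.two (hP.le.trans hK.le) fun g hg =>
      hT.comp.fixes_of_mem hK (Ne.symm hne) (hP.le hg)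
    omega
  · -- `C_T(L / O(L)) = ⟨a⟩`
    intro g hg hgL
    have haT : a ∈ T := by
      obtain ⟨k, hk, h1⟩ := hTs.conj (isPGroup_of_sq haa) (by
        rw [zpowers_le]; exact mem_c rfl)
      have h2 := mem_cj.1 (h1 (mem_zpowers a))
      have h3 : a * k = k * a := (comm_c hk).symm
      rwa [mul_assoc, h3, inv_mul_cancel_left] at h2
    have h2 := hH' (fix T L) (hTs.two.to_le (fix_le T L)) ((fix_le T L).trans hTs.le)
      (fun g hg => hg.2)
    have h3 : zpowers a ≤ fix T L := by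
      rw [zpowers_le]
      exact ⟨haT, fixes_self' hT.comp.le⟩
    have h4 : Nat.card ↥(zpowers a) = 2 := by rw [Nat.card_zpowers, hT.inva]
    have h5 := Subgroup.eq_of_le_of_card_ge h3 (by rw [h4]; exact h2)
    have h6 : g ∈ zpowers a := by rw [h5]; exact ⟨hg, hgL⟩
    obtain ⟨k, rfl⟩ := mem_zpowers_iff.1 h6
    rcases Int.even_or_odd' k with ⟨m, rfl | rfl⟩
    · left
      rw [zpow_mul, zpow_two, haa, one_zpow]
    · right
      rw [zpow_add, zpow_mul, zpow_two, haa, one_zpow, one_mul, zpow_one]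

/-- **the frame** -/
theorem exists_sit {x a : G} {L : Subgroup G} (hT : IsTriple x a L)
    (R : GH.L2Aut.Rep F (↥L ⧸ oddCore ↥L)) (hin : IsInner x L) (hH : HQ G (Nat.card F))
    (hr : ¬ SectionalPRankLE 2 4 G)
    (hsq : ∀ (T : Subgroup G) (f : G), Inp a L T → f ∈ T → f * f = a → p2 R f ≠ 1 →
      (∀ e ∈ T ⊓ L, f * e = e * f) → SectionalPRankLE 2 4 G) :
    ∃ (b z f : G) (T : Subgroup G), Sit a b z f L T R ∧
      (∀ s ∈ normalizer (T : Set G), s * z * s⁻¹ = z ∧ s * f * s⁻¹ ∈ closure ({a, z, f} : Set G) ∧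
        s * a * s⁻¹ ∈ closure ({a, z, f} : Set G)) ∧
      (∀ t ∈ T, t * t = 1 → t * f = f * t →
        ∃ d ∈ T ⊓ L, ∃ w ∈ closure ({a, z, f} : Set G), t = d * w) ∧
      (∃ (r c : G) (N : ℕ), r ∈ T ⊓ L ∧ c ∈ T ⊓ L ∧ 2 ≤ N ∧ orderOf r = 2 ^ N ∧
        z = r ^ 2 ^ (N - 1) ∧ c * c = 1 ∧ c * r * c⁻¹ = r⁻¹ ∧
        ∀ d ∈ T ⊓ L, (∃ k : ℤ, d = r ^ k) ∨ ∃ k : ℤ, d = r ^ k * c) := by
  obtain ⟨T, I, hxT⟩ := exists_inp hT R hin hH
  have haa := sq_of_order hT.inva
  have hxx := sq_of_order hT.invx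
  -- the field element
  obtain ⟨t, ht, htt, hft⟩ : ∃ t ∈ T, (t * t = 1 ∨ t * t = a) ∧ p2 R t ≠ 1 := by
    by_contra hcon
    push Not at hcon
    exact hr (I.harada R hcon)
  obtain ⟨f, hf, hff, hne, hfD⟩ := I.exists_field R ⟨t, ht, htt, hft⟩
  replace hff : f * f = 1 := hff.resolve_right fun h => hr (hsq T f I hf h hne hfD)
  obtain ⟨z, hzD, hzz, hz1, hzc, hcen, hnrm, hcj, hspl, hdih⟩ := I.exists_z R hf hff hne hfD
  -- `x` is inner
  obtain ⟨d, r, c, Fr⟩ := I.exists_fr R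
  obtain ⟨k0, hk0, hfx⟩ := hin
  have hxa : a * x = x * a := hT.comm
  have hk0a : a * k0 = k0 * a := Fr.K_comm k0 hk0
  have hxk : a * (x * k0⁻¹) = x * k0⁻¹ * a := Fr.comm_mul hxa (Fr.comm_inv hk0a)
  have e1 : x = x * k0⁻¹ * k0 := by group
  have hx1 : p1 R x = 1 := by
    rw [e1, Fr.o1_mul _ _ hxk hk0a, p1_fix R hfx, Fr.o1_K k0 hk0, mul_one]
  have hx2 : p2 R x = 1 := by
    rw [e1, Fr.o2_mul _ _ hxk hk0a, p2_fix R hfx, Fr.o2_K k0 hk0, mul_one]
  obtain ⟨e, he, hxe⟩ := Fr.ker x hxT hx1 hx2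
  obtain ⟨b, hb, hxb⟩ : ∃ b, (b = 1 ∨ b = a) ∧ x = b * e := by
    rcases hxe with h | h
    · exact ⟨1, Or.inl rfl, by rw [one_mul]; exact h⟩
    · exact ⟨a, Or.inr rfl, h⟩
  have hbb : b * b = 1 := by
    rcases hb with rfl | rfl
    · exact one_mul 1
    · exact haa
  have hbe : b * e = e * b := by
    rcases hb with rfl | rfl
    · rw [one_mul, mul_one]
    · exact Fr.K_comm e he.2
  have hee : e * e = 1 := by
    have h1 : b * e * (b * e) = e * e := by
      calc b * e * (b * e) = b * (e * b) * e := by group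
        _ = (b * b) * (e * e) := by rw [← hbe]; group
        _ = e * e := by rw [hbb, one_mul]
    rw [← h1, ← hxb]
    exact hxx
  have he1 : e ≠ 1 := by
    rintro rfl
    rw [mul_one] at hxb
    rcases hb with rfl | rfl
    · exact ne_one_of_order hT.invx hxb
    · apply hT.not_fixes
      rw [hxb]
      exact fixes_self' hT.comp.le
  obtain ⟨k, hk, hkz⟩ := hcj e he hee he1
  have hka : a * k = k * a := Fr.K_comm k hk
  have hkb : b * k = k * b := by
    rcases hb with rfl | rfl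
    · rw [one_mul, mul_one]
    · exact hka
  have htr : IsTriple (b * z) a L := by
    have h1 := hT.cj k
    have h2 : k * x * k⁻¹ = b * z := by
      rw [hxb, ← hkz]
      calc k * (b * e) * k⁻¹ = (k * b) * e * k⁻¹ := by group
        _ = b * (k * e * k⁻¹) := by rw [← hkb]; group
    have h3 : k * a * k⁻¹ = a := by rw [← hka, mul_inv_cancel_right]
    have h4 : cj k L = L := mem_normalizer_iff_cj.mp (le_normalizer hk)
    rwa [h2, h3, h4] at h1
  exact ⟨b, z, f, T, ⟨htr, hb, I.nL, I.syl, I.q2, hzD.2, hzz, hz1, hzD.1, hzc, hf, hff,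
    fieldType_of hne, fun d hd => (hfD d hd).symm, hcen, I.exists_grow R hr⟩, hnrm, hspl, hdih⟩

end Cfsg.Agent.UGT.Q2
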