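import Cfsg.Agent.UGT.Q2.RepTop
import Cfsg.Agent.UGT.Q2.Full
import Cfsg.Agent.GH.L2QTwo.FieldMain
import Cfsg.Agent.GH.L2One.AutPslMain
import Cfsg.Agent.OddHalf.D6.FieldInvB

/-!
# N5, `|Q| = 2`: the base (helper285)

* `Inp a L T`: `L` is a normal 2-component of `C(a)`, `T ∈ Syl₂(C(a))`, `C_T(L / O(L)) = ⟨a⟩`.
* `Inp.exists_fr`: the frame `GH.L2QTwo.Frame a L T (T ⊓ L) d r c (p1 R) (p2 R)`.
* `Inp.harada`: if no element of `T` acting as an involution on `L / O(L)` has field type, `G` has sectional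
  2-rank at most 4.
-/

set_option autoImplicit false
set_option linter.unusedSectionVars false

open Cfsg Subgroup
open Cfsg.Agent.SignalizersComponents
open Cfsg.Agent.Intrinsic.Basic Cfsg.Agent.GH.Defs Cfsg.Agent.GH.Comp
open Cfsg.Agent.ThreePrime.AutQuot
open Cfsg.Agent.UGT.TriBase (IsSyl)
open Cfsg.Agent.GH.L2Aut (Four)
open Cfsg.Agent.OddHalf.D6

namespace Cfsg.Agent.UGT.Q2

variable {G : Type*} [Group G]

/-- the input -/
structure Inp (a : G) (L T : Subgroup G) : Prop where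
  inva : orderOf a = 2
  comp : IsComp (centralizer ({a} : Set G)) L
  nL : centralizer ({a} : Set G) ≤ normalizer (L : Set G)
  syl : IsSyl (centralizer ({a} : Set G)) T
  q2 : ∀ g ∈ T, Fixes g L → g = 1 ∨ g = a

namespace Inp

variable {a : G} {L T : Subgroup G} {F : Type} [Field F] [Finite F]

theorem aa (I : Inp a L T) : a * a = 1 := by rw [← sq, ← I.inva, pow_orderOf_eq_one]

theorem a1 (I : Inp a L T) : a ≠ 1 := by
  rintro rfl
  have h := I.inva
  rw [orderOf_one] at h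
  exact absurd h (by norm_num)

/-- the frame of `GH` -/
theorem frame (I : Inp a L T) (R : GH.L2Aut.Rep F (↥L ⧸ oddCore ↥L)) :
    GH.L2Frame.Frame (centralizer ({a} : Set G)) L T where
  comp := I.comp
  odd := by
    intro h
    unfold EvenCenter at h
    have h1 : center (Bar L) = ⊥ := R.center_eq_bot
    rw [h1, Subgroup.card_bot] at h
    exact absurd h (by decide)
  norm := I.syl.le.trans I.nL
  syl := I.syl.exists_sylow

theorem hQ (I : Inp a L T) : ∀ q ∈ T ⊓ GH.L2Frame.fix L, q = 1 ∨ q = a := fun q hq =>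
  I.q2 q hq.1 (GH.L2Frame.mem_fix.1 hq.2)

variable [Finite G]

theorem exists_fr (I : Inp a L T) (R : GH.L2Aut.Rep F (↥L ⧸ oddCore ↥L)) :
    ∃ (d : ℕ) (r c : G), GH.L2QTwo.Frame a L T (T ⊓ L) d r c (p1 R) (p2 R) := by
  have LF := I.frame R
  obtain ⟨S, hS⟩ := LF.exists_sylow
  obtain ⟨d, r, c, E⟩ := GH.L2One.AutPslMain.autData R.top S
  obtain ⟨r', c', -, -, h⟩ := GH.L2QTwo.frame_of I.aa I.a1 LF I.nL hS E
    (GH.L2AutPlus.autPlus_psl R.top) I.hQ
  rw [outFun_o1, outFun_fld] at h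
  exact ⟨d, _, _, h⟩

/-- the parts of `p2` in the frame -/
theorem p2_rho (I : Inp a L T) (R : GH.L2Aut.Rep F (↥L ⧸ oddCore ↥L)) {t : G} (ht : t ∈ T) :
    p2 R t = R.top.fld ((I.frame R).rho ⟨t, ht⟩) := by
  rw [← outFun_fld, GH.L2One.outFun_rho (I.frame R) R.top.fld ht]

theorem a_fix (I : Inp a L T) : a ∈ GH.L2Frame.fix L := by
  rw [GH.L2Frame.mem_fix]
  refine ⟨I.nL (mem_centralizer_singleton_iff.2 rfl), fun k hk => ?_⟩
  rw [commutatorElement_eq_one_iff_mul_comm.2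
    (mem_centralizer_singleton_iff.1 (I.comp.le hk)).symm]
  exact one_mem _

theorem rho_sq_iff (I : Inp a L T) (R : GH.L2Aut.Rep F (↥L ⧸ oddCore ↥L)) {t : G} (ht : t ∈ T) :
    (I.frame R).rho ⟨t, ht⟩ * (I.frame R).rho ⟨t, ht⟩ = 1 ↔ t * t = 1 ∨ t * t = a := by
  rw [← map_mul, (I.frame R).rho_eq_one_iff]
  constructor
  · intro h
    exact I.hQ _ ⟨mul_mem ht ht, h⟩
  · rintro (h | h)
    · rw [show ((⟨t, ht⟩ * ⟨t, ht⟩ : T) : G) = t * t from rfl, h]
      exact one_mem _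
    · rw [show ((⟨t, ht⟩ * ⟨t, ht⟩ : T) : G) = t * t from rfl, h]
      exact I.a_fix

theorem a_not (I : Inp a L T) (R : GH.L2Aut.Rep F (↥L ⧸ oddCore ↥L)) : a ∉ T ⊓ L := fun h =>
  I.a1 ((I.frame R).eq_one h I.a_fix)

/-- the elements of `T` centralizing a four-group of `T ⊓ L` -/
theorem self_cent (I : Inp a L T) (R : GH.L2Aut.Rep F (↥L ⧸ oddCore ↥L))
    (h : ∀ t ∈ T, (t * t = 1 ∨ t * t = a) → p2 R t = 1) {u v : ↥(T ⊓ L)} (huv : Four u v)
    {s : G} (hs : s ∈ T) (hsu : s * u = u * s) (hsv : s * v = v * s) :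
    ∃ w ∈ huv.sub, s = w ∨ s = (w : G) * a := by
  have LF := I.frame R
  have huv' : Four (LF.dTop u) (LF.dTop v) :=
    ⟨by rw [← map_mul, huv.aa, map_one], by rw [← map_mul, huv.bb, map_one],
      fun h1 => huv.a1 (LF.dTop_injective (h1.trans (map_one _).symm)),
      fun h1 => huv.b1 (LF.dTop_injective (h1.trans (map_one _).symm)),
      fun h1 => huv.ne (LF.dTop_injective h1), by rw [← map_mul, huv.comm, map_mul]⟩
  obtain ⟨Φ, -, -, hΦf, -, -, -, -, -, -, -, -, -, -, -, -, hfr, -⟩ := R.top.exists_frame huv'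
  obtain ⟨w', hw', hα⟩ := hfr (LF.rho ⟨s, hs⟩) ((LF.comm_iff ⟨s, hs⟩ u).1 hsu)
    ((LF.comm_iff ⟨s, hs⟩ v).1 hsv)
  obtain ⟨w, hw, rfl⟩ : ∃ w ∈ huv.sub, LF.dTop w = w' := by
    rcases hw' with rfl | rfl | rfl | rfl
    · exact ⟨1, one_mem _, map_one _⟩
    · exact ⟨u, Or.inr (Or.inl rfl), rfl⟩
    · exact ⟨v, Or.inr (Or.inr (Or.inl rfl)), rfl⟩
    · exact ⟨u * v, Or.inr (Or.inr (Or.inr rfl)), map_mul _ _ _⟩
  have hwT : (w : G) ∈ T := w.2.1
  have hwi : (w : G)⁻¹ * s ∈ T := T.mul_mem (T.inv_mem hwT) hs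
  have hrho : LF.rho ⟨(w : G)⁻¹ * s, hwi⟩ = Φ (R.top.fld (LF.rho ⟨s, hs⟩)) := by
    have e1 : (⟨(w : G)⁻¹ * s, hwi⟩ : T) = (⟨w, hwT⟩ : T)⁻¹ * ⟨s, hs⟩ := rfl
    have e2 : LF.rho ⟨w, hwT⟩ = MulAut.conj (LF.dTop w) := LF.rho_of_mem w
    rw [e1, map_mul, map_inv, e2]
    nth_rewrite 1 [hα]
    rw [inv_mul_cancel_left]
  refine ⟨w, hw, ?_⟩
  have hσ : R.top.fld (LF.rho ⟨s, hs⟩) = 1 := by
    by_contra hσ
    obtain ⟨n, hn⟩ := LF.exists_pow hs
    have h3 : ∃ n, (R.top.fld (LF.rho ⟨s, hs⟩)) ^ 2 ^ n = 1 := by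
      refine ⟨n, ?_⟩
      rw [← map_pow, ← map_pow]
      have : (⟨s, hs⟩ : T) ^ 2 ^ n = 1 := Subtype.ext hn
      rw [this, map_one, map_one]
    obtain ⟨m, hm1, hm2⟩ := exists_pow_two h3 hσ
    have ht : ((w : G)⁻¹ * s) ^ 2 ^ m ∈ T := T.pow_mem hwi _
    have hr : LF.rho ⟨((w : G)⁻¹ * s) ^ 2 ^ m, ht⟩ =
        Φ (R.top.fld (LF.rho ⟨s, hs⟩) ^ 2 ^ m) := by
      have e1 : (⟨((w : G)⁻¹ * s) ^ 2 ^ m, ht⟩ : T) = ⟨(w : G)⁻¹ * s, hwi⟩ ^ 2 ^ m := rfl
      rw [e1, map_pow, hrho, map_pow]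
    have h4 := h _ ht ((I.rho_sq_iff R ht).1 (by
      rw [hr, ← map_mul, hm2, map_one]))
    rw [I.p2_rho R ht, hr, hΦf] at h4
    exact hm1 h4
  rw [hσ, map_one] at hrho
  rcases I.hQ _ ⟨hwi, (LF.rho_eq_one_iff _).1 hrho⟩ with h1 | h1
  · left
    calc s = (w : G) * ((w : G)⁻¹ * s) := by group
      _ = w := by rw [h1, mul_one]
  · right
    calc s = (w : G) * ((w : G)⁻¹ * s) := by group
      _ = w * a := by rw [h1]

/-- no element of field type: sectional rank at most 4 -/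
theorem harada (I : Inp a L T) (R : GH.L2Aut.Rep F (↥L ⧸ oddCore ↥L))
    (h : ∀ t ∈ T, (t * t = 1 ∨ t * t = a) → p2 R t = 1) : SectionalPRankLE 2 4 G := by
  have LF := I.frame R
  obtain ⟨P, hP⟩ := LF.exists_sylow
  obtain ⟨u', v', hu, hv, huv'⟩ := R.top.exists_four_mem P
  obtain ⟨u, rfl⟩ : u' ∈ LF.dTop.range := by rw [← hP]; exact hu
  obtain ⟨v, rfl⟩ : v' ∈ LF.dTop.range := by rw [← hP]; exact hv
  have huv : Four u v :=
    ⟨LF.dTop_injective (by rw [map_mul, huv'.aa, map_one]),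
      LF.dTop_injective (by rw [map_mul, huv'.bb, map_one]),
      fun h1 => huv'.a1 (by rw [h1, map_one]), fun h1 => huv'.b1 (by rw [h1, map_one]),
      fun h1 => huv'.ne (by rw [h1]),
      LF.dTop_injective (by rw [map_mul, huv'.comm, map_mul])⟩
  have hab' := four_coe huv
  obtain ⟨S2, hTS⟩ := I.syl.two.exists_le_sylow
  have hLa : ∀ k ∈ L, k * a = a * k := fun k hk => mem_centralizer_singleton_iff.1 (I.comp.le hk)
  have hTa : ∀ k ∈ T, k * a = a * k := fun k hk => mem_centralizer_singleton_iff.1 (I.syl.le hk)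
  have hau : a * (u : G) = u * a := (hTa u u.2.1).symm
  have hav : a * (v : G) = v * a := (hTa v v.2.1).symm
  have haT : a ∈ T := by
    obtain ⟨d, r, c, Fr⟩ := I.exists_fr R
    exact Fr.x_mem
  have hVD : ∀ w ∈ hab'.sub, w ∈ T ⊓ L := by
    rintro w (rfl | rfl | rfl | rfl)
    · exact one_mem _
    · exact u.2
    · exact v.2
    · exact mul_mem u.2 v.2
  have haV : a ∉ hab'.sub := fun hx => I.a_not R (hVD a hx)
  refine Harada.rank_of_self S2 (eight hab' I.aa hau hav) ?_ ?_ ?_ (eight_card haV) ?_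
  · intro g hg
    obtain ⟨w, hw, rfl | rfl⟩ := eight_cases hg
    · exact hTS (hVD _ hw).1
    · exact hTS (T.mul_mem (hVD _ hw).1 haT)
  · intro c hc d hd
    have hcs : ∀ y, y = (u : G) ∨ y = (v : G) ∨ y = a → c * y = y * c := by
      rintro y (rfl | rfl | rfl)
      · exact (eight_comm (d := (u : G)) rfl hab'.comm (hTa u u.2.1) hc).symm
      · exact (eight_comm (d := (v : G)) hab'.comm.symm rfl (hTa v v.2.1) hc).symm
      · exact (eight_comm hau hav rfl hc).symm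
    exact eight_comm (hcs _ (Or.inl rfl)) (hcs _ (Or.inr (Or.inl rfl)))
      (hcs _ (Or.inr (Or.inr rfl))) hd
  · intro g hg
    obtain ⟨w, hw, rfl | rfl⟩ := eight_cases hg
    · exact four_sq hab' hw
    · rw [mul_assoc, ← mul_assoc a, four_comm hab' hau hav hw, mul_assoc w, I.aa, mul_one]
      exact four_sq hab' hw
  · intro s hs hsE
    have hsx := hsE a eight_mem.2.2
    have hsT : s ∈ T := by
      have h1 : (S2 : Subgroup G) ⊓ centralizer ({a} : Set G) = T :=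
        I.syl.max _ (S2.isPGroup'.to_le inf_le_left) inf_le_right (le_inf hTS I.syl.le)
      rw [← h1]
      exact ⟨hs, mem_centralizer_singleton_iff.2 hsx⟩
    obtain ⟨w, hw, hw'⟩ := I.self_cent R h huv hsT (hsE _ eight_mem.1) (hsE _ eight_mem.2.1)
    have hwV : (w : G) ∈ hab'.sub := by
      rcases hw with rfl | rfl | rfl | rfl
      · exact one_mem _
      · exact Or.inr (Or.inl rfl)
      · exact Or.inr (Or.inr (Or.inl rfl))
      · exact Or.inr (Or.inr (Or.inr rfl))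
    rcases hw' with rfl | rfl
    · exact Or.inl hwV
    · right
      rw [mul_assoc, I.aa, mul_one]; exact hwV

end Inp

end Cfsg.Agent.UGT.Q2
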