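import Cfsg.Agent.UGT.Q2.BaseA

/-!
# N5, `|Q| = 2`: the base, the field involution (helper285)

* `Inp.exists_field`: a field element centralizing `T ⊓ L`;
* `Inp.rank_T`, `Inp.exists_grow`;
* `Inp.exists_z`: `d ≥ 3`, `z` central in `T`, `C_T(T ⊓ L) = ⟨a, z, f⟩`, the action of `N(T)`.
-/

set_option autoImplicit false
set_option linter.unusedSectionVars false

open Cfsg Subgroup
open Cfsg.Agent.SignalizersComponents
open Cfsg.Agent.Intrinsic.Basic Cfsg.Agent.GH.Defs Cfsg.Agent.GH.Comp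
open Cfsg.Agent.ThreePrime.AutQuot
open Cfsg.Agent.UGT.TriBase (IsSyl)
open Cfsg.Agent.GH.L2Aut (Four)
open Cfsg.Agent.OddHalf.D6

namespace Cfsg.Agent.UGT.Q2

variable {G : Type*} [Group G]

namespace Inp

variable {a : G} {L T : Subgroup G} {F : Type} [Field F] [Finite F] [Finite G]

/-- a field element of `T` centralizing `T ⊓ L` -/
theorem exists_field (I : Inp a L T) (R : GH.L2Aut.Rep F (↥L ⧸ oddCore ↥L))
    (h : ∃ t ∈ T, (t * t = 1 ∨ t * t = a) ∧ p2 R t ≠ 1) :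
    ∃ f ∈ T, (f * f = 1 ∨ f * f = a) ∧ p2 R f ≠ 1 ∧ ∀ e ∈ T ⊓ L, f * e = e * f := by
  obtain ⟨t, ht, htt, hft⟩ := h
  have : Fact (Nat.Prime 2) := ⟨Nat.prime_two⟩
  have LF := I.frame R
  obtain ⟨d, r, c, Fr⟩ := I.exists_fr R
  obtain ⟨S, hS⟩ := LF.exists_sylow
  have hfin : Finite (STop L) := Finite.of_surjective _ (topMap_surjective L)
  obtain ⟨Q, hQ⟩ := R.top.ftype_syl (α := LF.rho ⟨t, ht⟩) (fun h1 => hft (by
    rw [I.p2_rho R ht]; exact R.top.mem_PGL_iff_fld.1 h1)) ((I.rho_sq_iff R ht).2 htt)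
  have hcard : Nat.card (Q : Subgroup (STop L)) = Nat.card LF.dTop.range := by
    rw [← hS, Q.card_eq_multiplicity, S.card_eq_multiplicity]
  obtain ⟨g, hg, hgc⟩ := GH.L2One.exists_conj_comm LF ht (S' := (Q : Subgroup _)) hcard
    Q.isPGroup' hQ
  have hta : t * a = a * t := (Fr.T_comm t ht).symm
  have hga : g * a = a * g := (Fr.K_comm g hg).symm
  have htga : (g * t * g⁻¹) * a = a * (g * t * g⁻¹) := by
    have h1 : Commute a t := hta.symm
    have h2 : Commute a g := hga.symm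
    exact (((h2.mul_right h1).mul_right h2.inv_right).eq).symm
  have hU : IsPGroup 2 ((T ⊓ L) ⊔ zpowers (g * t * g⁻¹) : Subgroup G) := by
    refine isPGroup_sup (I.syl.two.to_le inf_le_left) (isPGroup_zp ?_) ?_
    · obtain ⟨n, hn⟩ := pow_of_mem I.syl.two ht
      exact ⟨n, by rw [conj_pow, hn]; group⟩
    · rw [zpowers_le]
      refine GH.L2QTwo.mem_norm_of fun e he => ?_
      rw [hgc e he]
      rwa [mul_inv_cancel_right]
  obtain ⟨k, hk, hkU⟩ := I.syl.conj hU (by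
    refine sup_le (inf_le_left.trans I.syl.le) ?_
    rw [zpowers_le]
    exact mem_centralizer_singleton_iff.2 htga)
  have hka : k * a = a * k := mem_centralizer_singleton_iff.1 hk
  have hkia : k⁻¹ * a = a * k⁻¹ := by
    have h1 : Commute a k := hka.symm
    exact h1.inv_right.eq.symm
  have hkT : ∀ u ∈ ((T ⊓ L) ⊔ zpowers (g * t * g⁻¹) : Subgroup G), k⁻¹ * u * k ∈ T := by
    intro u hu
    exact (IntrinsicBasic.mem_cj).1 (hkU hu)
  have hD : ∀ e ∈ T ⊓ L, k⁻¹ * e * k⁻¹⁻¹ ∈ T ⊓ L := by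
    intro e he
    rw [inv_inv]
    refine ⟨hkT e (mem_sup_left he), ?_⟩
    have h1 := Fr.K_norm k⁻¹ hkia.symm e he.2
    rwa [inv_inv] at h1
  refine ⟨k⁻¹ * (g * t * g⁻¹) * k, hkT _ (mem_sup_right (mem_zpowers _)), ?_, ?_, ?_⟩
  · have e1 : k⁻¹ * (g * t * g⁻¹) * k * (k⁻¹ * (g * t * g⁻¹) * k) =
        k⁻¹ * (g * (t * t) * g⁻¹) * k := by group
    rw [e1]
    rcases htt with h1 | h1
    · left
      rw [h1]; group
    · right
      rw [h1, hga, mul_inv_cancel_right, hkia, inv_mul_cancel_right]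
  · have e1 : k⁻¹ * (g * t * g⁻¹) * k = (k⁻¹ * g) * t * (k⁻¹ * g)⁻¹ := by group
    rw [e1]
    intro h1
    apply hft
    refine (Fr.o2_conj_ne ?_ (Fr.T_comm t ht)).1 h1
    exact Fr.comm_mul hkia.symm hga.symm
  · intro e he
    obtain ⟨e', he', rfl⟩ := GH.L2QTwo.conj_surj hD e he
    have h1 := hgc e' he'
    calc k⁻¹ * (g * t * g⁻¹) * k * (k⁻¹ * e' * k⁻¹⁻¹) = k⁻¹ * (g * t * g⁻¹ * e') * k := by group
      _ = k⁻¹ * (e' * (g * t * g⁻¹)) * k := by rw [h1]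
      _ = k⁻¹ * e' * k⁻¹⁻¹ * (k⁻¹ * (g * t * g⁻¹) * k) := by group

/-- `T` has sectional rank at most 4 -/
theorem rank_T (I : Inp a L T) (R : GH.L2Aut.Rep F (↥L ⧸ oddCore ↥L)) :
    SectionalPRankLE 2 4 T := by
  have LF := I.frame R
  have haT : a ∈ T := by
    obtain ⟨d, r, c, Fr⟩ := I.exists_fr R
    exact Fr.x_mem
  have h1 : SectionalPRankLE 2 1 LF.rho.ker := by
    refine rank_of_zpowers (c := (⟨a, haT⟩ : T)) ?_
    intro t ht
    rcases I.hQ t ⟨t.2, (LF.rho_eq_one_iff t).1 ht⟩ with h3 | h3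
    · have : t = 1 := Subtype.ext h3
      rw [this]; exact one_mem _
    · have : t = ⟨a, haT⟩ := Subtype.ext h3
      rw [this]; exact mem_zpowers _
  have h2 : SectionalPRankLE 2 3 LF.rho.range :=
    rank_aut R.top _ (IsPGroup.of_surjective I.syl.two LF.rho.rangeRestrict
      LF.rho.rangeRestrict_surjective)
  exact GH.Rank.of_extension LF.rho h1 h2

theorem exists_grow (I : Inp a L T) (R : GH.L2Aut.Rep F (↥L ⧸ oddCore ↥L))
    (h : ¬ SectionalPRankLE 2 4 G) :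
    ∃ s, s ∉ T ∧ s ∈ normalizer (T : Set G) ∧ s * s ∈ T := by
  obtain ⟨S2, hTS⟩ := I.syl.two.exists_le_sylow
  have hlt : T < (S2 : Subgroup G) := by
    refine lt_of_le_of_ne hTS ?_
    rintro rfl
    exact h ((GH.Rank.sylow_iff S2).1 (I.rank_T R))
  have : Group.IsNilpotent (S2 : Subgroup G) := S2.isPGroup'.isNilpotent
  obtain ⟨y, hyS, hyT, hyN⟩ :=
    Cfsg.Agent.Transfer.FrobeniusFusion.exists_mem_normalizer_notMem hlt
  obtain ⟨n, hn⟩ := pow_of_mem S2.isPGroup' hyS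
  obtain ⟨m, hm1, hm2⟩ : ∃ m, y ^ 2 ^ m ∉ T ∧ y ^ 2 ^ (m + 1) ∈ T := by
    have h1 : y ^ 2 ^ n ∈ T := by rw [hn]; exact one_mem T
    clear hn
    induction n with
    | zero => rw [pow_zero, pow_one] at h1; exact absurd h1 hyT
    | succ n ih =>
      by_cases h2 : y ^ 2 ^ n ∈ T
      · exact ih h2
      · exact ⟨n, h2, h1⟩
  refine ⟨y ^ 2 ^ m, hm1, (normalizer (T : Set G)).pow_mem hyN _, ?_⟩
  rw [← pow_add, ← two_mul, ← pow_succ']; exact hm2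

/-- **the central involution** -/
theorem exists_z (I : Inp a L T) (R : GH.L2Aut.Rep F (↥L ⧸ oddCore ↥L)) {f : G} (hf : f ∈ T)
    (hff : f * f = 1) (hne : p2 R f ≠ 1) (hfD : ∀ e ∈ T ⊓ L, f * e = e * f) :
    ∃ z, z ∈ T ⊓ L ∧ z * z = 1 ∧ z ≠ 1 ∧ (∀ t ∈ T, t * z = z * t) ∧
      (∀ g ∈ T, (∀ d ∈ T ⊓ L, g * d = d * g) → g ∈ closure ({a, z, f} : Set G)) ∧
      (∀ s ∈ normalizer (T : Set G), s * z * s⁻¹ = z ∧ s * f * s⁻¹ ∈ closure ({a, z, f} : Set G) ∧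
        s * a * s⁻¹ ∈ closure ({a, z, f} : Set G)) ∧
      (∀ e ∈ T ⊓ L, e * e = 1 → e ≠ 1 → ∃ k ∈ L, k * e * k⁻¹ = z) ∧
      (∀ t ∈ T, t * t = 1 → t * f = f * t →
        ∃ d ∈ T ⊓ L, ∃ w ∈ closure ({a, z, f} : Set G), t = d * w) ∧
      (∃ (r c : G) (N : ℕ), r ∈ T ⊓ L ∧ c ∈ T ⊓ L ∧ 2 ≤ N ∧ orderOf r = 2 ^ N ∧
        z = r ^ 2 ^ (N - 1) ∧ c * c = 1 ∧ c * r * c⁻¹ = r⁻¹ ∧
        ∀ d ∈ T ⊓ L, (∃ k : ℤ, d = r ^ k) ∨ ∃ k : ℤ, d = r ^ k * c) := by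
  obtain ⟨d, r, c, Fr⟩ := I.exists_fr R
  have hd : 3 ≤ d := by
    by_contra hd
    have h1 : d = 2 := le_antisymm (by omega) Fr.d_ge
    exact hne (Fr.small h1 f hf).1
  have hg := Fr.good_of_ge hd
  have hfld : Fr.Fld f := ⟨hf, hff, hne, hfD⟩
  have ha : a ∈ closure ({a, r ^ 2 ^ (d - 2), f} : Set G) := subset_closure (by simp)
  have hz : r ^ 2 ^ (d - 2) ∈ closure ({a, r ^ 2 ^ (d - 2), f} : Set G) := subset_closure (by simp)
  have hf' : f ∈ closure ({a, r ^ 2 ^ (d - 2), f} : Set G) := subset_closure (by simp)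
  have hZf : ∀ ζ ∈ GH.L2QTwo.Frame.Zf hfld, ζ ∈ closure ({a, r ^ 2 ^ (d - 2), f} : Set G) := by
    rintro ζ (rfl | rfl | rfl | rfl)
    · exact one_mem _
    · exact ha
    · exact hf'
    · exact mul_mem ha hf'
  refine ⟨r ^ 2 ^ (d - 2), Fr.z_mem, Fr.z_sq, Fr.z_ne, hg.zT, ?_, ?_, ?_, ?_, ?_⟩
  · intro g hgT hgD
    have h1 : p1 R g = 1 := Fr.o1_of_comm_refl hg hgT (j := 0) (hgD _ (Fr.refl_mem 0))
    have h2 : p2 R g * p2 R g = 1 := by
      rw [← Fr.o2_mul' hgT hgT]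
      rcases Fr.sq_mem g hgT hgD with h2 | h2
      · rw [h2, Fr.o2_one]
      · rw [h2, Fr.o2_x]
    obtain ⟨e, he, ζ, hζ, rfl⟩ := hfld.form (Fr.mem_M0.2 ⟨hgT, h1, h2⟩)
    obtain ⟨-, z1, -, -, -⟩ := hfld.zeta hζ
    have h3 : ∀ m ∈ T ⊓ L, e * m = m * e := by
      intro m hm
      have h4 := hgD m hm
      have : ζ * (e * m) = ζ * (m * e) := by
        calc ζ * (e * m) = ζ * e * m := by group
          _ = m * (ζ * e) := h4
          _ = (ζ * m) * e := by rw [z1 m hm]; group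
          _ = ζ * (m * e) := by group
      exact mul_left_cancel this
    refine mul_mem (hZf ζ hζ) ?_
    rcases Fr.cen_form hd he (h3 r Fr.r_mem) (h3 c Fr.c_mem) with h5 | h5
    · rw [h5]; exact one_mem _
    · rw [h5]; exact hz
  · intro s hs
    have hs0 : ∀ m ∈ T, s * m * s⁻¹ ∈ T := fun m hm => (mem_normalizer_iff.1 hs m).1 hm
    have hs1 : s ∈ normalizer (Fr.M0 : Set G) :=
      GH.L2QTwo.mem_norm_of (hfld.norm_of hg fun m hm => hs0 m hm.1)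
    have key : ∀ ζ ∈ GH.L2QTwo.Frame.Zf hfld, s * ζ * s⁻¹ ∈
        closure ({a, r ^ 2 ^ (d - 2), f} : Set G) := by
      intro ζ hζ
      obtain ⟨ζ', hζ', h1 | h1⟩ := hfld.norm_cen hd hs1 hζ
      · rw [h1]; exact hZf ζ' hζ'
      · rw [h1]; exact mul_mem (hZf ζ' hζ') hz
    exact ⟨hfld.norm_z hd hs1, key f (Or.inr (Or.inr (Or.inl rfl))), key a (Or.inr (Or.inl rfl))⟩
  · intro e he hee he1
    exact Fr.inv_conj e he _ Fr.z_mem hee he1 Fr.z_sq Fr.z_ne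
  · intro t ht htt htf
    have h1 : p1 R t = 1 := by
      by_contra h1
      have h2 : p2 R t = 1 := (Fr.no_mixed t ht htt).resolve_left h1
      have h3 : t * f * (t * f) = 1 := by
        calc t * f * (t * f) = t * (f * t) * f := by group
          _ = (t * t) * (f * f) := by rw [← htf]; group
          _ = 1 := by rw [htt, hff, one_mul]
      rcases Fr.no_mixed _ (T.mul_mem ht hf) h3 with h4 | h4
      · rw [Fr.o1_mul' ht hf, hfld.o1f, mul_one] at h4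
        exact h1 h4
      · rw [Fr.o2_mul' ht hf, h2, one_mul] at h4
        exact hne h4
    obtain ⟨e, he, ζ, hζ, rfl⟩ := hfld.form (Fr.mem_M0.2 ⟨ht, h1, Fr.o2_invol ht htt⟩)
    obtain ⟨-, z1, -, -, -⟩ := hfld.zeta hζ
    exact ⟨e, he, ζ, hZf ζ hζ, z1 e he⟩
  · refine ⟨r, c, d - 1, Fr.r_mem, Fr.c_mem, by omega, Fr.or_eq, ?_, Fr.cc, Fr.crc, ?_⟩
    · have : d - 1 - 1 = d - 2 := by omega
      rw [this]
    · intro g hg
      obtain ⟨k, hk | hk⟩ := Fr.D_form g hg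
      · exact Or.inl ⟨k, hk⟩
      · exact Or.inr ⟨k, hk⟩

end Inp

end Cfsg.Agent.UGT.Q2
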