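import Cfsg.Agent.UGT.Q2.End

/-!
# The bridge from the maximality of the weight to `HQ G q`

See `UGT/L2i/ToQ2.lean` and `UGT/L2i/Node.lean`.
-/
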