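import Cfsg.Agent.UGT.Q2.Eqv

/-!
# THEOREM Q2 (#13005), (DD), first part: the halves of `z`, `u`

`Cfg`: both pump-ups (of `C_L(f)^∞`, `C_L(f z)^∞`) are diagonal.
`Half`: `u = w w^a`, `z = z₁ z₁^a` in `J J^a`.
-/

set_option autoImplicit false

open Cfsg Subgroup
open Cfsg.Agent.SignalizersComponents Cfsg.Agent.Lib
open Cfsg.Agent.SignalizersComponents.IntrinsicBasic
open Cfsg.Agent.Intrinsic.Basic Cfsg.Agent.Intrinsic.Cen Cfsg.Agent.Intrinsic.Diag
open Cfsg.Agent.McLLyComp.Act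
open Cfsg.Agent.UGT.Triple Cfsg.Agent.UGT.TriBase Cfsg.Agent.UGT.Iface Cfsg.Agent.UGT.L2Inner
open Cfsg.Agent.GH.L2Aut (Four)
open scoped commutatorElement

namespace Cfsg.Agent.UGT.Q2

variable {G : Type*} [Group G]

/-- both pump-ups are diagonal -/
structure Cfg (a z f v u : G) (Mf Me I J : Subgroup G) : Prop where
  S1 : Side a z f I Mf
  S2 : Side a z (f * z) J Me
  vf : v ∈ Mf
  ue : u ∈ Me
  vv : v * v = 1
  uu : u * u = 1
  two : IsPGroup 2 ↥(closure {v, u})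
  vu : ∃ k : ℕ, (v * u) ^ (2 * k) = z

/-- an involution inverting `g` commutes with the involutions in `⟨g⟩` -/
theorem comm_of_inv_pow {g s z : G} (hs : s * g * s⁻¹ = g⁻¹) (hz : z * z = 1) {k : ℕ} (h : g ^ k = z) :
    s * z = z * s := by
  have h1 : s * z * s⁻¹ = z := by
    rw [← h, ← conj_pow, hs, inv_pow, h]
    exact inv_eq_of_mul_eq_one_left hz
  calc s * z = (s * z * s⁻¹) * s := by group
    _ = z * s := by rw [h1]

namespace Cfg

variable {a z f v u : G} {Mf Me I J : Subgroup G} (C : Cfg a z f v u Mf Me I J)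
include C

theorem vz : v * z = z * v := by
  obtain ⟨k, hk⟩ := C.vu
  refine comm_of_inv_pow (g := v * u) ?_ C.S1.zz hk
  have h1 : v⁻¹ = v := inv_eq_of_mul_eq_one_left C.vv
  have h2 : u⁻¹ = u := inv_eq_of_mul_eq_one_left C.uu
  rw [mul_inv_rev, h1, h2, ← mul_assoc, C.vv, one_mul]

theorem uz : u * z = z * u := by
  obtain ⟨k, hk⟩ := C.vu
  refine comm_of_inv_pow (g := v * u) ?_ C.S1.zz hk
  have h1 : v⁻¹ = v := inv_eq_of_mul_eq_one_left C.vv
  have h2 : u⁻¹ = u := inv_eq_of_mul_eq_one_left C.uu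
  rw [mul_inv_rev, h1, h2, ← mul_assoc, mul_assoc _ u u, C.uu, mul_one]

theorem va : v * a = a * v := (C.S1.mem_M_comm C.vf).1
theorem vff : v * f = f * v := (C.S1.mem_M_comm C.vf).2
theorem ua : u * a = a * u := (C.S2.mem_M_comm C.ue).1
theorem za : z * a = a * z := (C.S1.mem_M_comm C.S1.zM).1
theorem zf : z * f = f * z := (C.S1.mem_M_comm C.S1.zM).2
theorem uf : u * f = f * u := by
  have h1 := (C.S2.mem_M_comm C.ue).2
  have h2 : (u * f) * z = (f * u) * z := by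
    calc (u * f) * z = u * (f * z) := by group
      _ = f * (z * u) := by rw [h1]; group
      _ = f * u * z := by rw [← C.uz]; group
  exact mul_right_cancel h2
theorem ve : v * (f * z) = (f * z) * v := by
  rw [← mul_assoc, C.vff, mul_assoc, C.vz, mul_assoc]

omit C in
/-- an element commuting with `f z` and `z` commutes with `f` -/
theorem comm_f {g : G} (h1 : g * (f * z) = (f * z) * g) (h2 : g * z = z * g) : g * f = f * g := by
  have h3 : (g * f) * z = (f * g) * z := by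
    calc (g * f) * z = g * (f * z) := by group
      _ = f * (z * g) := by rw [h1]; group
      _ = f * g * z := by rw [← h2]; group
  exact mul_right_cancel h3

omit C in
theorem comm_e {g : G} (h1 : g * f = f * g) (h2 : g * z = z * g) : g * (f * z) = (f * z) * g := by
  rw [← mul_assoc, h1, mul_assoc, h2, mul_assoc]

theorem zD : z ∈ Subgroup.closure {v, u} := by
  obtain ⟨k, hk⟩ := C.vu
  have h1 : v ∈ Subgroup.closure {v, u} := Subgroup.subset_closure (Or.inl rfl)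
  have h2 : u ∈ Subgroup.closure {v, u} := Subgroup.subset_closure (Or.inr rfl)
  rw [← hk]
  exact pow_mem (mul_mem h1 h2) _

theorem Da : ∀ d ∈ closure {v, u}, d * a = a * d := by
  intro d hd
  have h1 : Subgroup.closure {v, u} ≤ centralizer ({a} : Set G) := by
    rw [Subgroup.closure_le]
    rintro x (rfl | rfl)
    · exact mem_c C.va
    · exact mem_c C.ua
  exact comm_c (h1 hd)

variable [Finite G]

omit C in
/-- the half of an element commuting with `z` commutes with `z` -/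
theorem _root_.Cfsg.Agent.UGT.Q2.Side.half (S : Side a z f I Mf) {D : Subgroup G} (hD : IsPGroup 2 ↥D)
    (hDa : ∀ d ∈ D, d * a = a * d) (hDI : D ≤ normalizer (I : Set G)) (hz : z ∈ D) {d : G} (hd : d ∈ D)
    (hdM : d ∈ Mf) (hdd : d * d = 1) (hdz : d * z = z * d) :
    ∃ r ∈ I, d = r * (a * r * a⁻¹) ∧ r * z = z * r := by
  obtain ⟨R, hR⟩ := S.split hD hDa hDI
  obtain ⟨r, hr, h1⟩ := hR.dec d hd (S.mem_sup hdM (n := 1) (by rw [pow_one, sq, hdd]))
  refine ⟨r, hR.le hr, h1, ?_⟩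
  have h2 := hR.conj (r := r) (hDa z hz)
  have h3 : z * d * z⁻¹ = d := by rw [← hdz, mul_inv_cancel_right]
  rw [← h1, h3, h1] at h2
  have h4 := hR.unique hr (hR.norm z hz r hr) h2
  calc r * z = (z * r * z⁻¹) * z := by rw [← h4]
    _ = z * r := by group

/-- `v` normalizes `J` -/
theorem vJ : v ∈ normalizer (J : Set G) := by
  obtain ⟨r, hr, h1, h2⟩ := C.S1.half (D := closure {v, u} ⊓ normalizer (I : Set G))
    (C.two.to_le inf_le_left) (fun d hd => C.Da d hd.1) inf_le_right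
    ⟨C.zD, C.S1.norm_M C.S1.zM⟩ (d := v) ⟨Subgroup.subset_closure (Or.inl rfl), C.S1.norm_M C.vf⟩ C.vf C.vv C.vz
  rw [h1]
  exact C.S2.norm_mul (comm_e (C.S1.mem_I_comm hr) h2) h2

/-- `v` is inner on `I` -/
theorem v_inner : IsInner v I := by
  obtain ⟨r, hr, h1, h2⟩ := C.S1.half (D := closure {v, u} ⊓ normalizer (I : Set G))
    (C.two.to_le inf_le_left) (fun d hd => C.Da d hd.1) inf_le_right
    ⟨C.zD, C.S1.norm_M C.S1.zM⟩ (d := v) ⟨Subgroup.subset_closure (Or.inl rfl), C.S1.norm_M C.vf⟩ C.vf C.vv C.vz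
  rw [h1]
  exact C.S1.isInner hr

/-- `z` is inner on `I` -/
theorem z_inner : IsInner z I := by
  obtain ⟨r, hr, h1, h2⟩ := C.S1.half (D := closure {v, u} ⊓ normalizer (I : Set G))
    (C.two.to_le inf_le_left) (fun d hd => C.Da d hd.1) inf_le_right
    ⟨C.zD, C.S1.norm_M C.S1.zM⟩ (d := z) ⟨C.zD, C.S1.norm_M C.S1.zM⟩ C.S1.zM C.S1.zz rfl
  rw [h1]
  exact C.S1.isInner hr

/-- `u` normalizes `I` -/
theorem uI : u ∈ normalizer (I : Set G) := by
  obtain ⟨r, hr, h1, h2⟩ := C.S2.half (D := closure {v, u} ⊓ normalizer (J : Set G))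
    (C.two.to_le inf_le_left) (fun d hd => C.Da d hd.1) inf_le_right
    ⟨C.zD, C.S2.norm_M C.S2.zM⟩ (d := u) ⟨Subgroup.subset_closure (Or.inr rfl), C.S2.norm_M C.ue⟩ C.ue C.uu C.uz
  rw [h1]
  exact C.S1.norm_mul (comm_f (C.S2.mem_I_comm hr) h2) h2

theorem DI : closure {v, u} ≤ normalizer (I : Set G) := by
  rw [closure_le]
  rintro x (rfl | rfl)
  · exact C.S1.norm_M C.vf
  · exact C.uI

theorem DJ : closure {v, u} ≤ normalizer (J : Set G) := by
  rw [closure_le]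
  rintro x (rfl | rfl)
  · exact C.vJ
  · exact C.S2.norm_M C.ue

end Cfg

/-- `u = w w^a`, `z = z₁ z₁^a` in `J J^a` -/
structure Half (a z v u : G) (J : Subgroup G) (w z1 : G) : Prop where
  wJ : w ∈ J
  zJ : z1 ∈ J
  hu : u = w * (a * w * a⁻¹)
  hz : z = z1 * (a * z1 * a⁻¹)
  ww : w * w = 1
  zz1 : z1 * z1 = 1
  wz : w * z1 = z1 * w
  cww : w * (a * w * a⁻¹) = (a * w * a⁻¹) * w
  cwz : w * (a * z1 * a⁻¹) = (a * z1 * a⁻¹) * w
  czw : z1 * (a * w * a⁻¹) = (a * w * a⁻¹) * z1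
  czz : z1 * (a * z1 * a⁻¹) = (a * z1 * a⁻¹) * z1
  vz1 : v * z1 = z1 * v
  ck : ∃ k : ℕ, (v * w * v⁻¹ * w) ^ k = z1

theorem Half.swap {a z v u : G} {J : Subgroup G} {w z1 : G} (H : Half a z v u J w z1) (haa : a * a = 1)
    (hva : v * a = a * v) : Half a z v u (cj a J) (a * w * a⁻¹) (a * z1 * a⁻¹) := by
  have hai : a⁻¹ = a := inv_eq_of_mul_eq_one_left haa
  have key : ∀ g : G, a * (a * g * a⁻¹) * a⁻¹ = g := by
    intro g
    have : a * (a * g * a⁻¹) * a⁻¹ = (a * a) * g * (a * a)⁻¹ := by group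
    rw [this, haa, one_mul, inv_one, mul_one]
  have hva' : a⁻¹ * v⁻¹ = v⁻¹ * a⁻¹ := by rw [← mul_inv_rev, ← mul_inv_rev, hva]
  have hva2 : a⁻¹ * v = v * a⁻¹ := by rw [hai, ← hva]
  refine ⟨conj_mem_cj H.wJ, conj_mem_cj H.zJ, ?_, ?_, ?_, ?_, ?_, ?_, ?_, ?_, ?_, ?_, ?_⟩
  · rw [key, ← H.cww]; exact H.hu
  · rw [key, ← H.czz]; exact H.hz
  · have : a * w * a⁻¹ * (a * w * a⁻¹) = a * (w * w) * a⁻¹ := by group
    rw [this, H.ww, mul_one, mul_inv_cancel]
  · have : a * z1 * a⁻¹ * (a * z1 * a⁻¹) = a * (z1 * z1) * a⁻¹ := by group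
    rw [this, H.zz1, mul_one, mul_inv_cancel]
  · have h1 : a * w * a⁻¹ * (a * z1 * a⁻¹) = a * (w * z1) * a⁻¹ := by group
    have h2 : a * z1 * a⁻¹ * (a * w * a⁻¹) = a * (z1 * w) * a⁻¹ := by group
    rw [h1, h2, H.wz]
  · rw [key]; exact H.cww.symm
  · rw [key]; exact H.czw.symm
  · rw [key]; exact H.cwz.symm
  · rw [key]; exact H.czz.symm
  · calc v * (a * z1 * a⁻¹) = (v * a) * z1 * a⁻¹ := by group
      _ = a * (v * z1) * a⁻¹ := by rw [hva]; group
      _ = a * z1 * (v * a⁻¹) := by rw [H.vz1]; group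
      _ = a * z1 * a⁻¹ * v := by rw [← hva2]; group
  · obtain ⟨k, hk⟩ := H.ck
    refine ⟨k, ?_⟩
    have h1 : v * (a * w * a⁻¹) * v⁻¹ * (a * w * a⁻¹) = a * (v * w * v⁻¹ * w) * a⁻¹ := by
      calc v * (a * w * a⁻¹) * v⁻¹ * (a * w * a⁻¹) = (v * a) * w * (a⁻¹ * v⁻¹) * (a * w * a⁻¹) := by group
        _ = (a * v) * w * (v⁻¹ * a⁻¹) * (a * w * a⁻¹) := by rw [hva', hva]
        _ = _ := by group
    rw [h1, conj_pow, hk]

namespace Cfg

variable {a z f v u : G} {Mf Me I J : Subgroup G} (C : Cfg a z f v u Mf Me I J)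
include C

theorem exists_half [Finite G] : ∃ w z1, Half a z v u J w z1 := by
  obtain ⟨R, hR⟩ := C.S2.split C.two C.Da C.DJ
  have hvD : v ∈ closure {v, u} := Subgroup.subset_closure (Or.inl rfl)
  have huD : u ∈ closure {v, u} := Subgroup.subset_closure (Or.inr rfl)
  obtain ⟨w, hw, hwu⟩ := hR.dec u huD (C.S2.mem_sup C.ue (n := 1) (by rw [pow_one, sq, C.uu]))
  obtain ⟨z1, hz1, hz⟩ := hR.dec z C.zD (C.S2.mem_sup C.S2.zM (n := 1) (by rw [pow_one, sq, C.S2.zz]))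
  have hone : (1 : G) * (a * 1 * a⁻¹) = 1 := by group
  have hww : w * w = 1 := by
    refine hR.unique (R.mul_mem hw hw) R.one_mem ?_
    rw [← hR.mul hw hw, ← hwu, C.uu, hone]
  have hzz : z1 * z1 = 1 := by
    refine hR.unique (R.mul_mem hz1 hz1) R.one_mem ?_
    rw [← hR.mul hz1 hz1, ← hz, C.S1.zz, hone]
  -- conjugation by `u`, `v` fixes `z1`
  have hfix : ∀ d ∈ closure {v, u}, d * z = z * d → d * z1 = z1 * d := by
    intro d hd hdz
    have h1 := hR.conj (r := z1) (C.Da d hd)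
    have h2 : d * z * d⁻¹ = z := by rw [hdz, mul_inv_cancel_right]
    rw [← hz, h2, hz] at h1
    have h3 := hR.unique hz1 (hR.norm d hd z1 hz1) h1
    calc d * z1 = (d * z1 * d⁻¹) * d := by group
      _ = z1 * d := by rw [← h3]
  have hvz1 := hfix v hvD C.vz
  have huz1 := hfix u huD C.uz
  have cww := hR.comm w hw w hw
  have cwz := hR.comm w hw z1 hz1
  have czw := hR.comm z1 hz1 w hw
  have czz := hR.comm z1 hz1 z1 hz1
  have hwz : w * z1 = z1 * w := by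
    rw [hwu] at huz1
    have h1 : (w * z1) * (a * w * a⁻¹) = (z1 * w) * (a * w * a⁻¹) := by
      calc (w * z1) * (a * w * a⁻¹) = w * (z1 * (a * w * a⁻¹)) := by group
        _ = w * (a * w * a⁻¹) * z1 := by rw [czw]; group
        _ = _ := by rw [huz1]; group
    exact mul_right_cancel h1
  refine ⟨w, z1, hR.le hw, hR.le hz1, hwu, hz, hww, hzz, hwz, cww, cwz, czw, czz, hvz1, ?_⟩
  obtain ⟨k, hk⟩ := C.vu
  refine ⟨k, ?_⟩
  have hvi : v⁻¹ = v := inv_eq_of_mul_eq_one_left C.vv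
  have hvw : v * w * v⁻¹ ∈ R := hR.norm v hvD w hw
  have h1 : (v * u) ^ 2 = (v * w * v⁻¹ * w) * (a * (v * w * v⁻¹ * w) * a⁻¹) := by
    rw [← hR.mul hvw hw, ← hR.conj (r := w) C.va, ← hwu, sq, hvi]
    group
  refine hR.unique (R.pow_mem (R.mul_mem hvw hw) k) hz1 ?_
  rw [← hR.pow (R.mul_mem hvw hw), ← h1, ← pow_mul, hk, hz]

end Cfg

/-- **(II), (III)**: one of the halves of `z` fixes `I` -/
theorem Cfg.fixes_half [Finite G] {a z f v u : G} {Mf Me I J : Subgroup G} (C : Cfg a z f v u Mf Me I J)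
    {w z1 : G} (H : Half a z v u J w z1) {E : Type*} [Field E] [Finite E]
    (R : GH.L2Aut.Rep E (↥I ⧸ oddCore ↥I))
    (ho : ∀ h : u ∈ normalizer (I : Set G), R.o1 (act I ⟨u, h⟩) = -1)
    (h5 : ∀ {x y : ↥I ⧸ oddCore ↥I}, Four x y → ∀ {α β : MulAut (↥I ⧸ oddCore ↥I)}, α x = x → α y = y →
      β x = x → β y = y → α * β = β * α) :
    Fixes z1 I ∨ Fixes (a * z1 * a⁻¹) I := by
  have hai : a⁻¹ = a := inv_eq_of_mul_eq_one_left C.S1.aa
  have hwz : w * z = z * w := by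
    rw [H.hz]
    calc w * (z1 * (a * z1 * a⁻¹)) = (w * z1) * (a * z1 * a⁻¹) := by group
      _ = z1 * (w * (a * z1 * a⁻¹)) := by rw [H.wz]; group
      _ = _ := by rw [H.cwz]; group
  have hwf : w * f = f * w := Cfg.comm_f (C.S2.mem_I_comm H.wJ) hwz
  have hwI : w ∈ normalizer (I : Set G) := by
    rw [mem_normalizer_iff_cj]
    rcases C.S1.perm hwf hwz with h | h
    · exact h
    · exfalso
      have h' : cj w (cj a I) = I := by
        rcases C.S1.swap.perm hwf hwz with h' | h'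
        · exact absurd (cj_injective w (h'.trans h.symm)) C.S1.ne
        · rwa [C.S1.cji] at h'
      have hwa : w * a ∈ normalizer (I : Set G) := by
        rw [mem_normalizer_iff_cj, cj_mul, h']
      have h1 : u = (w * a) * (w * a) := by
        rw [H.hu, hai]; group
      have h2 := ho C.uI
      have h3 : act I ⟨u, C.uI⟩ = act I ⟨w * a, hwa⟩ * act I ⟨w * a, hwa⟩ := by
        rw [← map_mul]
        congr 1
        exact Subtype.ext h1
      rw [h3, map_mul, Int.units_mul_self] at h2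
      exact absurd h2 (by decide)
  have hvI := C.S1.norm_M C.vf
  have hwi : w⁻¹ = w := inv_eq_of_mul_eq_one_left H.ww
  -- for `w' ∈ {w, w^a}`
  have key : ∀ w' z' : G, w' ∈ normalizer (I : Set G) → w' * w' = 1 → (∃ k : ℕ, (v * w' * v⁻¹ * w') ^ k = z') →
      ∃ hz' : z' ∈ normalizer (I : Set G), IsInner z' I := by
    rintro w' z' hw' hww' ⟨k, hk⟩
    have hwi' : w'⁻¹ = w' := inv_eq_of_mul_eq_one_left hww'
    have h1 : IsInner (v * w' * v⁻¹ * w') I := by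
      have h2 : v * w' * v⁻¹ * w' = v * (w' * v⁻¹ * w'⁻¹) := by rw [hwi']; group
      rw [h2]
      refine isInner_mul C.v_inner ?_
      have h3 := isInner_cj (isInner_inv C.v_inner) w'
      rwa [mem_normalizer_iff_cj.mp hw'] at h3
    have h4 : v * w' * v⁻¹ * w' ∈ normalizer (I : Set G) :=
      mul_mem (mul_mem (mul_mem hvI hw') (inv_mem hvI)) hw'
    refine ⟨hk ▸ pow_mem h4 k, ?_⟩
    rw [← hk]
    clear hk
    induction k with
    | zero => rw [pow_zero]; exact isInner_of_fixes (fixes_one I)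
    | succ k ih => rw [pow_succ]; exact isInner_mul ih h1
  obtain ⟨hz1I, hz1i⟩ := key w z1 hwI H.ww H.ck
  have H' := H.swap C.S1.aa C.va
  obtain ⟨hz2I, hz2i⟩ := key (a * w * a⁻¹) (a * z1 * a⁻¹) (C.S1.norm_conj hwf hwz hwI) H'.ww H'.ck
  by_contra hcon
  push Not at hcon
  obtain ⟨hn1, hn2⟩ := hcon
  rw [isInner_iff hz1I] at hz1i
  rw [isInner_iff hz2I] at hz2i
  obtain ⟨x1, hx1⟩ := hz1i
  obtain ⟨x2, hx2⟩ := hz2i
  have hinj := R.conj_injective
  rw [← act_eq_one_iff hz1I, ← hx1] at hn1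
  rw [← act_eq_one_iff hz2I, ← hx2] at hn2
  have hF : Four x1 x2 := by
    refine ⟨?_, ?_, fun h => hn1 (by rw [h, map_one]), fun h => hn2 (by rw [h, map_one]), ?_, ?_⟩
    · apply hinj
      rw [map_mul, map_one, hx1, ← map_mul]
      have : (⟨z1, hz1I⟩ : ↥(normalizer (I : Set G))) * ⟨z1, hz1I⟩ = 1 := Subtype.ext H.zz1
      rw [this, map_one]
    · apply hinj
      rw [map_mul, map_one, hx2, ← map_mul]
      have : (⟨a * z1 * a⁻¹, hz2I⟩ : ↥(normalizer (I : Set G))) * ⟨a * z1 * a⁻¹, hz2I⟩ = 1 :=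
        Subtype.ext H'.zz1
      rw [this, map_one]
    · intro h
      refine C.S1.not_fixes ?_
      have h1 : act I ⟨z1, hz1I⟩ = act I ⟨a * z1 * a⁻¹, hz2I⟩ := by rw [← hx1, ← hx2, h]
      rw [act_eq_iff] at h1
      have h2 : z = z1 * (a * z1 * a⁻¹)⁻¹ := by
        rw [inv_eq_of_mul_eq_one_left H'.zz1]; exact H.hz
      rwa [h2]
    · apply hinj
      rw [map_mul, map_mul, hx1, hx2, ← map_mul, ← map_mul]
      congr 1
      exact Subtype.ext H.czz
  -- elements commuting with `z'` fix its image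
  have hfix : ∀ (g z' : G) (hg : g ∈ normalizer (I : Set G)) (hz' : z' ∈ normalizer (I : Set G))
      (x : ↥I ⧸ oddCore ↥I), MulAut.conj x = act I ⟨z', hz'⟩ → g * z' = z' * g → act I ⟨g, hg⟩ x = x := by
    intro g z' hg hz' x hx hc
    apply hinj
    have h1 : MulAut.conj (act I ⟨g, hg⟩ x) = act I ⟨g, hg⟩ * MulAut.conj x * (act I ⟨g, hg⟩)⁻¹ := by
      apply MulEquiv.ext
      intro y
      change act I ⟨g, hg⟩ x * y * (act I ⟨g, hg⟩ x)⁻¹ = act I ⟨g, hg⟩ (x * ((act I ⟨g, hg⟩)⁻¹ y) * x⁻¹)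
      rw [map_mul, map_mul, map_inv, MulAut.apply_inv_self]
    rw [h1, hx, ← map_mul, ← map_inv, ← map_mul]
    congr 1
    exact Subtype.ext (by change g * z' * g⁻¹ = z'; rw [hc, mul_inv_cancel_right])
  have h6 := h5 hF (α := act I ⟨v, hvI⟩) (β := act I ⟨w, hwI⟩)
    (hfix _ _ hvI hz1I _ hx1 H.vz1) (hfix _ _ hvI hz2I _ hx2 H'.vz1)
    (hfix _ _ hwI hz1I _ hx1 H.wz) (hfix _ _ hwI hz2I _ hx2 H.cwz)
  obtain ⟨k, hk⟩ := H.ck
  have hcN : v * w * v⁻¹ * w ∈ normalizer (I : Set G) :=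
    mul_mem (mul_mem (mul_mem hvI hwI) (inv_mem hvI)) hwI
  have h7 : act I ⟨v * w * v⁻¹ * w, hcN⟩ = 1 := by
    have e1 : (⟨v * w * v⁻¹ * w, hcN⟩ : ↥(normalizer (I : Set G))) =
        ⟨v, hvI⟩ * ⟨w, hwI⟩ * (⟨v, hvI⟩)⁻¹ * ⟨w, hwI⟩ := rfl
    rw [e1, map_mul, map_mul, map_mul, map_inv, h6, mul_inv_cancel_right, ← map_mul]
    have : (⟨w, hwI⟩ : ↥(normalizer (I : Set G))) * ⟨w, hwI⟩ = 1 := Subtype.ext H.ww
    rw [this, map_one]
  apply hn1
  have h8 : (⟨z1, hz1I⟩ : ↥(normalizer (I : Set G))) = ⟨v * w * v⁻¹ * w, hcN⟩ ^ k := Subtype.ext hk.symm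
  rw [hx1, h8, map_pow, h7, one_pow]

end Cfsg.Agent.UGT.Q2
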