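import Cfsg.Agent.UGT.Q2.McBase
import Cfsg.Agent.UGT.Q2.RepTr
import Cfsg.Agent.UGT.Q2.Facts
import Cfsg.Agent.LieClassical.Order72

/-!
# THEOREM Q2: the 2-components of `C_L(c)`, `c` an involution of field type on `L / O(L) ≅ PSL(2,F)`

* `mc_nine_lt`: `|F| > 9` if `C(c)` contains a perfect subgroup `≠ 1`.
* `exists_mc`: existence for `|F| > 9`; `IsMc.mcD`: every 2-component of `L ∩ C(c)` satisfies `McD`.
* `IsMc.l2q`: `M / O(M) ≅ PSL(2,E)`, `|E|² = |F|`; `IsMc.outer`: 2-elements of `C_L(c)` outside `M` act by `PGL`-type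
  automorphisms with `o₁ = -1`.
-/

set_option autoImplicit false

open Cfsg Subgroup
open Cfsg.Agent.SignalizersComponents Cfsg.Agent.Lib
open Cfsg.Agent.SignalizersComponents.IntrinsicBasic
open Cfsg.Agent.Intrinsic.Basic Cfsg.Agent.Intrinsic.Cen Cfsg.Agent.Intrinsic.Diag
open Cfsg.Agent.McLLyComp.Act
open Cfsg.Agent.UGT.Triple Cfsg.Agent.UGT.TriBase Cfsg.Agent.UGT.Iface Cfsg.Agent.UGT.L2Inner
open scoped commutatorElement

namespace Cfsg.Agent.UGT.Q2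

section aut

open Cfsg.Agent.GH.L2Aut (exists_fixed_field fixSub mem_fixSub)

variable {F : Type*} [Field F] [Finite F] {L : Type*} [Group L] (R : GH.L2Aut.Rep F L)

theorem mc_eq_bot_of_card_dvd {P : Subgroup L} [Finite L] (hp : ⁅P, P⁆ = P) (h : Nat.card P ∣ 72) : P = ⊥ := by
  have h1 : Group.IsSolvable P := Cfsg.Agent.LieClassical.Order72.isSolvable_of_card_dvd h
  by_contra hne
  have h2 := (Group.isSolvable_def P).1 h1
  obtain ⟨n, hn⟩ := h2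
  have h3 : ∀ k, derivedSeries P k = ⊤ := by
    intro k
    induction k with
    | zero => rfl
    | succ k ih =>
      rw [derivedSeries_succ, ih]
      apply Subgroup.map_injective P.subtype_injective
      rw [Subgroup.map_commutator]
      have e1 : (⊤ : Subgroup P).map P.subtype = P := by
        rw [← MonoidHom.range_eq_map, P.range_subtype]
      rw [e1, hp]
  rw [h3] at hn
  apply hne
  have h4 : Nat.card P = 1 := by
    have := congrArg (fun H : Subgroup P => Nat.card H) hn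
    simpa using this
  exact Subgroup.card_eq_one.mp h4

theorem mc_nine_lt {φ : MulAut L} (hφ : φ * φ = 1) (hf : R.fld φ ≠ 1) {P : Subgroup L} (hp : ⁅P, P⁆ = P)
    (hne : P ≠ ⊥) (hP : ∀ x ∈ P, φ x = x) : 9 < Nat.card F := by
  have := R.finite
  obtain ⟨σ, hσ⟩ : ∃ σ, σ = R.fld φ := ⟨_, rfl⟩
  rw [← hσ] at hf
  have hσ2 : σ * σ = 1 := by rw [hσ, ← map_mul, hφ, map_one]
  have hord : orderOf σ = 2 := by
    rw [orderOf_eq_prime_iff]
    exact ⟨by rw [sq]; exact hσ2, hf⟩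
  obtain ⟨R', -, -, hR'⟩ := R.exists_rep φ (by rw [← hσ, hord, sq, hφ])
  rw [← hσ] at hR'
  obtain ⟨K₀, hK₀, hcard⟩ := exists_fixed_field σ
  have hc := R'.card_fix (by rw [hord]; decide) hK₀ hcard
  rw [← hR'] at hc
  rw [hord] at hcard
  have hodd : Odd (Nat.card F) := GH.L2Aut.odd_card R.two
  have hodd' : Odd (Nat.card K₀) := by
    rw [hcard, Nat.odd_pow_iff (by norm_num)] at hodd
    exact hodd
  have h1 : 1 < Nat.card K₀ := Finite.one_lt_card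
  by_contra hcon
  push Not at hcon
  have h3 : Nat.card K₀ = 3 := by
    rw [hcard] at hcon
    have h4 : Nat.card K₀ ≤ 3 := by
      by_contra h
      push Not at h
      have := Nat.pow_le_pow_left (show 4 ≤ Nat.card K₀ from h) 2
      omega
    obtain ⟨k, hk⟩ := hodd'
    omega
  rw [h3] at hc
  apply hne
  refine mc_eq_bot_of_card_dvd hp ?_
  have h5 : P ≤ fixSub φ := fun x hx => mem_fixSub.mpr (hP x hx)
  have h6 := Subgroup.card_dvd_of_le h5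
  rw [hc] at h6
  exact h6.trans (by norm_num)

end aut

variable {G : Type*} [Group G] [Finite G] {L : Subgroup G} {F : Type} [Field F] [Finite F]
  {R : GH.L2Aut.Rep F (↥L ⧸ oddCore ↥L)} {c : G}

omit [Finite G] in
theorem mc_act_sq {K : Subgroup G} {g : G} (hg : g ∈ normalizer (K : Set G)) (hgg : g * g = 1) :
    act K ⟨g, hg⟩ * act K ⟨g, hg⟩ = 1 := by
  rw [← map_mul]
  have h1 : (⟨g, hg⟩ : ↥(normalizer (K : Set G))) * ⟨g, hg⟩ = 1 := Subtype.ext hgg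
  rw [h1, map_one]

/-- existence of the 2-component -/
theorem mcD_exists (hcc : c * c = 1) (hcL : c ∈ normalizer (L : Set G))
    {M₀ : Subgroup (↥L ⧸ oddCore ↥L)} (hd : Facts.Fd R (act L ⟨c, hcL⟩) M₀) (h9 : 9 < Nat.card F) :
    ∃ M, McD L c M M₀ := by
  obtain ⟨E, R₀, hE, -⟩ := hd.rep
  have h3 : 3 < Nat.card E := by
    rw [hE] at h9
    by_contra hcon
    push Not at hcon
    have := Nat.pow_le_pow_left hcon 2
    omega
  exact McD.exists_of hcc hcL R₀ h3 hd.le fun y hy m hm => hd.normal hy hm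

omit [Finite G] in
theorem mc_img_ne_bot {M : Subgroup G} (hML : M ≤ L) {X : Subgroup G} (hM : IsComp X M) [Finite G] :
    (M.subgroupOf L).map (QuotientGroup.mk' (oddCore ↥L)) ≠ ⊥ := by
  intro h
  refine hM.not_odd (odd_card_core L) fun m hm => ?_
  rw [← mk_eq_one_iff (hML hm), ← mem_bot, ← h]
  exact ⟨⟨m, hML hm⟩, hm, rfl⟩

theorem FieldType.nine {M : Subgroup G} (hcc : c * c = 1) (hft : FieldType L R c) (hM : IsMc L c M) :
    9 < Nat.card F := by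
  obtain ⟨hcL, hf⟩ := hft
  have hML : M ≤ L := hM.le.trans inf_le_left
  refine mc_nine_lt R (mc_act_sq hcL hcc) hf (map_perfect hML hM.perfect) (mc_img_ne_bot hML hM) ?_
  rintro _ ⟨x, hx, rfl⟩
  exact fix_of_comm hcL x.2 (comm_c (hM.le hx).2)

/-- **every 2-component of `L ∩ C(c)` has image `C(c)^∞`** -/
theorem IsMc.mcD {M : Subgroup G} (hM : IsMc L c M) (hcc : c * c = 1) {hcL : c ∈ normalizer (L : Set G)}
    {M₀ : Subgroup (↥L ⧸ oddCore ↥L)} (hd : Facts.Fd R (act L ⟨c, hcL⟩) M₀) : McD L c M M₀ := by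
  obtain ⟨I, hI⟩ := mcD_exists hcc hcL hd (FieldType.nine hcc ⟨hcL, hd.fld⟩ hM)
  obtain ⟨E, R₀, -, -⟩ := hd.rep
  rw [McD.of_isMc hcL R₀ (fun P h1 h2 => hd.max P h2 h1) hI hM]
  exact hI

/-- **existence** -/
theorem exists_mc (hcc : c * c = 1) (hft : FieldType L R c) (h9 : 9 < Nat.card F) :
    ∃ M, IsMc L c M := by
  obtain ⟨hcL, hf⟩ := hft
  obtain ⟨M₀, hd⟩ := Facts.exists_fd R h9 (mc_act_sq hcL hcc) hf
  obtain ⟨M, hM⟩ := mcD_exists hcc hcL hd h9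
  exact ⟨M, hM.mc⟩

/-- the group `M₀` -/
theorem IsMc.exists_fd {M : Subgroup G} (hM : IsMc L c M) (hcc : c * c = 1) (hft : FieldType L R c) :
    ∃ (hcL : c ∈ normalizer (L : Set G)) (M₀ : Subgroup (↥L ⧸ oddCore ↥L)),
      Facts.Fd R (act L ⟨c, hcL⟩) M₀ ∧ McD L c M M₀ := by
  have h9 := FieldType.nine hcc hft hM
  obtain ⟨hcL, hf⟩ := hft
  obtain ⟨M₀, hd⟩ := Facts.exists_fd R h9 (mc_act_sq hcL hcc) hf
  exact ⟨hcL, M₀, hd, IsMc.mcD hM hcc hd⟩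

/-- uniqueness -/
theorem IsMc.unique {M M' : Subgroup G} (hM : IsMc L c M) (hM' : IsMc L c M') (hcc : c * c = 1)
    (hft : FieldType L R c) : M = M' := by
  obtain ⟨hcL, M₀, hd, hI⟩ := IsMc.exists_fd hM hcc hft
  obtain ⟨E, R₀, -, -⟩ := hd.rep
  exact (McD.of_isMc hcL R₀ (fun P h1 h2 => hd.max P h2 h1) hI hM').symm

/-- **the type of `M`**, and the action of the 2-elements of `C_L(c)` outside `M` -/
theorem IsMc.outer {M : Subgroup G} (hM : IsMc L c M) (hcc : c * c = 1) (hft : FieldType L R c) :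
    ∃ (E : Type) (_ : Field E) (_ : Finite E) (R₁ : GH.L2Aut.Rep E (↥M ⧸ oddCore ↥M)),
      Nat.card E ^ 2 = Nat.card F ∧ ∀ x ∈ L, x * c = c * x → x ∉ M → (∃ n : ℕ, x ^ 2 ^ n = 1) →
        ∀ h : x ∈ normalizer (M : Set G), act M ⟨x, h⟩ ∈ R₁.PGL ∧ R₁.o1 (act M ⟨x, h⟩) = -1 := by
  obtain ⟨hcL, M₀, hd, hI⟩ := IsMc.exists_fd hM hcc hft
  obtain ⟨E, R₀, hE, hout⟩ := hd.rep
  obtain ⟨e, he⟩ := hI.exists_equiv
  refine ⟨E, inferInstance, inferInstance, repTr R₀ e.symm, hE.symm, fun x hx hxc hxM hn h => ?_⟩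
  obtain ⟨n, hn⟩ := hn
  have hfx : act L ⟨c, hcL⟩ (QuotientGroup.mk ⟨x, hx⟩) = QuotientGroup.mk ⟨x, hx⟩ := fix_of_comm hcL hx hxc
  have hx0 : (QuotientGroup.mk ⟨x, hx⟩ : ↥L ⧸ oddCore ↥L) ∉ M₀ := fun h0 =>
    hxM (hI.mem_of_two hx hxc hn h0)
  -- the automorphism of `M₀`
  obtain ⟨β, hβ⟩ : ∃ β, β = MulAut.congr e (act M ⟨x, h⟩) := ⟨_, rfl⟩
  have hβe : ∀ y, e (act M ⟨x, h⟩ y) = β (e y) := by
    intro y
    rw [hβ]
    change e _ = e (act M ⟨x, h⟩ (e.symm (e y)))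
    rw [e.symm_apply_apply]
  have hβ' : ∀ m : M₀, (β m : ↥L ⧸ oddCore ↥L) =
      (QuotientGroup.mk (⟨x, hx⟩ : ↥L) : ↥L ⧸ oddCore ↥L) * m *
        (QuotientGroup.mk (⟨x, hx⟩ : ↥L) : ↥L ⧸ oddCore ↥L)⁻¹ := by
    intro m
    obtain ⟨y, rfl⟩ := e.surjective m
    obtain ⟨⟨k, hk⟩, rfl⟩ := QuotientGroup.mk_surjective y
    rw [← hβe, act_mk h hk, he _ _ (hI.le (conj_mem h hk)), he _ hk (hI.le hk)]
    rfl
  obtain ⟨h1, h2⟩ := hout _ hfx hx0 β hβ'
  have hsym : ∀ y, e.symm (β y) = act M ⟨x, h⟩ (e.symm y) := by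
    intro y
    apply e.injective
    rw [e.apply_symm_apply, hβe, e.apply_symm_apply]
  exact ⟨(repTr_PGL R₀ e.symm hsym).mpr h1, by rw [repTr_o1 R₀ e.symm hsym, h2]⟩

theorem IsMc.l2q {M : Subgroup G} (hM : IsMc L c M) (hcc : c * c = 1) (hft : FieldType L R c) :
    ∃ q0, L2q q0 M ∧ q0 ^ 2 = Nat.card F := by
  obtain ⟨E, i1, i2, R₁, hE, -⟩ := IsMc.outer hM hcc hft
  exact ⟨_, ⟨E, i1, i2, rfl, ⟨R₁⟩⟩, hE⟩

theorem IsMc.l2T {M : Subgroup G} (hM : IsMc L c M) (hcc : c * c = 1) (hft : FieldType L R c) :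
    L2T M := by
  obtain ⟨q0, h, -⟩ := IsMc.l2q hM hcc hft
  exact h.l2T

/-- 2-elements of `C_L(c)` outside `M` are not inner on `M` -/
theorem IsMc.not_inner {M : Subgroup G} (hM : IsMc L c M) (hcc : c * c = 1) (hft : FieldType L R c)
    {x : G} (hx : x ∈ L) (hxc : x * c = c * x) (hxM : x ∉ M) {n : ℕ} (hn : x ^ 2 ^ n = 1) :
    ¬ IsInner x M := by
  rintro ⟨r, hr, hf⟩
  obtain ⟨E, i1, i2, R₁, hE, h1⟩ := IsMc.outer hM hcc hft
  have h : x ∈ normalizer (M : Set G) := by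
    have := mul_mem hf.1 (le_normalizer hr)
    rwa [inv_mul_cancel_right] at this
  have h2 := (h1 x hx hxc hxM ⟨n, hn⟩ h).2
  have h3 : act M ⟨x, h⟩ = act M ⟨r, le_normalizer hr⟩ := (act_eq_iff h (le_normalizer hr)).mpr hf
  rw [h3, act_of_mem hr, GH.L2Aut.Rep.o1_conj] at h2
  exact absurd h2 (by decide)

/-- **no common involution** of `M_c` and `M_{cz}` except `z` -/
theorem IsMc.eq_z {M M' : Subgroup G} {z v : G} (hM : IsMc L c M) (hM' : IsMc L (c * z) M') (hcc : c * c = 1)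
    (hft : FieldType L R c) (hzc : z * c = c * z) (hzz : z * z = 1) (hz1 : z ≠ 1) (hzM : z ∈ M) (hzM' : z ∈ M')
    (hvv : v * v = 1) (hv1 : v ≠ 1) (hvz : v * z = z * v) (hvM : v ∈ M) (hvM' : v ∈ M') : v = z := by
  have hzL : z ∈ L := (hM.le hzM).1
  have hvL : v ∈ L := (hM.le hvM).1
  have hzN : z ∈ normalizer (L : Set G) := le_normalizer hzL
  have hcc' : (c * z) * (c * z) = 1 := by
    calc (c * z) * (c * z) = c * (z * c) * z := by group
      _ = (c * c) * (z * z) := by rw [hzc]; group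
      _ = 1 := by rw [hcc, hzz, one_mul]
  have hft' : FieldType L R (c * z) := by
    obtain ⟨hcL, hf⟩ := hft
    refine ⟨mul_mem hcL hzN, ?_⟩
    rw [act_mul hcL hzN, map_mul, act_of_mem hzL,
      R.mem_PGL_iff_fld.mp (R.conj_mem_PGL _), mul_one]
    exact hf
  obtain ⟨hcL, M₀, hd, hI⟩ := IsMc.exists_fd hM hcc hft
  obtain ⟨hcL', M₀', hd', hI'⟩ := IsMc.exists_fd hM' hcc' hft'
  have hne : ∀ {x : G} (hx : x ∈ L), x * x = 1 → x ≠ 1 → (QuotientGroup.mk ⟨x, hx⟩ : ↥L ⧸ oddCore ↥L) ≠ 1 := by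
    intro x hx hxx hx1 h
    rw [mk_eq_one_iff hx] at h
    exact hx1 (eq_one_of_mem_core_sq h hxx)
  have hsq : ∀ {x : G} (hx : x ∈ L), x * x = 1 → (QuotientGroup.mk ⟨x, hx⟩ : ↥L ⧸ oddCore ↥L) *
      QuotientGroup.mk ⟨x, hx⟩ = 1 := by
    intro x hx hxx
    rw [← QuotientGroup.mk_mul]
    exact congrArg QuotientGroup.mk (Subtype.ext hxx : (⟨x, hx⟩ * ⟨x, hx⟩ : ↥L) = 1)
  have hact : act L ⟨c * z, hcL'⟩ = MulAut.conj (QuotientGroup.mk ⟨z, hzL⟩) * act L ⟨c, hcL⟩ := by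
    rw [← act_of_mem hzL, ← map_mul]
    congr 1
    exact Subtype.ext hzc.symm
  rw [hact] at hd'
  have h1 := hd.eq_z hd' (hsq hzL hzz) (hne hzL hzz hz1) (hI.mem _ hzM hzL) (hI'.mem _ hzM' hzL) (hsq hvL hvv)
    (hne hvL hvv hv1) (by
      rw [← QuotientGroup.mk_mul, ← QuotientGroup.mk_mul]
      exact congrArg QuotientGroup.mk (Subtype.ext hvz : (⟨v, hvL⟩ * ⟨z, hzL⟩ : ↥L) = ⟨z, hzL⟩ * ⟨v, hvL⟩))
    (hI.mem _ hvM hvL) (hI'.mem _ hvM' hvL)
  rw [mk_eq_iff hvL hzL] at h1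
  have hvi : v⁻¹ = v := inv_eq_of_mul_eq_one_left hvv
  have h2 : v⁻¹ * z = 1 := eq_one_of_mem_core_sq h1 (by
    rw [hvi]
    calc v * z * (v * z) = v * (z * v) * z := by group
      _ = (v * v) * (z * z) := by rw [← hvz]; group
      _ = 1 := by rw [hvv, hzz, one_mul])
  exact inv_mul_eq_one.mp h2

end Cfsg.Agent.UGT.Q2
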