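import Cfsg.Agent.UGT.Q2.FAut
import Cfsg.Agent.UGT.Q2.Mc
import Cfsg.Agent.UGT.Q2.DiagConj

/-!
# THEOREM Q2 (#13005), (F): badness of the involutions of field type

`(b z, a, L)` a triple, `b ∈ {1, a}`, `z ∈ L`; `c` an involution of field type on `L / O(L)` commuting with `a`;
`M` the 2-component of `L ∩ C(c)`. `z ∈ M`; `u ∈ C_L(c)` an involution outside `M`: then `Bad a b c z M` or
`Bad a b c u M`.
-/

set_option autoImplicit false

open Cfsg Subgroup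
open Cfsg.Agent.SignalizersComponents Cfsg.Agent.Lib
open Cfsg.Agent.SignalizersComponents.IntrinsicBasic
open Cfsg.Agent.Intrinsic.Basic Cfsg.Agent.Intrinsic.Cen Cfsg.Agent.Intrinsic.Diag
open Cfsg.Agent.McLLyComp.Act
open Cfsg.Agent.UGT.Triple Cfsg.Agent.UGT.TriBase Cfsg.Agent.UGT.Iface Cfsg.Agent.UGT.L2Inner
open scoped commutatorElement

namespace Cfsg.Agent.UGT.Q2

open Cfsg.Agent.GH.L2Aut (exists_fixed_field fixSub mem_fixSub)
open Cfsg.Agent.Lib.SL2Mat (fieldAut)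

section aut

variable {F : Type*} [Field F] [Finite F] {K : Type*} [Group K] {R : GH.L2Aut.Rep F K}

/-- `γ` of field type, `z ∈ M₀`, `u ∉ M₀` a fixed point of `γ`, both involutions: `γ` centralizes `ρ^g`, `z^g = u`,
if it inverts `ρ`. -/
theorem flip_of_fd {γ : MulAut K} {M₀ : Subgroup K} (hd : Facts.Fd R γ M₀) {z u g ρ : K} (hzz : z * z = 1)
    (hz1 : z ≠ 1) (hzM : z ∈ M₀) (huu : u * u = 1) (hu1 : u ≠ 1) (hγu : γ u = u) (huM : u ∉ M₀)
    (hg : g * z * g⁻¹ = u) (ho : Odd (orderOf ρ)) (hc : ρ * z = z * ρ) (hinv : γ ρ = ρ⁻¹) :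
    γ (g * ρ * g⁻¹) = g * ρ * g⁻¹ := by
  obtain ⟨R', hP, hfl, hR', hord⟩ := R.ftype_rep (fun h => hd.fld (R.mem_PGL_iff_fld.1 h)) hd.sq
  obtain ⟨σ, hσ⟩ : ∃ σ, σ = R.fld γ := ⟨_, rfl⟩
  rw [← hσ] at hR' hord
  have heven : Even (orderOf σ) := by rw [hord]; decide
  obtain ⟨K₀, hK₀, hcard⟩ := exists_fixed_field σ
  have hM₀ : M₀ ≤ R'.sub K₀ := by
    refine A7.PumpL2.le_sub_of_perfect R' heven hK₀ hcard ?_ hd.perf
    intro p hpP
    rw [mem_fixSub, ← hR']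
    exact hd.le p hpP
  obtain ⟨Y, rfl, hY⟩ := R'.exists_inv_lift hzz hz1
  obtain ⟨Y', rfl, hY'⟩ := R'.exists_inv_lift huu hu1
  have hsub : ∀ X : Matrix.SpecialLinearGroup (Fin 2) F, R'.π X ∈ R'.sub K₀ → fieldAut σ X = X := by
    intro X hX
    rw [R'.mem_sub] at hX
    obtain ⟨x, hx⟩ := hX
    rw [R'.π_eq_iff] at hx
    rcases hx with hx | hx
    · rw [← hx]; exact GH.L2Aut.Rep.fieldAut_inc hK₀ x
    · have h1 : X = -GH.L2Aut.Rep.inc K₀ x := by rw [hx, neg_neg]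
      rw [h1, R'.aut_neg, GH.L2Aut.Rep.fieldAut_inc hK₀ x]
  have h1 : fieldAut σ Y = Y := hsub Y (hM₀ hzM)
  have h2 : fieldAut σ Y' = -Y' := by
    rw [hR', R'.fa_apply, R'.π_eq_iff] at hγu
    rcases hγu with h | h
    · exfalso
      apply huM
      -- `R'.sub K₀ ≤ M₀`
      obtain ⟨x, hx⟩ := GH.L2Aut.Rep.exists_inc hK₀ h
      have h3 : R'.sub K₀ ≤ M₀ := by
        have h9 : 9 < Nat.card F := by
          refine mc_nine_lt R hd.sq hd.fld hd.perf ?_ hd.le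
          intro hbot
          rw [hbot, mem_bot] at hzM
          exact hz1 hzM
        have h4 : 3 < Nat.card K₀ := by
          have hc2 := hcard
          rw [hord] at hc2
          rw [hc2] at h9
          by_contra hcon
          push Not at hcon
          have := Nat.pow_le_pow_left hcon 2
          omega
        have hq := Cfsg.Agent.OddHalf.D6.SubFix.isQuasisimple (R'.subRep K₀) h4
        refine hd.max _ (fun p hp => ?_) (Subgroup.isPerfect_iff.1 hq.1)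
        rw [hR']
        exact R'.sub_le_fix hK₀ hp
      apply h3
      rw [R'.mem_sub]
      exact ⟨x, by rw [hx]⟩
    · exact h
  rw [hR'] at hinv ⊢
  exact FAut.torus_flip R' hY h1 h2 hg ho hc hinv

end aut

variable {G : Type*} [Group G] [Finite G] {L : Subgroup G} {F : Type} [Field F] [Finite F]
  {R : GH.L2Aut.Rep F (↥L ⧸ oddCore ↥L)} {a b c : G}

theorem odd_of_mem_core {X : Subgroup G} {d : G} (hd : d ∈ core X) : Odd (orderOf d) := by
  have h1 : orderOf (⟨d, hd⟩ : core X) ∣ Nat.card (core X) := orderOf_dvd_natCard _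
  rw [Subgroup.orderOf_mk] at h1
  exact Odd.of_dvd_nat (odd_card_core X) h1

/-- the lift of a fixed point of `c` -/
theorem bad_of {y : G} (T : IsTriple (b * y) a L) {M : Subgroup G} (hcc : c * c = 1) (hca : c * a = a * c)
    (hcy : c * (b * y) = (b * y) * c) (hft : FieldType L R c) (hM : IsMc L c M) {d0 : G}
    (hd0 : d0 ∈ core (centralizer ({b * y} : Set G))) (hd0L : d0 ∈ L)
    (hne : (QuotientGroup.mk ⟨d0, hd0L⟩ : ↥L ⧸ oddCore ↥L) ≠ 1)
    (hfix : ∀ h : c * d0 * c⁻¹ ∈ L, (QuotientGroup.mk ⟨c * d0 * c⁻¹, h⟩ : ↥L ⧸ oddCore ↥L) =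
      QuotientGroup.mk ⟨d0, hd0L⟩) : Bad a b c y M := by
  obtain ⟨hcL, M₀, hd, hI⟩ := IsMc.exists_fd hM hcc hft
  have hLa : L ≤ centralizer ({a} : Set G) := T.comp.le
  have hcX : c ∈ centralizer ({b * y} : Set G) := mem_c hcy
  have hci : c⁻¹ = c := inv_eq_of_mul_eq_one_left hcc
  have h1 : c * d0 * c⁻¹ ∈ core (centralizer ({b * y} : Set G)) := conj_core hcX hd0
  have h2 : c * d0 * c⁻¹ ∈ L := conj_mem hcL hd0L
  have h3 := hfix h2
  rw [mk_eq_iff h2 hd0L] at h3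
  -- `N₁ = O(C(b y)) ∩ O(L)`
  obtain ⟨N₁, hN₁⟩ : ∃ N₁, N₁ = core (centralizer ({b * y} : Set G)) ⊓ core L := ⟨_, rfl⟩
  have hodd : Odd (Nat.card N₁) := by
    rw [hN₁]
    exact Odd.of_dvd_nat (odd_card_core _) (card_dvd_of_le inf_le_left)
  have hmem : (d0⁻¹ * c * d0) * c ∈ N₁ := by
    have e1 : (d0⁻¹ * c * d0) * c = d0⁻¹ * (c * d0 * c⁻¹) := by rw [hci]; group
    rw [hN₁, e1]
    refine ⟨Subgroup.mul_mem _ (Subgroup.inv_mem _ hd0) h1, ?_⟩
    have h4 : d0⁻¹ * (c * d0 * c⁻¹) = ((c * d0 * c⁻¹)⁻¹ * d0)⁻¹ := by group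
    rw [h4]
    exact Subgroup.inv_mem _ h3
  have hsq : (d0⁻¹ * c * d0) * (d0⁻¹ * c * d0) = 1 := by
    have : (d0⁻¹ * c * d0) * (d0⁻¹ * c * d0) = d0⁻¹ * (c * c) * d0 := by group
    rw [this, hcc, mul_one, inv_mul_cancel]
  obtain ⟨h, hh, he⟩ := DiagConj.conj_of_odd hodd hsq hcc hmem
  rw [hN₁] at hh
  have hhL : h ∈ L := core_le L hh.2
  have hdL : d0 * h⁻¹ ∈ L := mul_mem hd0L (inv_mem hhL)
  have hdc : d0 * h⁻¹ * c = c * (d0 * h⁻¹) := by
    have e1 : d0 * h⁻¹ * c = d0 * h⁻¹ * (h * (d0⁻¹ * c * d0) * h⁻¹) := by rw [he]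
    rw [e1]
    group
  have hmk : (QuotientGroup.mk ⟨d0 * h⁻¹, hdL⟩ : ↥L ⧸ oddCore ↥L) = QuotientGroup.mk ⟨d0, hd0L⟩ := by
    rw [mk_eq_iff hdL hd0L]
    have e1 : (d0 * h⁻¹)⁻¹ * d0 = h := by group
    rw [e1]
    exact hh.2
  refine ⟨d0 * h⁻¹, mul_mem hd0 (inv_mem hh.1), hLa hdL, mem_c hdc, fun hf => ?_⟩
  have hdN : d0 * h⁻¹ ∈ normalizer (L : Set G) := le_normalizer hdL
  have h5 : ∀ m ∈ M₀, act L ⟨d0 * h⁻¹, hdN⟩ m = m := by
    intro m hm
    obtain ⟨k, hk, hkL, rfl⟩ := hI.surj m hm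
    rw [act_mk hdN hkL, mk_eq_iff (conj_mem hdN hkL) hkL]
    have h6 := hf.2 k hk
    rw [hI.core_eq] at h6
    have h7 : (d0 * h⁻¹ * k * (d0 * h⁻¹)⁻¹)⁻¹ * k = k⁻¹ * (⁅d0 * h⁻¹, k⁆)⁻¹ * k⁻¹⁻¹ := by
      rw [commutatorElement_def]; group
    rw [h7]
    exact conj_mem_core (le_normalizer (inv_mem hkL)) (inv_mem h6.2)
  have h6 : act L ⟨d0 * h⁻¹, hdN⟩ = MulAut.conj (QuotientGroup.mk ⟨d0, hd0L⟩) := by
    rw [← hmk]
    exact act_of_mem hdL
  rcases hd.cent _ h5 with h7 | h7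
  · rw [h6] at h7
    exact hne (R.conj_injective (h7.trans (map_one _).symm))
  · rw [h6] at h7
    exact hd.fld (by rw [← h7, R.mem_PGL_iff_fld.mp (R.conj_mem_PGL _)])

/-- **(F)** -/
theorem bad_or {z u : G} {M : Subgroup G} (T : IsTriple (b * z) a L) (hb : b = 1 ∨ b = a) (hcc : c * c = 1)
    (hca : c * a = a * c) (hft : FieldType L R c) (hM : IsMc L c M) (hzM : z ∈ M) (hzz : z * z = 1) (hz1 : z ≠ 1)
    (huL : u ∈ L) (huu : u * u = 1) (huc : u * c = c * u) (huM : u ∉ M) :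
    Bad a b c z M ∨ Bad a b c u M := by
  obtain ⟨hcL, M₀, hd, hI⟩ := IsMc.exists_fd hM hcc hft
  have hLa : L ≤ centralizer ({a} : Set G) := T.comp.le
  have hLb : ∀ l ∈ L, l * b = b * l := by
    intro l hl
    rcases hb with rfl | rfl
    · rw [one_mul, mul_one]
    · exact comm_c (hLa hl)
  have hcb : c * b = b * c := by
    rcases hb with rfl | rfl
    · rw [one_mul, mul_one]
    · exact hca
  have hzL : z ∈ L := hI.le hzM
  have hzc : z * c = c * z := hI.comm hzM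
  have hzN : z ∈ normalizer (L : Set G) := le_normalizer hzL
  have hu1 : u ≠ 1 := fun h => huM (h ▸ M.one_mem)
  have hcy : ∀ y : G, y * c = c * y → c * (b * y) = (b * y) * c := by
    intro y hy
    rw [← mul_assoc, hcb, mul_assoc, ← hy, mul_assoc]
  -- images
  have hne : ∀ {x : G} (hx : x ∈ L), x * x = 1 → x ≠ 1 → (QuotientGroup.mk ⟨x, hx⟩ : ↥L ⧸ oddCore ↥L) ≠ 1 := by
    intro x hx hxx hx1 h
    rw [mk_eq_one_iff hx] at h
    exact hx1 (eq_one_of_mem_core_sq h hxx)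
  have hsq : ∀ {x : G} (hx : x ∈ L), x * x = 1 → (QuotientGroup.mk ⟨x, hx⟩ : ↥L ⧸ oddCore ↥L) *
      QuotientGroup.mk ⟨x, hx⟩ = 1 := by
    intro x hx hxx
    rw [← QuotientGroup.mk_mul]
    exact congrArg QuotientGroup.mk (Subtype.ext hxx : (⟨x, hx⟩ * ⟨x, hx⟩ : ↥L) = 1)
  obtain ⟨Z, hZ⟩ : ∃ Z : ↥L ⧸ oddCore ↥L, Z = QuotientGroup.mk ⟨z, hzL⟩ := ⟨_, rfl⟩
  have hZZ : Z * Z = 1 := by rw [hZ]; exact hsq hzL hzz
  have hZ1 : Z ≠ 1 := by rw [hZ]; exact hne hzL hzz hz1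
  -- the elements of `O(C(b z)) ∩ L`
  have hcomm : ∀ d ∈ core (centralizer ({b * z} : Set G)), ∀ hdL : d ∈ L,
      (QuotientGroup.mk ⟨d, hdL⟩ : ↥L ⧸ oddCore ↥L) * Z = Z * QuotientGroup.mk ⟨d, hdL⟩ := by
    intro d hd hdL
    have h1 : d * (b * z) = (b * z) * d := comm_c (core_le' _ hd)
    have h2 : d * z = z * d := by
      have h3 : b * (d * z) = b * (z * d) := by
        calc b * (d * z) = (b * d) * z := by group
          _ = d * (b * z) := by rw [← hLb d hdL]; group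
          _ = b * (z * d) := by rw [h1]; group
      exact mul_left_cancel h3
    rw [hZ, ← QuotientGroup.mk_mul, ← QuotientGroup.mk_mul]
    exact congrArg QuotientGroup.mk (Subtype.ext h2 : (⟨d, hdL⟩ * ⟨z, hzL⟩ : ↥L) = ⟨z, hzL⟩ * ⟨d, hdL⟩)
  have hoddbar : ∀ d (hd : d ∈ core (centralizer ({b * z} : Set G))) (hdL : d ∈ L),
      Odd (orderOf (QuotientGroup.mk ⟨d, hdL⟩ : ↥L ⧸ oddCore ↥L)) := by
    intro d hd hdL
    have h1 : orderOf (QuotientGroup.mk' (oddCore ↥L) ⟨d, hdL⟩) ∣ orderOf (⟨d, hdL⟩ : ↥L) :=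
      orderOf_map_dvd _ _
    rw [Subgroup.orderOf_mk] at h1
    exact Odd.of_dvd_nat (odd_of_mem_core hd) h1
  -- a nontrivial element
  obtain ⟨d1, hd1, hd1L, hd1n⟩ : ∃ d1 ∈ core (centralizer ({b * z} : Set G)), ∃ hd1L : d1 ∈ L,
      (QuotientGroup.mk ⟨d1, hd1L⟩ : ↥L ⧸ oddCore ↥L) ≠ 1 := by
    obtain ⟨d, hdX, hda, hdf⟩ := T.bad
    have hdL := T.mem_normalizer_of_core hdX hda
    have hδ1 : act L ⟨d, hdL⟩ ≠ 1 := fun h => hdf ((act_eq_one_iff hdL).mp h)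
    have hδo : Odd (orderOf (act L ⟨d, hdL⟩)) := by
      have h1 : orderOf (act L ⟨d, hdL⟩) ∣ orderOf (⟨d, hdL⟩ : ↥(normalizer (L : Set G))) :=
        orderOf_map_dvd _ _
      rw [Subgroup.orderOf_mk] at h1
      exact Odd.of_dvd_nat (odd_of_mem_core hdX) h1
    obtain ⟨x, hx, hxn⟩ : ∃ x, x * Z = Z * x ∧ act L ⟨d, hdL⟩ x ≠ x := by
      by_contra hcon
      push Not at hcon
      exact hδ1 (FAut.odd_cent R hZZ hZ1 hδo hcon)
    obtain ⟨l, hl, hlz, hlx⟩ := WBTriple.exists_lift hzN hzz (y := x) (by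
      rw [act_of_mem hzL, ← hZ, MulAut.conj_apply, ← hx, mul_inv_cancel_right])
    have hlX : l ∈ centralizer ({b * z} : Set G) := by
      refine mem_c ?_
      rw [← mul_assoc, hLb l hl, mul_assoc, hlz, mul_assoc]
    have h1 : d * l * d⁻¹ ∈ L := conj_mem hdL hl
    have h2 : d * l * d⁻¹ * l⁻¹ ∈ L := mul_mem h1 (inv_mem hl)
    refine ⟨d * l * d⁻¹ * l⁻¹, ?_, h2, ?_⟩
    · have h3 : d * l * d⁻¹ * l⁻¹ = d * (l * d⁻¹ * l⁻¹) := by group
      rw [h3]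
      exact mul_mem hdX (conj_core hlX (inv_mem hdX))
    · intro h3
      apply hxn
      rw [← hlx, act_mk hdL hl, mk_eq_iff h1 hl]
      rw [mk_eq_one_iff h2] at h3
      have h4 : (d * l * d⁻¹)⁻¹ * l = l⁻¹ * (d * l * d⁻¹ * l⁻¹)⁻¹ * l⁻¹⁻¹ := by group
      rw [h4]
      exact conj_mem_core (le_normalizer (inv_mem hl)) (inv_mem h3)
  have hcX : c ∈ centralizer ({b * z} : Set G) := mem_c (hcy z hzc)
  -- the alternative
  by_cases hcase : ∃ d ∈ core (centralizer ({b * z} : Set G)), ∃ hdL : d ∈ L,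
      (QuotientGroup.mk ⟨d, hdL⟩ : ↥L ⧸ oddCore ↥L) ≠ 1 ∧
      act L ⟨c, hcL⟩ (QuotientGroup.mk ⟨d, hdL⟩) = QuotientGroup.mk ⟨d, hdL⟩
  · left
    obtain ⟨d, hdX, hdL, hdn, hdf⟩ := hcase
    refine bad_of T hcc hca (hcy z hzc) hft hM hdX hdL hdn fun h => ?_
    rw [← act_mk hcL hdL]
    exact hdf
  · right
    push Not at hcase
    obtain ⟨ρ, hρ⟩ : ∃ ρ : ↥L ⧸ oddCore ↥L, ρ = QuotientGroup.mk ⟨d1, hd1L⟩ := ⟨_, rfl⟩
    have hγρ : act L ⟨c, hcL⟩ ρ = QuotientGroup.mk ⟨c * d1 * c⁻¹, conj_mem hcL hd1L⟩ := by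
      rw [hρ, act_mk hcL hd1L]
    have hcd1 := conj_core hcX hd1
    have hcd1L := conj_mem hcL hd1L
    have hρρ : ρ * act L ⟨c, hcL⟩ ρ = act L ⟨c, hcL⟩ ρ * ρ := by
      rw [hγρ, hρ]
      exact FAut.torus_comm R hZZ hZ1 (hoddbar _ hd1 _) (hoddbar _ hcd1 _) (hcomm _ hd1 _) (hcomm _ hcd1 _)
    have hinv : act L ⟨c, hcL⟩ ρ = ρ⁻¹ := by
      have h1 : ρ * act L ⟨c, hcL⟩ ρ = QuotientGroup.mk ⟨d1 * (c * d1 * c⁻¹), mul_mem hd1L hcd1L⟩ := by
        rw [hγρ, hρ]; rfl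
      have h2 : ρ * act L ⟨c, hcL⟩ ρ = 1 := by
        by_contra hne'
        rw [h1] at hne'
        have h3 := hcase _ (mul_mem hd1 hcd1) (mul_mem hd1L hcd1L) hne'
        apply h3
        rw [← h1, map_mul, ← MulAut.mul_apply, mc_act_sq hcL hcc, MulAut.one_apply]
        exact hρρ.symm
      exact (inv_eq_of_mul_eq_one_right h2).symm
    have hρn : ρ ≠ 1 := by rw [hρ]; exact hd1n
    obtain ⟨U, hU⟩ : ∃ U : ↥L ⧸ oddCore ↥L, U = QuotientGroup.mk ⟨u, huL⟩ := ⟨_, rfl⟩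
    have hUU : U * U = 1 := by rw [hU]; exact hsq huL huu
    have hU1 : U ≠ 1 := by rw [hU]; exact hne huL huu hu1
    have hUM : U ∉ M₀ := by
      intro h0
      rw [hU] at h0
      exact huM (hI.mem_of_two huL huc (n := 1) (by rw [pow_one, sq, huu]) h0)
    have hUf : act L ⟨c, hcL⟩ U = U := by rw [hU]; exact fix_of_comm hcL huL huc
    obtain ⟨g, hg⟩ := R.inv_conj hZZ hZ1 hUU hU1
    have hflip := flip_of_fd hd hZZ hZ1 (by rw [hZ]; exact hI.mem _ hzM hzL) hUU hU1 hUf hUM hg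
      (by rw [hρ]; exact hoddbar _ hd1 _) (by rw [hρ]; exact hcomm _ hd1 _) hinv
    -- the lift of `g`
    obtain ⟨⟨l, hl⟩, rfl⟩ := QuotientGroup.mk_surjective g
    have hlz : l * z * l⁻¹ ∈ L := mul_mem (mul_mem hl hzL) (inv_mem hl)
    have hlzm : (QuotientGroup.mk ⟨l * z * l⁻¹, hlz⟩ : ↥L ⧸ oddCore ↥L) = QuotientGroup.mk ⟨u, huL⟩ := by
      rw [← hU, ← hg, hZ]
      rfl
    have hlzz : (l * z * l⁻¹) * (l * z * l⁻¹) = 1 := by
      have : (l * z * l⁻¹) * (l * z * l⁻¹) = l * (z * z) * l⁻¹ := by group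
      rw [this, hzz, mul_one, mul_inv_cancel]
    have hlu : (l * z * l⁻¹) * u ∈ core L := by
      rw [mk_eq_iff hlz huL] at hlzm
      rwa [inv_eq_of_mul_eq_one_left hlzz] at hlzm
    obtain ⟨h, hh, he⟩ := DiagConj.conj_of_odd (odd_card_core L) hlzz huu hlu
    have hhL : h ∈ L := core_le L hh
    have hgL : h * l ∈ L := mul_mem hhL hl
    have hgz : (h * l) * z * (h * l)⁻¹ = u := by rw [← he]; group
    have hgb : (h * l) * (b * z) * (h * l)⁻¹ = b * u := by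
      rw [← hgz]
      have h1 := hLb _ hgL
      calc (h * l) * (b * z) * (h * l)⁻¹ = ((h * l) * b) * z * (h * l)⁻¹ := by group
        _ = b * ((h * l) * z * (h * l)⁻¹) := by rw [h1]; group
    have hga : (h * l) * a * (h * l)⁻¹ = a := by
      rw [comm_c (hLa hgL), mul_inv_cancel_right]
    have T' : IsTriple (b * u) a L := by
      have h1 := T.cj (h * l)
      rwa [hgb, hga, cj_eq_self_of_mem hgL] at h1
    have hd2 : (h * l) * d1 * (h * l)⁻¹ ∈ core (centralizer ({b * u} : Set G)) := by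
      have h1 : (h * l) * d1 * (h * l)⁻¹ ∈ cj (h * l) (core (centralizer ({b * z} : Set G))) := conj_mem_cj hd1
      rw [← core_cj] at h1
      have h2 : cj (h * l) (centralizer ({b * z} : Set G)) = centralizer ({b * u} : Set G) := by
        ext x
        rw [mem_cj, mem_centralizer_singleton_iff, mem_centralizer_singleton_iff, ← hgb]
        constructor
        · intro h3
          calc x * (h * l * (b * z) * (h * l)⁻¹) =
              (h * l) * ((h * l)⁻¹ * x * (h * l) * (b * z)) * (h * l)⁻¹ := by group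
            _ = _ := by rw [h3]; group
        · intro h3
          calc (h * l)⁻¹ * x * (h * l) * (b * z) =
              (h * l)⁻¹ * (x * (h * l * (b * z) * (h * l)⁻¹)) * (h * l) := by group
            _ = _ := by rw [h3]; group
      rwa [h2] at h1
    have hd2L : (h * l) * d1 * (h * l)⁻¹ ∈ L := mul_mem (mul_mem hgL hd1L) (inv_mem hgL)
    have hmk : (QuotientGroup.mk ⟨(h * l) * d1 * (h * l)⁻¹, hd2L⟩ : ↥L ⧸ oddCore ↥L) =
        QuotientGroup.mk ⟨l, hl⟩ * ρ * (QuotientGroup.mk ⟨l, hl⟩)⁻¹ := by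
      have h1 : (QuotientGroup.mk ⟨h * l, hgL⟩ : ↥L ⧸ oddCore ↥L) = QuotientGroup.mk ⟨l, hl⟩ := by
        rw [mk_eq_iff hgL hl]
        have e1 : (h * l)⁻¹ * l = l⁻¹ * h⁻¹ * l⁻¹⁻¹ := by group
        rw [e1]
        exact conj_mem_core (le_normalizer (inv_mem hl)) (inv_mem hh)
      rw [← h1, hρ]
      rfl
    refine bad_of T' hcc hca (hcy u huc) hft hM hd2 hd2L ?_ fun h' => ?_
    · rw [hmk]
      intro h1
      apply hρn
      have h2 : ρ = (QuotientGroup.mk ⟨l, hl⟩)⁻¹ * (QuotientGroup.mk ⟨l, hl⟩ * ρ * (QuotientGroup.mk ⟨l, hl⟩)⁻¹) *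
          QuotientGroup.mk ⟨l, hl⟩ := by group
      rw [h2, h1, mul_one, inv_mul_cancel]
    · rw [← act_mk hcL hd2L, hmk]
      exact hflip

end Cfsg.Agent.UGT.Q2
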