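import Cfsg.Agent.UGT.Q2.DDBase
import Cfsg.Agent.UGT.Q2.FBad

/-!
# THEOREM Q2 (#13005), (DD): from `Line` to `Cfg`

`LineCfg`: the data handed over to the second part of (DD).
-/

set_option autoImplicit false

open Cfsg Subgroup
open Cfsg.Agent.SignalizersComponents Cfsg.Agent.Lib
open Cfsg.Agent.SignalizersComponents.IntrinsicBasic
open Cfsg.Agent.Intrinsic.Basic Cfsg.Agent.Intrinsic.Cen Cfsg.Agent.Intrinsic.Diag
open Cfsg.Agent.McLLyComp.Act
open Cfsg.Agent.UGT.Triple Cfsg.Agent.UGT.TriBase Cfsg.Agent.UGT.Iface Cfsg.Agent.UGT.L2Inner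
open Cfsg.Agent.GH.L2Aut (Four)
open scoped commutatorElement

namespace Cfsg.Agent.UGT.Q2

universe u

theorem center_bot_of_type {G : Type u} [Group G] {K : Subgroup G} (h : L2T K ∨ IsAlt 7 (Bar K)) :
    center (↥K ⧸ oddCore ↥K) = ⊥ := by
  rcases h with ⟨F, i1, i2, ⟨R⟩⟩ | ⟨⟨e⟩⟩
  · exact R.center_eq_bot
  · have h1 : center ↥(alternatingGroup (Fin 7)) = ⊥ := by
      have := alternatingGroup.center_eq_bot (α := Fin 7) (by simp)
      exact this
    rw [eq_bot_iff]
    intro x hx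
    have h2 : e x ∈ center ↥(alternatingGroup (Fin 7)) := by
      rw [mem_center_iff]
      intro y
      apply e.symm.injective
      rw [map_mul, map_mul, e.symm_apply_apply]
      exact mem_center_iff.mp hx _
    rw [h1, mem_bot] at h2
    rw [mem_bot]
    exact e.injective (h2.trans (map_one e).symm)

variable {G : Type u} [Group G] [Finite G]

/-- pump-up of a bad involution into the diagonal: `a` cannot normalize, the triple is on `I` -/
theorem triple_of_bad {a b c y : G} {M I : Subgroup G} (haa : a * a = 1) (hcc : c * c = 1)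
    (hc1 : c ≠ 1) (hca : c * a = a * c) (hby : orderOf (b * y) = 2) (hcy : c * (b * y) = (b * y) * c)
    (hay : a * (b * y) = (b * y) * a)
    (hMc : IsComp (centralizer ({c} : Set G) ⊓ centralizer ({a} : Set G)) M) (hD : IsD a c M I)
    (hbad : Bad a b c y M) : IsTriple (b * y) c I := by
  obtain ⟨d, hd, hda, hdc, hdf⟩ := hbad
  obtain ⟨N, hT, -, hN⟩ := PumpGen.pump hby (order_two hcc hc1) haa hca hcy hMc hd hda hdc hdf
  have hacomp : a ∈ centralizer ({c} : Set G) := mem_c hca.symm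
  -- `N` is `I` or `I^a`
  have hmem : N = I ∨ N = cj a I := by
    rcases hN with ⟨haN, hMN⟩ | ⟨hne, heq⟩
    · exfalso
      -- `M ≤ N`, `M = diag`
      by_cases h1 : N = I
      · exact hD.ne (by rw [← h1]; exact mem_normalizer_iff_cj.mp haN)
      by_cases h2 : N = cj a I
      · apply hD.ne
        have h3 := mem_normalizer_iff_cj.mp haN
        rw [h2, ← cj_mul, haa, cj_one] at h3
        exact h3.symm
      · -- the elements of `M` fix `N`
        refine hMc.not_odd (odd_card_core N) fun m hm => ?_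
        have h3 : ∀ m ∈ M, Fixes m N := by
          intro m hm
          have hm' : m ∈ diag (centralizer ({c} : Set G)) I a := hD.eq ▸ hm
          exact fixes_of_comm_core hT.comp (diag_le hm') fun k hk =>
            comm_diag_of_ne hD.comp hacomp haa hD.ne hT.comp h1 h2 hm' hk
        have h4 : ⁅M, M⁆ ≤ core N := by
          rw [commutator_le]
          intro m hm k hk
          exact (h3 m hm).2 k (hMN hk)
        rw [hMc.perfect] at h4
        exact h4 hm
    · by_contra hcon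
      push Not at hcon
      exact diag_ne hD.comp hacomp haa hD.ne hT.comp hne hcon.1 hcon.2 (heq.symm.trans hD.eq)
  rcases hmem with rfl | h
  · exact hT
  · have h1 := hT.cj a
    have hai : a⁻¹ = a := inv_eq_of_mul_eq_one_left haa
    have e1 : a * c * a⁻¹ = c := by rw [← hca, mul_inv_cancel_right]
    rw [h, ← cj_mul, haa, cj_one, e1] at h1
    rw [hay, mul_inv_cancel_right] at h1
    exact h1

omit [Finite G] in
theorem FieldType.ne_one {L : Subgroup G} {F : Type} [Field F] [Finite F]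
    {R : GH.L2Aut.Rep F (↥L ⧸ oddCore ↥L)} {c : G} (h : FieldType L R c) : c ≠ 1 := by
  rintro rfl
  obtain ⟨h1, h2⟩ := h
  apply h2
  have h3 : (⟨1, h1⟩ : ↥(normalizer (L : Set G))) = 1 := rfl
  rw [h3, map_one, map_one]

omit [Finite G] in
theorem FieldType.mul_right {L : Subgroup G} {F : Type} [Field F] [Finite F]
    {R : GH.L2Aut.Rep F (↥L ⧸ oddCore ↥L)} {c z : G} (h : FieldType L R c) (hz : z ∈ L) :
    FieldType L R (c * z) := by
  obtain ⟨hcL, hf⟩ := h
  refine ⟨mul_mem hcL (le_normalizer hz), ?_⟩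
  rw [act_mul hcL (le_normalizer hz), map_mul, act_of_mem hz,
    R.mem_PGL_iff_fld.mp (R.conj_mem_PGL _), mul_one]
  exact hf

/-- the second part of (DD) -/
def DDEnd (G : Type u) [Group G] (q : ℕ) : Prop :=
  ∀ (a z f v u w z1 y y1 : G) (Mf Me I J : Subgroup G) (q0 : ℕ), Cfg a z f v u Mf Me I J →
    Half a z v u J w z1 → Fixes (a * z1 * a⁻¹) I → L2q q0 Me → q0 ^ 2 = q → ¬ IsInner v Me →
    IsTriple y (f * z) J → (y = z ∨ y = v) → IsTriple y1 f I → (y1 = z ∨ y1 = u) → False

section line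

variable {a b z f v u : G} {L Mf Me I J : Subgroup G} {F : Type} [Field F] [Finite F]
  {R : GH.L2Aut.Rep F (↥L ⧸ oddCore ↥L)}

/-- the triples on the pump-ups, and `Cfg` -/
theorem Line.cfg (W : World G) (K : Line a b z f v u L Mf Me R) (hI : IsD a f Mf I)
    (hJ : IsD a (f * z) Me J) :
    Cfg a z f v u Mf Me I J ∧ (u ∉ Mf ∧ v ∉ Me) ∧
      (∃ y1, (y1 = z ∨ y1 = u) ∧ IsTriple (b * y1) f I) ∧
      ∃ y, (y = z ∨ y = v) ∧ IsTriple (b * y) (f * z) J := by
  have haa := Triple.sq_of_order K.tr.inva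
  have hLa : L ≤ centralizer ({a} : Set G) := K.tr.comp.le
  have hzL : z ∈ L := (K.cf.le K.zf).1
  have hvL : v ∈ L := (K.cf.le K.vf).1
  have huL : u ∈ L := (K.ce.le K.ue).1
  have hza : z * a = a * z := comm_c (hLa hzL)
  have hzf : z * f = f * z := comm_c (K.cf.le K.zf).2
  have hvf : v * f = f * v := comm_c (K.cf.le K.vf).2
  have hue : u * (f * z) = (f * z) * u := comm_c (K.ce.le K.ue).2
  have hvi : v⁻¹ = v := inv_eq_of_mul_eq_one_left K.vv
  have hui : u⁻¹ = u := inv_eq_of_mul_eq_one_left K.uu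
  have hvz : v * z = z * v := by
    obtain ⟨k, hk⟩ := K.vu
    refine comm_of_inv_pow (g := v * u) ?_ K.zz hk
    rw [mul_inv_rev, hvi, hui, ← mul_assoc, K.vv, one_mul]
  have huz : u * z = z * u := by
    obtain ⟨k, hk⟩ := K.vu
    refine comm_of_inv_pow (g := v * u) ?_ K.zz hk
    rw [mul_inv_rev, hvi, hui, ← mul_assoc, mul_assoc _ u u, K.uu, mul_one]
  have huf : u * f = f * u := Cfg.comm_f hue huz
  have hve : v * (f * z) = (f * z) * v := Cfg.comm_e hvf hvz
  have hpow : ∀ g : G, g * g = 1 → ∀ k : ℕ, g ^ (2 * k) = 1 := by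
    intro g hg k
    rw [pow_mul, sq, hg, one_pow]
  have hv1 : v ≠ 1 := by
    rintro rfl
    obtain ⟨k, hk⟩ := K.vu
    rw [one_mul, hpow u K.uu] at hk
    exact K.z1 hk.symm
  have hu1 : u ≠ 1 := by
    rintro rfl
    obtain ⟨k, hk⟩ := K.vu
    rw [mul_one, hpow v K.vv] at hk
    exact K.z1 hk.symm
  have hvz' : v ≠ z := by
    intro h
    obtain ⟨k, hk⟩ := K.vu
    rw [h, hpow (z * u) (by
      calc z * u * (z * u) = z * (u * z) * u := by group
        _ = (z * z) * (u * u) := by rw [huz]; group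
        _ = 1 := by rw [K.zz, K.uu, one_mul])] at hk
    exact K.z1 hk.symm
  have huz' : u ≠ z := by
    intro h
    obtain ⟨k, hk⟩ := K.vu
    rw [h, hpow (v * z) (by
      calc v * z * (v * z) = v * (z * v) * z := by group
        _ = (v * v) * (z * z) := by rw [← hvz]; group
        _ = 1 := by rw [K.zz, K.vv, one_mul])] at hk
    exact K.z1 hk.symm
  have hvMe : v ∉ Me := fun h => hvz' (IsMc.eq_z K.cf K.ce K.ff K.ft hzf K.zz K.z1 K.zf K.ze K.vv hv1 hvz K.vf h)
  have huMf : u ∉ Mf := fun h => huz' (IsMc.eq_z K.cf K.ce K.ff K.ft hzf K.zz K.z1 K.zf K.ze K.uu hu1 huz h K.ue)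
  have hee : (f * z) * (f * z) = 1 := by
    calc (f * z) * (f * z) = f * (z * f) * z := by group
      _ = (f * f) * (z * z) := by rw [hzf]; group
      _ = 1 := by rw [K.ff, K.zz, one_mul]
  have hea : (f * z) * a = a * (f * z) := by
    calc (f * z) * a = f * (z * a) := by group
      _ = (f * a) * z := by rw [hza]; group
      _ = a * (f * z) := by rw [K.fa]; group
  have hfte : FieldType L R (f * z) := K.ft.mul_right hzL
  have htL : L2T L := ⟨F, inferInstance, inferInstance, ⟨R⟩⟩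
  -- `b y`
  have hbc : ∀ g : G, g * a = a * g → g * b = b * g := by
    intro g hg
    rcases K.hb with h | h
    · rw [h, one_mul, mul_one]
    · rw [h]; exact hg
  have hbb : b * b = 1 := by
    rcases K.hb with h | h
    · rw [h, one_mul]
    · rw [h]; exact haa
  have hby : ∀ y ∈ L, y * y = 1 → y ≠ 1 → orderOf (b * y) = 2 := by
    intro y hy hyy hy1
    refine order_two ?_ ?_
    · calc b * y * (b * y) = b * (y * b) * y := by group
        _ = (b * b) * (y * y) := by rw [hbc y (comm_c (hLa hy))]; group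
        _ = 1 := by rw [hbb, hyy, one_mul]
    · intro h
      rcases K.hb with hb | hb
      · rw [hb, one_mul] at h
        exact hy1 h
      · rw [hb] at h
        have h1 : y = a := by
          have : y = a⁻¹ := (inv_eq_of_mul_eq_one_right h).symm
          rw [this]
          exact inv_eq_of_mul_eq_one_left haa
        refine not_fixes_of_mem htL hy hyy hy1 (h1 ▸ fixes_self' ?_)
        exact hLa
  have hcomp : ∀ {c : G} {M : Subgroup G}, IsMc L c M →
      IsComp (centralizer ({c} : Set G) ⊓ centralizer ({a} : Set G)) M := by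
    intro c M hM
    have h1 := PumpGen.isComp_of_inf K.tr.comp hM
    rwa [inf_comm] at h1
  have hcby : ∀ {c y : G}, c * a = a * c → y * c = c * y → c * (b * y) = (b * y) * c := by
    intro c y hc hy
    rw [← mul_assoc, hbc c hc, mul_assoc, ← hy, mul_assoc]
  -- the triples
  have key : ∀ {c y : G} {M I : Subgroup G}, c * c = 1 → c ≠ 1 → c * a = a * c → y ∈ L → y * y = 1 → y ≠ 1 →
      y * c = c * y → IsMc L c M → IsD a c M I → Bad a b c y M → IsTriple (b * y) c I := by
    intro c y M I hcc hc1 hca hyL hyy hy1 hyc hM hD hB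
    exact triple_of_bad haa hcc hc1 hca (hby y hyL hyy hy1) (hcby hca hyc)
      (hcby (c := a) rfl (comm_c (hLa hyL))) (hcomp hM) hD hB
  have T1 : ∃ y1, (y1 = z ∨ y1 = u) ∧ IsTriple (b * y1) f I := by
    rcases bad_or K.tr K.hb K.ff K.fa K.ft K.cf K.zf K.zz K.z1 huL K.uu huf huMf with h | h
    · exact ⟨z, Or.inl rfl, key K.ff K.ft.ne_one K.fa hzL K.zz K.z1 hzf K.cf hI h⟩
    · exact ⟨u, Or.inr rfl, key K.ff K.ft.ne_one K.fa huL K.uu hu1 huf K.cf hI h⟩
  have T2 : ∃ y, (y = z ∨ y = v) ∧ IsTriple (b * y) (f * z) J := by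
    rcases bad_or K.tr K.hb hee hea hfte K.ce K.ze K.zz K.z1 hvL K.vv hve hvMe with h | h
    · exact ⟨z, Or.inl rfl, key hee hfte.ne_one hea hzL K.zz K.z1 (Cfg.comm_e hzf rfl) K.ce hJ h⟩
    · exact ⟨v, Or.inr rfl, key hee hfte.ne_one hea hvL K.vv hv1 hve K.ce hJ h⟩
  have hcI : center (↥I ⧸ oddCore ↥I) = ⊥ := by
    obtain ⟨y, -, hT⟩ := T1
    exact center_bot_of_type (W _ _ _ hT)
  have hcJ : center (↥J ⧸ oddCore ↥J) = ⊥ := by
    obtain ⟨y, -, hT⟩ := T2
    exact center_bot_of_type (W _ _ _ hT)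
  refine ⟨⟨⟨haa, K.ff, K.fa, hI.comp, hI.ne, hI.eq, K.zf, K.zz, K.z1, IsMc.l2T K.cf K.ff K.ft, hcI⟩,
    ⟨haa, hee, hea, hJ.comp, hJ.ne, hJ.eq, K.ze, K.zz, K.z1, IsMc.l2T K.ce hee hfte, hcJ⟩, K.vf, K.ue, K.vv, K.uu,
    K.two, K.vu⟩, ⟨huMf, hvMe⟩, T1, T2⟩

/-- **(DD)** over its second part -/
theorem dd_of (W : World G) (hE : DDEnd G (Nat.card F)) (K : Line a b z f v u L Mf Me R) (hI : IsD a f Mf I)
    (hJ : IsD a (f * z) Me J) : False := by
  obtain ⟨C, ⟨huMf, hvMe⟩, ⟨y1, hy1, T1⟩, ⟨y, hy, T2⟩⟩ := K.cfg W hI hJ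
  have haa := C.S1.aa
  have hzL : z ∈ L := (K.cf.le K.zf).1
  have hvL : v ∈ L := (K.cf.le K.vf).1
  have huL : u ∈ L := (K.ce.le K.ue).1
  have hfte : FieldType L R (f * z) := K.ft.mul_right hzL
  rcases K.hb with hb | hb
  swap
  · -- `x = a y`
    have h1 := T1.x_mem
    rw [hb] at h1
    have h2 : y1 ∈ normalizer (I : Set G) := by
      rcases hy1 with rfl | rfl
      · exact C.S1.norm_M C.S1.zM
      · exact C.uI
    have h3 : a ∈ normalizer (I : Set G) := by
      have := mul_mem h1 (inv_mem h2)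
      rwa [mul_inv_cancel_right] at this
    exact hI.ne (mem_normalizer_iff_cj.mp h3)
  rw [hb, one_mul] at T1 T2
  obtain ⟨w, z1, H⟩ := C.exists_half
  obtain ⟨q0, hq0, hq⟩ := IsMc.l2q K.ce C.S2.ff hfte
  have hni : ¬ IsInner v Me := IsMc.not_inner K.ce C.S2.ff hfte hvL C.ve hvMe (n := 1)
    (by rw [pow_one, sq, K.vv])
  -- the action of `u` on `I`
  obtain ⟨E, i1, i2, R₁, -, hout⟩ := IsMc.outer K.cf K.ff K.ft
  obtain ⟨e, he⟩ := exists_eqv_diag C.S1.comp C.S1.aX haa C.S1.ne C.S1.cI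
  have hout' := hout u huL C.uf huMf ⟨1, by rw [pow_one, sq, K.uu]⟩
  have hMf := C.S1.eq
  subst hMf
  have ho : ∀ h : u ∈ normalizer (I : Set G), (repTr R₁ e.symm).o1 (act I ⟨u, h⟩) = -1 := by
    intro h
    obtain ⟨h1, h2, h3⟩ := he u (mem_c C.uf) C.ua h
    rw [repTr_o1 R₁ e.symm (α := act _ ⟨u, h2⟩) (fun x => ?_), (hout' h2).2]
    apply e.injective
    rw [e.apply_symm_apply, h3, e.apply_symm_apply]
  rcases C.fixes_half H (repTr R₁ e.symm) ho
    (fun hF _ _ h1 h2 h3 h4 => Facts.four_comm (repTr R₁ e.symm) hF h1 h2 h3 h4) with h | h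
  · have C' : Cfg a z f v u _ Me I (cj a J) :=
      ⟨C.S1, C.S2.swap, C.vf, C.ue, C.vv, C.uu, C.two, C.vu⟩
    have hcomm : ∀ g : G, g * a = a * g → a * g * a⁻¹ = g := fun g hg => by rw [← hg, mul_inv_cancel_right]
    have T2' : IsTriple y (f * z) (cj a J) := by
      have h1 := T2.cj a
      have h2 : y * a = a * y := by
        rcases hy with rfl | rfl
        · exact C.za
        · exact C.va
      rwa [hcomm y h2, hcomm (f * z) C.S2.fa] at h1
    have hH := H.swap haa C.va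
    refine hE a z f v u _ _ y y1 _ Me I (cj a J) q0 C' hH ?_ hq0 hq hni T2' hy T1 hy1
    have h2 : a * (a * z1 * a⁻¹) * a⁻¹ = z1 := by
      have : a * (a * z1 * a⁻¹) * a⁻¹ = (a * a) * z1 * (a * a)⁻¹ := by group
      rw [this, haa, one_mul, inv_one, mul_one]
    rw [h2]
    exact h
  · exact hE a z f v u w z1 y y1 _ Me I J q0 C H h hq0 hq hni T2 hy T1 hy1

end line

end Cfsg.Agent.UGT.Q2
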