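import Cfsg.Agent.UGT.Q2.Side
import Cfsg.Agent.UGT.Q2.RepTr

/-!
# THEOREM Q2 (#13005): transfer of actions

`Eqv K K' e g`: `e : K / O(K) ≃* K' / O(K')` is `g`-equivariant. For `K' = diag X K a`, `K' = cen K t`.
-/

set_option autoImplicit false

open Cfsg Subgroup
open Cfsg.Agent.SignalizersComponents Cfsg.Agent.Lib
open Cfsg.Agent.SignalizersComponents.IntrinsicBasic
open Cfsg.Agent.Intrinsic.Basic Cfsg.Agent.Intrinsic.Cen Cfsg.Agent.Intrinsic.Diag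
open Cfsg.Agent.McLLyComp.Act
open Cfsg.Agent.UGT.Triple Cfsg.Agent.UGT.TriBase Cfsg.Agent.UGT.Iface Cfsg.Agent.UGT.L2Inner
open scoped commutatorElement

namespace Cfsg.Agent.UGT.Q2

variable {G : Type*} [Group G]

theorem isInner_iff {K : Subgroup G} {g : G} (h : g ∈ normalizer (K : Set G)) :
    IsInner g K ↔ act K ⟨g, h⟩ ∈ (MulAut.conj : (↥K ⧸ oddCore ↥K) →* _).range := by
  constructor
  · rintro ⟨r, hr, hf⟩
    refine ⟨QuotientGroup.mk ⟨r, hr⟩, ?_⟩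
    rw [← act_of_mem hr]
    exact ((act_eq_iff h (le_normalizer hr)).mpr hf).symm
  · rintro ⟨y, hy⟩
    obtain ⟨⟨r, hr⟩, rfl⟩ := QuotientGroup.mk_surjective y
    refine ⟨r, hr, (act_eq_iff h (le_normalizer hr)).mp ?_⟩
    rw [← hy, ← act_of_mem hr]

theorem isInner_cj {K : Subgroup G} {g : G} (h : IsInner g K) (x : G) :
    IsInner (x * g * x⁻¹) (cj x K) := by
  obtain ⟨r, hr, hf⟩ := h
  refine ⟨x * r * x⁻¹, conj_mem_cj hr, ?_⟩
  have h1 : x * g * x⁻¹ * (x * r * x⁻¹)⁻¹ = x * (g * r⁻¹) * x⁻¹ := by group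
  rw [h1]
  exact hf.cj x

theorem isInner_mul {K : Subgroup G} {g h : G} (hg : IsInner g K) (hh : IsInner h K) :
    IsInner (g * h) K := by
  obtain ⟨r, hr, hf⟩ := hg
  obtain ⟨s, hs, hf'⟩ := hh
  refine ⟨r * s, mul_mem hr hs, ?_⟩
  have h1 : g * h * (r * s)⁻¹ = (g * r⁻¹) * (r * (h * s⁻¹) * r⁻¹) := by group
  rw [h1]
  exact fixes_mul hf (fixes_conj hf' (le_normalizer hr))

theorem isInner_of_fixes {K : Subgroup G} {g : G} (h : Fixes g K) : IsInner g K :=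
  ⟨1, K.one_mem, by rwa [inv_one, mul_one]⟩

theorem isInner_of_mem {K : Subgroup G} {g : G} (h : g ∈ K) : IsInner g K :=
  ⟨g, h, by rw [mul_inv_cancel]; exact fixes_one K⟩

theorem isInner_inv {K : Subgroup G} {g : G} (hg : IsInner g K) : IsInner g⁻¹ K := by
  obtain ⟨r, hr, hf⟩ := hg
  refine ⟨r⁻¹, inv_mem hr, ?_⟩
  have h1 : g⁻¹ * r⁻¹⁻¹ = r⁻¹ * (r * g⁻¹ * r * r⁻¹) * r⁻¹⁻¹ := by group
  rw [h1]
  refine fixes_conj ?_ (inv_mem (le_normalizer hr))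
  have h2 : r * g⁻¹ * r * r⁻¹ = (g * r⁻¹)⁻¹ := by group
  rw [h2]
  exact fixes_inv hf

theorem isInner_mul_right_iff {K : Subgroup G} {g h : G} (hh : IsInner h K) :
    IsInner (g * h) K ↔ IsInner g K := by
  constructor
  · intro h1
    have := isInner_mul h1 (isInner_inv hh)
    rwa [mul_inv_cancel_right] at this
  · exact fun h1 => isInner_mul h1 hh

/-- `g` acts on `K / O(K)` and `K' / O(K')` in the same way. -/
def Eqv (K K' : Subgroup G) (e : (↥K ⧸ oddCore ↥K) ≃* (↥K' ⧸ oddCore ↥K')) (g : G) : Prop :=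
  ∃ (h : g ∈ normalizer (K : Set G)) (h' : g ∈ normalizer (K' : Set G)),
    ∀ x, e (act K ⟨g, h⟩ x) = act K' ⟨g, h'⟩ (e x)

namespace Eqv

variable {K K' : Subgroup G} {e : (↥K ⧸ oddCore ↥K) ≃* (↥K' ⧸ oddCore ↥K')} {g : G}

theorem fixes_iff (h : Eqv K K' e g) : Fixes g K ↔ Fixes g K' := by
  obtain ⟨h1, h2, h3⟩ := h
  rw [← act_eq_one_iff h1, ← act_eq_one_iff h2]
  constructor
  · intro h4
    apply MulEquiv.ext
    intro y
    obtain ⟨x, rfl⟩ := e.surjective y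
    rw [← h3, h4]
    rfl
  · intro h4
    apply MulEquiv.ext
    intro y
    apply e.injective
    rw [h3, h4]
    rfl

theorem isInner_iff (h : Eqv K K' e g) : IsInner g K ↔ IsInner g K' := by
  obtain ⟨h1, h2, h3⟩ := h
  rw [Q2.isInner_iff h1, Q2.isInner_iff h2]
  constructor
  · rintro ⟨y, hy⟩
    refine ⟨e y, ?_⟩
    apply MulEquiv.ext
    intro x
    obtain ⟨x, rfl⟩ := e.surjective x
    rw [← h3, ← hy, MulAut.conj_apply, MulAut.conj_apply, map_mul, map_mul, map_inv]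
  · rintro ⟨y, hy⟩
    refine ⟨e.symm y, ?_⟩
    apply MulEquiv.ext
    intro x
    apply e.injective
    rw [h3, ← hy, MulAut.conj_apply, MulAut.conj_apply, map_mul, map_mul, map_inv, e.apply_symm_apply]

end Eqv

variable [Finite G]

omit [Finite G] in
theorem conj_diag {X K : Subgroup G} {a g : G} (hgX : g ∈ X) (hga : g * a = a * g)
    (hgK : g ∈ normalizer (K : Set G)) : g ∈ normalizer (diag X K a : Set G) := by
  rw [mem_normalizer_iff_cj, cj_diag, cj_eq_self_of_mem hgX, mem_normalizer_iff_cj.mp hgK, hga,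
    mul_inv_cancel_right]

/-- **the diagonal** -/
theorem exists_eqv_diag {X K : Subgroup G} {a : G} (hK : IsComp X K) (haX : a ∈ X) (ha : a * a = 1)
    (hne : cj a K ≠ K) (hcen : center (↥K ⧸ oddCore ↥K) = ⊥) :
    ∃ e : (↥K ⧸ oddCore ↥K) ≃* (↥(diag X K a) ⧸ oddCore ↥(diag X K a)),
      ∀ g ∈ X, g * a = a * g → g ∈ normalizer (K : Set G) → Eqv K (diag X K a) e g := by
  obtain ⟨-, -, h3, -, f, hfs, hker, hf, -⟩ := exists_diag hK haX ha hne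
  have hinj : Function.Injective f := by
    rw [← MonoidHom.ker_eq_bot_iff, eq_bot_iff, ← hcen]
    exact hker
  refine ⟨MulEquiv.ofBijective f ⟨hinj, hfs⟩, fun g hgX hga hgK => ⟨hgK, conj_diag hgX hga hgK, fun x => ?_⟩⟩
  obtain ⟨⟨k, hk⟩, rfl⟩ := QuotientGroup.mk_surjective x
  obtain ⟨m, hm, hmk⟩ := h3 k hk
  have hgm : g * m * g⁻¹ ∈ diag X K a := conj_mem (conj_diag hgX hga hgK) hm
  have hgk : g * k * g⁻¹ ∈ K := conj_mem hgK hk
  rw [act_mk hgK hk]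
  change f (QuotientGroup.mk' _ _) = act _ _ (f (QuotientGroup.mk' _ _))
  rw [hf ⟨k, hk⟩ ⟨m, hm⟩ hmk, hf ⟨g * k * g⁻¹, hgk⟩ ⟨g * m * g⁻¹, hgm⟩ ?_]
  · exact (act_mk (conj_diag hgX hga hgK) hm).symm
  · have h5 : a * (g * k * g⁻¹) * a⁻¹ = g * (a * k * a⁻¹) * g⁻¹ := by
      have h6 : g⁻¹ * a⁻¹ = a⁻¹ * g⁻¹ := by rw [← mul_inv_rev, ← mul_inv_rev, hga]
      calc a * (g * k * g⁻¹) * a⁻¹ = (a * g) * k * (g⁻¹ * a⁻¹) := by group
        _ = (g * a) * k * (a⁻¹ * g⁻¹) := by rw [h6, hga]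
        _ = _ := by group
    change (g * m * g⁻¹)⁻¹ * (g * k * g⁻¹ * (a * (g * k * g⁻¹) * a⁻¹)) ∈ core X
    rw [h5]
    have h7 : (g * m * g⁻¹)⁻¹ * (g * k * g⁻¹ * (g * (a * k * a⁻¹) * g⁻¹)) =
        g * (m⁻¹ * (k * (a * k * a⁻¹))) * g⁻¹ := by group
    rw [h7]
    exact conj_mem_core (le_normalizer hgX) hmk

/-- **the centralizer** -/
theorem exists_eqv_cen {X K : Subgroup G} {t : G} (hK : IsComp X K) (htX : t ∈ X) (htt : t * t = 1)
    (hf : Fixes t K) : ∃ e : (↥(cen K t) ⧸ oddCore ↥(cen K t)) ≃* (↥K ⧸ oddCore ↥K),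
      (∀ (j : G) (hj : j ∈ cen K t) (hjK : j ∈ K),
        e (QuotientGroup.mk ⟨j, hj⟩) = QuotientGroup.mk ⟨j, hjK⟩) ∧
      ∀ g : G, g * t = t * g → g ∈ normalizer (K : Set G) → Eqv (cen K t) K e g := by
  obtain ⟨e, he⟩ := exists_quotEquiv (isComp_cen hK htX htt hf).2
  refine ⟨e, he, fun g hgt hgK => ⟨mem_normalizer_cen hgK hgt, hgK, fun x => ?_⟩⟩
  obtain ⟨⟨k, hk⟩, rfl⟩ := QuotientGroup.mk_surjective x
  have hkK : k ∈ K := cen_le K t hk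
  rw [act_mk (mem_normalizer_cen hgK hgt) hk, he _ _ (conj_mem hgK hkK), he _ _ hkK, act_mk hgK hkK]

end Cfsg.Agent.UGT.Q2
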