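import Cfsg.Agent.GH.L2AutSyl
import Cfsg.Agent.GH.L2AutField

/-!
# THEOREM Q2 (#13005), (F): tori of `PSL(2,F)` and an involutory field automorphism

* `odd_cent`: an automorphism of odd order centralizing the centralizer of an involution is trivial.
* `torus_comm`: elements of odd order commuting with an involution commute.
* `torus_flip`: `γ = fa σ` fixes the lift of the involution `y` and negates the lift of the conjugate involution `y'`:
  if `γ` inverts the element `ρ` of odd order of the torus of `y`, it fixes the corresponding element of the torus of `y'`.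
-/

set_option autoImplicit false

namespace Cfsg.Agent.UGT.Q2.FAut

open Cfsg.Agent.GH.L2Aut Matrix Cfsg.Agent.Lib.SL2Mat

variable {F : Type*} [Field F] {L : Type*} [Group L]

local notation "SL2" => Matrix.SpecialLinearGroup (Fin 2) F
local notation "M2" => Matrix (Fin 2) (Fin 2) F

theorem fieldAut_lin (σ : F ≃+* F) {x Y : SL2} {a b : F} (h : x.1 = a • (1 : M2) + b • Y.1) :
    (fieldAut σ x).1 = σ a • (1 : M2) + σ b • (fieldAut σ Y).1 := by
  ext i j
  have h1 := congrFun (congrFun h i) j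
  have e1 : (fieldAut σ x).1 i j = σ (x.1 i j) := rfl
  have e2 : (fieldAut σ Y).1 i j = σ (Y.1 i j) := rfl
  rw [Matrix.add_apply, Matrix.smul_apply, Matrix.smul_apply, smul_eq_mul, smul_eq_mul] at h1
  rw [Matrix.add_apply, Matrix.smul_apply, Matrix.smul_apply, smul_eq_mul, smul_eq_mul, e1, e2, h1,
    map_add, map_mul, map_mul]
  congr 2
  rw [Matrix.one_apply]
  split_ifs <;> simp

theorem conjGL_lin (g : GL (Fin 2) F) {x Y : SL2} {a b : F} (h : x.1 = a • (1 : M2) + b • Y.1) :
    (conjGL g x).1 = a • (1 : M2) + b • (conjGL g Y).1 := by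
  rw [conjGL_val, conjGL_val, h, Matrix.mul_add, Matrix.add_mul, Matrix.mul_smul, Matrix.mul_smul, Matrix.smul_mul,
    Matrix.smul_mul, Matrix.mul_one]
  congr 2
  exact g.mul_inv

/-- comparison of coefficients -/
theorem coeff {Y : M2} (hY : ∀ c : F, Y ≠ c • (1 : M2)) {a b a' b' : F}
    (h : a • (1 : M2) + b • Y = a' • (1 : M2) + b' • Y) : a = a' ∧ b = b' := by
  have h1 : (b - b') • Y = (a' - a) • (1 : M2) := by
    rw [sub_smul, sub_smul, sub_eq_sub_iff_add_eq_add, add_comm (b • Y)]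
    exact h
  have hb : b = b' := by
    by_contra hne
    have h2 : b - b' ≠ 0 := sub_ne_zero.mpr hne
    apply hY ((b - b')⁻¹ * (a' - a))
    rw [mul_smul, ← h1, smul_smul, inv_mul_cancel₀ h2, one_smul]
  refine ⟨?_, hb⟩
  rw [hb] at h
  have h3 := add_right_cancel h
  have h4 := congrFun (congrFun h3 0) 0
  simpa using h4

/-- an element of the torus of `Y` -/
theorem exists_torus {Y : SL2} (hY : Y.1 * Y.1 = -1) {a b : F} (h : a ^ 2 + b ^ 2 = 1) :
    ∃ X : SL2, X.1 = a • (1 : M2) + b • Y.1 := by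
  refine ⟨⟨a • (1 : M2) + b • Y.1, ?_⟩, rfl⟩
  have h1 : Y.1 0 0 + Y.1 1 1 = 0 := by
    have := tr_zero_of_sq hY
    rwa [Matrix.trace_fin_two] at this
  have h2 : Y.1 0 0 * Y.1 1 1 - Y.1 0 1 * Y.1 1 0 = 1 := by
    have := Y.2
    rwa [Matrix.det_fin_two] at this
  rw [Matrix.det_fin_two]
  simp only [Matrix.add_apply, Matrix.smul_apply, smul_eq_mul, Matrix.one_apply_eq, mul_one,
    Matrix.one_apply_ne (show (0 : Fin 2) ≠ 1 by decide), Matrix.one_apply_ne (show (1 : Fin 2) ≠ 0 by decide),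
    mul_zero, zero_add]
  linear_combination (a * b) * h1 + b ^ 2 * h2 + h

theorem not_scalar_of_sq (h2 : (2 : F) ≠ 0) {Y : SL2} (hY : Y.1 * Y.1 = -1) (c : F) : Y.1 ≠ c • (1 : M2) := by
  intro h
  have h1 := tr_zero_of_sq hY
  rw [h, Matrix.trace_smul, Matrix.trace_one, Fintype.card_fin, smul_eq_mul] at h1
  have h3 : c = 0 := by
    rcases mul_eq_zero.mp h1 with h3 | h3
    · exact h3
    · exact absurd (by exact_mod_cast h3) h2
  rw [h3, zero_smul] at h
  rw [h, Matrix.mul_zero] at hY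
  have h4 := congrFun (congrFun hY 0) 0
  simp at h4

variable [Finite F] (R : GH.L2Aut.Rep F L)

omit [Finite F] in
theorem odd_pow_neg {τ : F ≃+* F} {n : ℕ} (hn : Odd n) (h : τ ^ n = 1) (h2 : (2 : F) ≠ 0) {a : F}
    (ha : τ a = -a) : a = 0 := by
  have h1 : ∀ k : ℕ, (τ ^ k) a = (-1) ^ k * a := by
    intro k
    induction k with
    | zero => rw [pow_zero, pow_zero, one_mul]; rfl
    | succ k ih =>
      rw [pow_succ' τ, RingAut.mul_apply, ih, map_mul, ha, map_pow, map_neg, map_one, pow_succ]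
      ring
  have h3 := h1 n
  rw [h, hn.neg_one_pow] at h3
  have h4 : a = -1 * a := h3
  have h5 : 2 * a = 0 := by linear_combination h4
  exact (mul_eq_zero.mp h5).resolve_left h2

omit [Finite F] in
/-- elements of odd order of the centralizer of the involution `π Y` lie in the torus of `Y` -/
theorem exists_ab_of_odd {Y : SL2} (hY : Y.1 * Y.1 = -1) {ρ : L} (ho : Odd (orderOf ρ))
    (hc : ρ * R.π Y = R.π Y * ρ) : ∃ (P : SL2) (a b : F), R.π P = ρ ∧ P.1 = a • (1 : M2) + b • Y.1 := by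
  obtain ⟨P, rfl⟩ := R.surj ρ
  have hns := not_scalar_of_sq R.two hY
  rw [← map_mul, ← map_mul, R.π_eq_iff] at hc
  rcases hc with h | h
  · have h1 : Y.1 * P.1 = P.1 * Y.1 := (congrArg Subtype.val h).symm
    obtain ⟨a, b, hab⟩ := exists_ab hns h1
    exact ⟨P, a, b, rfl, hab⟩
  · exfalso
    have h1 : P.1 * Y.1 = -(Y.1 * P.1) := congrArg Subtype.val h
    have h2 := tr_of_anticomm R.two (g := Matrix.SpecialLinearGroup.toGL Y) (h := Matrix.SpecialLinearGroup.toGL P) h1
    have h3 : P.1 * P.1 = -1 := by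
      have h4 := cayley P.1
      have h5 : P.1.trace = 0 := h2
      rw [h4, h5, zero_smul, P.2, one_smul, zero_sub]
    have h4 : R.π P * R.π P = 1 := by
      rw [← map_mul, R.ker]
      exact Or.inr (Subtype.ext h3)
    have h5 : orderOf (R.π P) ∣ 2 := orderOf_dvd_of_pow_eq_one (by rw [sq]; exact h4)
    have h6 : orderOf (R.π P) = 1 := by
      rcases (Nat.dvd_prime Nat.prime_two).mp h5 with h6 | h6
      · exact h6
      · rw [h6] at ho
        exact absurd ho (by decide)
    rw [orderOf_eq_one_iff, R.ker] at h6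
    have h7 : P.1 * Y.1 = Y.1 * P.1 := by
      rcases h6 with h6 | h6
      · rw [h6]
        change (1 : M2) * Y.1 = Y.1 * (1 : M2)
        rw [Matrix.one_mul, Matrix.mul_one]
      · rw [h6]
        change (-(1 : M2)) * Y.1 = Y.1 * (-(1 : M2))
        rw [Matrix.neg_mul, Matrix.mul_neg, Matrix.one_mul, Matrix.mul_one]
    rw [h7] at h1
    have h8 : (Y * P) = -(Y * P) := Subtype.ext h1
    have h9 : (-1 : SL2) = 1 := by
      rw [← neg_one_mul] at h8
      exact (mul_eq_right.mp h8.symm)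
    exact R.neg_one_ne_one h9

include R in
/-- elements of odd order commuting with an involution commute -/
theorem torus_comm {z : L} (hzz : z * z = 1) (hz1 : z ≠ 1) {ρ ρ' : L} (ho : Odd (orderOf ρ))
    (ho' : Odd (orderOf ρ')) (hc : ρ * z = z * ρ) (hc' : ρ' * z = z * ρ') : ρ * ρ' = ρ' * ρ := by
  obtain ⟨Y, rfl, hY⟩ := R.exists_inv_lift hzz hz1
  obtain ⟨P, a, b, rfl, hP⟩ := exists_ab_of_odd R hY ho hc
  obtain ⟨P', a', b', rfl, hP'⟩ := exists_ab_of_odd R hY ho' hc'
  rw [← map_mul, ← map_mul]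
  congr 1
  apply Subtype.ext
  change P.1 * P'.1 = P'.1 * P.1
  rw [hP, hP']
  simp only [Matrix.add_mul, Matrix.mul_add, Matrix.smul_mul, Matrix.mul_smul, Matrix.one_mul, Matrix.mul_one]
  module

/-- **the flip** -/
theorem torus_flip {σ : F ≃+* F} {Y Y' : SL2} (hY : Y.1 * Y.1 = -1)
    (hσY : fieldAut σ Y = Y) (hσY' : fieldAut σ Y' = -Y') {g ρ : L} (hg : g * R.π Y * g⁻¹ = R.π Y')
    (ho : Odd (orderOf ρ)) (hc : ρ * R.π Y = R.π Y * ρ) (hinv : R.fa σ ρ = ρ⁻¹) :
    R.fa σ (g * ρ * g⁻¹) = g * ρ * g⁻¹ := by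
  obtain ⟨P, a, b, rfl, hP⟩ := exists_ab_of_odd R hY ho hc
  obtain ⟨g, rfl⟩ := R.surj g
  have hns := not_scalar_of_sq R.two hY
  -- `σ a = ± a`, `σ b = ∓ b`
  have hPi : (P⁻¹).1 = a • (1 : M2) + (-b) • Y.1 := by
    have h1 : Y.1 0 0 + Y.1 1 1 = 0 := by
      have := tr_zero_of_sq hY
      rwa [Matrix.trace_fin_two] at this
    have e : ∀ i j, P.1 i j = a * (1 : M2) i j + b * Y.1 i j := by
      intro i j
      have h2 := congrFun (congrFun hP i) j
      rw [Matrix.add_apply, Matrix.smul_apply, Matrix.smul_apply, smul_eq_mul, smul_eq_mul] at h2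
      exact h2
    have h2 : (P⁻¹).1 = P.1.adjugate := rfl
    rw [h2, Matrix.adjugate_fin_two]
    apply mat_ext
    · change P.1 1 1 = (a • (1 : M2) + (-b) • Y.1) 0 0
      rw [e, Matrix.add_apply, Matrix.smul_apply, Matrix.smul_apply, smul_eq_mul, smul_eq_mul,
        Matrix.one_apply_eq, Matrix.one_apply_eq]
      linear_combination b * h1
    · change -P.1 0 1 = (a • (1 : M2) + (-b) • Y.1) 0 1
      rw [e, Matrix.add_apply, Matrix.smul_apply, Matrix.smul_apply, smul_eq_mul, smul_eq_mul,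
        Matrix.one_apply_ne (show (0 : Fin 2) ≠ 1 by decide)]
      ring
    · change -P.1 1 0 = (a • (1 : M2) + (-b) • Y.1) 1 0
      rw [e, Matrix.add_apply, Matrix.smul_apply, Matrix.smul_apply, smul_eq_mul, smul_eq_mul,
        Matrix.one_apply_ne (show (1 : Fin 2) ≠ 0 by decide)]
      ring
    · change P.1 0 0 = (a • (1 : M2) + (-b) • Y.1) 1 1
      rw [e, Matrix.add_apply, Matrix.smul_apply, Matrix.smul_apply, smul_eq_mul, smul_eq_mul,
        Matrix.one_apply_eq, Matrix.one_apply_eq]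
      linear_combination b * h1
  rw [R.fa_apply, ← map_inv, R.π_eq_iff] at hinv
  have hfP := fieldAut_lin σ hP
  rw [hσY] at hfP
  -- the conjugate
  have hgY : g * Y * g⁻¹ = Y' ∨ g * Y * g⁻¹ = -Y' := by
    rw [← map_mul, ← map_inv, ← map_mul, R.π_eq_iff] at hg
    exact hg
  have hgP : (g * P * g⁻¹).1 = a • (1 : M2) + b • (g * Y * g⁻¹).1 := by
    have h1 := conjGL_lin (Matrix.SpecialLinearGroup.toGL g) hP
    rw [conjGL_toGL, conjGL_toGL] at h1
    exact h1
  have hfgP := fieldAut_lin σ hgP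
  have hfgY : (fieldAut σ (g * Y * g⁻¹)) = -(g * Y * g⁻¹) := by
    rcases hgY with h | h
    · rw [h, hσY']
    · rw [h, neg_neg]
      have h1 : fieldAut σ (-Y') = -fieldAut σ Y' := R.aut_neg (fieldAut σ) Y'
      rw [h1, hσY', neg_neg]
  have hneg : ∀ X : SL2, (-X).1 = -X.1 := fun _ => rfl
  rw [hfgY, hneg] at hfgP
  rw [← map_mul, ← map_inv, ← map_mul, R.fa_apply, R.π_eq_iff]
  rcases hinv with h | h
  · left
    have h1 := congrArg Subtype.val h
    rw [hfP, hPi] at h1
    obtain ⟨e1, e2⟩ := coeff hns h1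
    apply Subtype.ext
    rw [hfgP, hgP, e1, e2, neg_smul_neg]
  · right
    have h1 := congrArg Subtype.val h
    rw [hfP, hneg, hPi, neg_add, ← neg_smul, ← neg_smul, neg_neg] at h1
    obtain ⟨e1, e2⟩ := coeff hns h1
    apply Subtype.ext
    rw [hneg, hfgP, hgP, e1, e2, neg_add, neg_smul, smul_neg]

include R in
theorem exists_four_of {z : L} (hzz : z * z = 1) (hz1 : z ≠ 1) : ∃ w, Four z w := by
  obtain ⟨a, b, hF⟩ := R.exists_four
  obtain ⟨g, hg⟩ := R.inv_conj hF.aa hF.a1 hzz hz1
  refine ⟨g * b * g⁻¹, ?_⟩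
  have h1 := hF.map (MulAut.conj g)
  rw [MulAut.conj_apply, MulAut.conj_apply, hg] at h1
  exact h1

include R in
/-- **an automorphism of odd order centralizing the centralizer of an involution is trivial** -/
theorem odd_cent {z : L} (hzz : z * z = 1) (hz1 : z ≠ 1) {δ : MulAut L} (ho : Odd (orderOf δ))
    (h : ∀ x, x * z = z * x → δ x = x) : δ = 1 := by
  obtain ⟨Y, rfl, hY⟩ := R.exists_inv_lift hzz hz1
  have hns := not_scalar_of_sq R.two hY
  obtain ⟨g, hg⟩ := R.exists_eq δ
  obtain ⟨τ, hτ⟩ : ∃ τ, τ = R.fld δ := ⟨_, rfl⟩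
  rw [← hτ] at hg
  have hδ1 : δ ^ orderOf δ = 1 := pow_orderOf_eq_one δ
  have hτ1 : τ ^ orderOf δ = 1 := by rw [hτ, ← map_pow, hδ1, map_one]
  -- `θ = g ∘ τ`
  have hθ : ∀ x : SL2, δ (R.π x) = R.π (conjGL g (fieldAut τ x)) := by
    intro x
    conv_lhs => rw [hg]
    rw [MulAut.mul_apply, R.fa_apply, R.gl_apply]
  have hlift : ∀ x : SL2, R.lift δ x = conjGL g (fieldAut τ x) := by
    intro x
    have h1 : R.lift δ = conjGL g * fieldAut τ := R.lift_eq fun x => by rw [hθ]; rfl
    rw [h1]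
    rfl
  have hθY : conjGL g (fieldAut τ Y) = Y := by
    have h1 := h (R.π Y) rfl
    rw [hθ, R.π_eq_iff] at h1
    rcases h1 with h1 | h1
    · exact h1
    · exfalso
      have h2 : ∀ k : ℕ, (R.lift δ ^ k) Y = if Even k then Y else -Y := by
        intro k
        induction k with
        | zero => rfl
        | succ k ih =>
          rw [pow_succ', MulAut.mul_apply, ih]
          by_cases hk : Even k
          · rw [if_pos hk, if_neg (by rw [Nat.not_even_iff_odd]; exact hk.add_one), hlift, h1]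
          · rw [if_neg hk, if_pos (by rw [Nat.even_add_one]; exact hk), R.aut_neg, hlift, h1, neg_neg]
      have h3 := h2 (orderOf δ)
      rw [if_neg (by rwa [Nat.not_even_iff_odd]), ← map_pow, hδ1, map_one, MulAut.one_apply] at h3
      have h4 : (-1 : SL2) = 1 := by
        have h5 : -1 * Y = Y := by rw [neg_one_mul]; exact h3.symm
        exact mul_eq_right.mp h5
      exact R.neg_one_ne_one h4
  -- `τ` fixes the coordinates of the torus
  have hab : ∀ a b : F, a ^ 2 + b ^ 2 = 1 → τ a = a ∧ τ b = b := by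
    intro a b hab
    obtain ⟨X, hX⟩ := exists_torus hY hab
    have h1 : R.π X * R.π Y = R.π Y * R.π X := by
      rw [← map_mul, ← map_mul]
      congr 1
      apply Subtype.ext
      change X.1 * Y.1 = Y.1 * X.1
      rw [hX, Matrix.add_mul, Matrix.mul_add, Matrix.smul_mul, Matrix.smul_mul, Matrix.mul_smul, Matrix.mul_smul,
        Matrix.one_mul, Matrix.mul_one]
    have h2 := h _ h1
    rw [hθ, R.π_eq_iff] at h2
    have h3 := conjGL_lin g (fieldAut_lin τ hX)
    rw [hθY] at h3
    rcases h2 with h2 | h2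
    · have h4 := congrArg Subtype.val h2
      rw [h3, hX] at h4
      exact coeff hns h4
    · exfalso
      have h4 := congrArg Subtype.val h2
      have hneg : (-X).1 = -X.1 := rfl
      rw [h3, hneg, hX, neg_add, ← neg_smul, ← neg_smul] at h4
      obtain ⟨e1, e2⟩ := coeff hns h4
      have e3 := odd_pow_neg ho hτ1 R.two e1
      have e4 := odd_pow_neg ho hτ1 R.two e2
      rw [e3, e4] at hab
      simp at hab
  have hτ0 : τ = 1 := by
    ext t
    change τ t = t
    by_cases ht : 1 + t ^ 2 = 0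
    · have h1 : (τ t - t) * (τ t + t) = 0 := by
        have h2 := congrArg τ ht
        rw [map_add, map_one, map_pow, map_zero] at h2
        linear_combination h2 - ht
      rcases mul_eq_zero.mp h1 with h2 | h2
      · exact sub_eq_zero.mp h2
      · exfalso
        have h3 := odd_pow_neg ho hτ1 R.two (a := t) (by linear_combination h2)
        rw [h3] at ht
        simp at ht
    · obtain ⟨e1, e2⟩ := hab ((1 - t ^ 2) / (1 + t ^ 2)) (2 * t / (1 + t ^ 2)) (by
        field_simp
        ring)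
      have h1 : t = (2 * t / (1 + t ^ 2)) / (1 + (1 - t ^ 2) / (1 + t ^ 2)) := by
        have h2 : 1 + (1 - t ^ 2) / (1 + t ^ 2) = 2 / (1 + t ^ 2) := by
          field_simp
          ring
        rw [h2]
        have := R.two
        field_simp
      have h3 := congrArg τ h1
      rw [map_div₀, map_add, map_one, e1, e2, ← h1] at h3
      exact h3
  have hPGL : δ ∈ R.PGL := by
    rw [R.mem_PGL_iff_fld, ← hτ, hτ0]
  obtain ⟨w, hF⟩ := exists_four_of R hzz hz1
  have hw : δ w = w := h w hF.comm.symm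
  have hz : δ (R.π Y) = R.π Y := h _ rfl
  have hsq : ∀ x : L, x * x = 1 → MulAut.conj x * MulAut.conj x = 1 := by
    intro x hx
    rw [← map_mul, hx, map_one]
  have h2 : δ * δ = 1 := by
    rcases R.fix_four hF hPGL hz hw with h1 | h1 | h1 | h1 <;> rw [h1]
    · exact one_mul 1
    · exact hsq _ hF.aa
    · exact hsq _ hF.bb
    · exact hsq _ hF.right.bb
  have h3 : orderOf δ ∣ 2 := orderOf_dvd_of_pow_eq_one (by rw [sq]; exact h2)
  rcases (Nat.dvd_prime Nat.prime_two).mp h3 with h4 | h4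
  · exact orderOf_eq_one_iff.mp h4
  · rw [h4] at ho
    exact absurd ho (by decide)

end Cfsg.Agent.UGT.Q2.FAut
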