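import Cfsg.Agent.UAlt.HeKill
import Cfsg.Agent.UAlt.PermThree

/-!
# UGT, inner `L₂(q)`, `|Q| = 2`: facts on involutions of `Sym(7)`

`S` a set of seven points, `σ ∈ sym S`, `σ² = 1 ≠ σ`, `P ≤ sym S` a perfect group `≠ 1` commuting with `σ`.

* `swap_of_perfect` : `σ = (i j)`, and `P` fixes `i` and `j`.
* `no_two` : if `ζ ∈ P` is an involution, no perfect group `≠ 1` commutes with `σ ζ`.
* `mod_swap`, `mod_no_two` : the same for a labelling of `K / O(K) ≅ A₇`.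
-/

set_option autoImplicit false

open Cfsg Equiv Equiv.Perm Subgroup
open Cfsg.Agent.UAlt
open Cfsg.Agent.Intrinsic.Basic
open scoped commutatorElement

namespace Cfsg.Agent.UGT.Q2.FactsA7

section perm

variable {α : Type*} [Fintype α] [DecidableEq α] {S : Finset α}

/-- an involution commuting with a perfect group is a transposition of two fixed points of the group -/
theorem swap_of_perfect (h7 : S.card = 7) {σ : Perm α} (hσS : σ ∈ sym S) (hσ : σ * σ = 1)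
    (hσ1 : σ ≠ 1) {P : Subgroup (Perm α)} (hPS : P ≤ sym S) (hc : ∀ p ∈ P, p * σ = σ * p)
    (hp : ⁅P, P⁆ = P) (hne : P ≠ ⊥) :
    ∃ i j, i ≠ j ∧ σ = swap i j ∧ ∀ p ∈ P, p i = i ∧ p j = j := by
  have h5 : 5 ≤ (fixIn S σ).card := by
    by_contra h4
    have hs := HeKill.isSolvable_cent hσS hσ (by omega) (by omega)
    have hle : P ≤ sym S ⊓ centralizer ({σ} : Set (Perm α)) :=
      le_inf hPS fun p hpP => mem_centralizer_singleton_iff.mpr (hc p hpP)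
    apply hne
    rw [eq_bot_iff]
    intro p hpP
    have h1 := Cfsg.Agent.Schreier.Tools.hom_eq_one hp (inclusion hle) ⟨p, hpP⟩
    exact mem_bot.mpr (congrArg Subtype.val h1)
  have hsupp : σ.support ⊆ S \ fixIn S σ := by
    intro x hx
    rw [Perm.mem_support] at hx
    rw [Finset.mem_sdiff, mem_fixIn]
    refine ⟨?_, fun h => hx h.2⟩
    by_contra hxS
    exact hx (hσS x hxS)
  have h6 : (S \ fixIn S σ).card ≤ 2 := by
    rw [Finset.card_sdiff_of_subset (fixIn_subset S σ)]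
    omega
  have h8 := Finset.card_le_card hsupp
  have h9 : σ.support.card ≠ 0 := by
    rw [Ne, Finset.card_eq_zero, Perm.support_eq_empty_iff]
    exact hσ1
  have h10 := PermPK.even_card_support hσ
  have h11 : σ.support.card = 2 := by
    obtain ⟨k, hk⟩ := h10
    omega
  obtain ⟨i, j, hij, hs⟩ := card_support_eq_two.1 h11
  have hσi : σ i = j := by rw [hs, swap_apply_left]
  have hσj : σ j = i := by rw [hs, swap_apply_right]
  have hmove : ∀ x, σ x ≠ x → x = i ∨ x = j := by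
    intro x hx
    by_contra hcon
    push Not at hcon
    exact hx (by rw [hs, swap_apply_of_ne_of_ne hcon.1 hcon.2])
  have key : ∀ p ∈ P, (p i = i ∧ p j = j) ∨ (p i = j ∧ p j = i) := by
    intro p hpP
    have h1 : ∀ x, σ (p x) = p (σ x) := fun x => (DFunLike.congr_fun (hc p hpP) x).symm
    have h2 := h1 i
    have h3 := h1 j
    rw [hσi] at h2
    rw [hσj] at h3
    have h4 : p i = i ∨ p i = j := hmove _ (by rw [h2]; exact fun h => hij (p.injective h).symm)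
    rcases h4 with h4 | h4
    · exact Or.inl ⟨h4, by rw [← h2, h4, hσi]⟩
    · exact Or.inr ⟨h4, by rw [← h2, h4, hσj]⟩
  let Z : Subgroup (Perm α) :=
    { carrier := {p | p i = i ∧ p j = j}
      one_mem' := ⟨rfl, rfl⟩
      mul_mem' := by
        rintro a b ⟨ha, ha'⟩ ⟨hb, hb'⟩
        exact ⟨by rw [Perm.mul_apply, hb, ha], by rw [Perm.mul_apply, hb', ha']⟩
      inv_mem' := by
        rintro a ⟨ha, ha'⟩
        exact ⟨by rw [Perm.inv_eq_iff_eq, ha], by rw [Perm.inv_eq_iff_eq, ha']⟩ }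
  have hZ : P ≤ Z := by
    rw [← hp, commutator_le]
    intro p hpP q hqP
    have hpi := key _ (inv_mem hpP)
    have hqi := key _ (inv_mem hqP)
    change ⁅p, q⁆ i = i ∧ ⁅p, q⁆ j = j
    have e : ∀ x, ⁅p, q⁆ x = p (q (p⁻¹ (q⁻¹ x))) := fun x => rfl
    rw [e, e]
    have cp : ∀ x, p (p⁻¹ x) = x := fun x => p.apply_symm_apply x
    have cq : ∀ x, q (q⁻¹ x) = x := fun x => q.apply_symm_apply x
    rcases hpi with ⟨h1, h2⟩ | ⟨h1, h2⟩ <;> rcases hqi with ⟨h3, h4⟩ | ⟨h3, h4⟩ <;>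
      (have a1 := cp i; have a2 := cp j; have a3 := cq i; have a4 := cq j
       rw [h1] at a1; rw [h2] at a2; rw [h3] at a3; rw [h4] at a4)
    · rw [h3, h4, h1, h2, a3, a4, a1, a2]; exact ⟨rfl, rfl⟩
    · rw [h3, h4, h1, h2, a3, a4, a1, a2]; exact ⟨rfl, rfl⟩
    · rw [h3, h4, h1, h2, a3, a4, a1, a2]; exact ⟨rfl, rfl⟩
    · rw [h3, h4, h1, h2, a3, a4, a1, a2]; exact ⟨rfl, rfl⟩
  exact ⟨i, j, hij, hs, hZ⟩

/-- not both `σ` and `σ ζ`, `ζ ∈ P`, commute with perfect groups -/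
theorem no_two (h7 : S.card = 7) {σ : Perm α} (hσS : σ ∈ sym S) (hσ : σ * σ = 1)
    (hσ1 : σ ≠ 1) {P : Subgroup (Perm α)} (hPS : P ≤ sym S) (hc : ∀ p ∈ P, p * σ = σ * p)
    (hp : ⁅P, P⁆ = P) {ζ : Perm α} (hζ : ζ ∈ P) (hζ1 : ζ ≠ 1) (hζζ : ζ * ζ = 1)
    {Q : Subgroup (Perm α)} (hQS : Q ≤ sym S) (hcQ : ∀ p ∈ Q, p * (σ * ζ) = σ * ζ * p)
    (hQ : ⁅Q, Q⁆ = Q) (hQne : Q ≠ ⊥) : False := by
  have hne : P ≠ ⊥ := fun h => hζ1 (mem_bot.mp (h ▸ hζ))
  obtain ⟨i, j, hij, hs, hfix⟩ := swap_of_perfect h7 hσS hσ hσ1 hPS hc hp hne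
  have hσi : σ i = j := by rw [hs, swap_apply_left]
  have hσj : σ j = i := by rw [hs, swap_apply_right]
  have h1 : σ * ζ ≠ 1 := by
    intro h
    have h2 := DFunLike.congr_fun h i
    rw [Perm.mul_apply, (hfix ζ hζ).1, hσi] at h2
    exact hij h2.symm
  have h2 : σ * ζ * (σ * ζ) = 1 := by
    calc σ * ζ * (σ * ζ) = σ * (ζ * σ) * ζ := by group
      _ = (σ * σ) * (ζ * ζ) := by rw [hc ζ hζ]; group
      _ = 1 := by rw [hσ, hζζ, one_mul]
  obtain ⟨k, l, hkl, hs', -⟩ := swap_of_perfect h7 (mul_mem hσS (hPS hζ)) h2 h1 hQS hcQ hQ hQne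
  have hi : (σ * ζ) i = j := by rw [Perm.mul_apply, (hfix ζ hζ).1, hσi]
  have hj : (σ * ζ) j = i := by rw [Perm.mul_apply, (hfix ζ hζ).2, hσj]
  have h3 : i = k ∨ i = l := by
    by_contra hcon
    push Not at hcon
    rw [hs', swap_apply_of_ne_of_ne hcon.1 hcon.2] at hi
    exact hij hi
  have h4 : σ * ζ = σ := by
    rcases h3 with rfl | rfl
    · rw [hs', swap_apply_left] at hi
      rw [hs', hs, hi]
    · rw [hs', swap_apply_right] at hi
      rw [hs', hs, hi, swap_comm]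
  exact hζ1 (by simpa using h4)

end perm

section mod

variable {G : Type*} [Group G] {α : Type*} [Fintype α] [DecidableEq α] {S : Finset α}
  {K : Subgroup G} (M : Mod K S)

/-- the labels of a perfect group form a perfect group -/
theorem exists_image {P : Subgroup G} (hP : P ≤ normalizer (K : Set G)) (hp : ⁅P, P⁆ = P) :
    ∃ P' : Subgroup (Perm α), (∀ σ, σ ∈ P' ↔ ∃ p ∈ P, M.φ p = σ) ∧ P' ≤ sym S ∧ ⁅P', P'⁆ = P' := by
  let f : ↥P →* Perm α := M.hom.comp (inclusion hP)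
  refine ⟨f.range, ?_, ?_, ?_⟩
  · intro σ
    constructor
    · rintro ⟨p, rfl⟩
      exact ⟨p, p.2, rfl⟩
    · rintro ⟨p, hpP, rfl⟩
      exact ⟨⟨p, hpP⟩, rfl⟩
  · rintro _ ⟨p, rfl⟩
    exact M.mem_sym _ (hP p.2)
  · rw [MonoidHom.range_eq_map, ← map_commutator, Cfsg.Agent.Schreier.Tools.top_perfect hp]

theorem mod_swap (h7 : S.card = 7) {a : G} (ha : a ∈ normalizer (K : Set G)) (haa : a * a = 1)
    (hfa : ¬ Fixes a K) {P : Subgroup G} (hP : P ≤ normalizer (K : Set G))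
    (hPa : ∀ p ∈ P, p * a = a * p) (hp : ⁅P, P⁆ = P) (hne : ∃ p ∈ P, ¬ Fixes p K) :
    ∃ i j, i ≠ j ∧ M.φ a = swap i j ∧ ∀ p ∈ P, M.φ p i = i ∧ M.φ p j = j := by
  obtain ⟨P', h1, h2, h3⟩ := exists_image M hP hp
  have h4 : P' ≠ ⊥ := by
    obtain ⟨p, hpP, hpf⟩ := hne
    intro h
    have h5 : M.φ p ∈ P' := (h1 _).2 ⟨p, hpP, rfl⟩
    rw [h, mem_bot, M.fixes_iff (hP hpP)] at h5
    exact hpf h5
  obtain ⟨i, j, hij, hs, hfix⟩ := swap_of_perfect h7 (M.mem_sym a ha) (M.sq ha haa)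
    (fun h => hfa ((M.fixes_iff ha).1 h)) h2 (by
      intro q hq
      obtain ⟨p, hpP, rfl⟩ := (h1 q).1 hq
      exact M.comm (hP hpP) ha (hPa p hpP)) h3 h4
  exact ⟨i, j, hij, hs, fun p hpP => hfix _ ((h1 _).2 ⟨p, hpP, rfl⟩)⟩

include M in
/-- `K / O(K) ≅ A₇`: not both `a` and `b = a z` commute with perfect groups which are not trivial on `K / O(K)`, if
the involution `z` lies in the first one. -/
theorem mod_no_two (h7 : S.card = 7) {a z : G} (ha : a ∈ normalizer (K : Set G)) (haa : a * a = 1)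
    (hfa : ¬ Fixes a K) {P : Subgroup G} (hP : P ≤ normalizer (K : Set G))
    (hPa : ∀ p ∈ P, p * a = a * p) (hp : ⁅P, P⁆ = P) (hz : z ∈ P) (hzz : z * z = 1)
    (hzf : ¬ Fixes z K) {Q : Subgroup G} (hQ : Q ≤ normalizer (K : Set G))
    (hQa : ∀ q ∈ Q, q * (a * z) = a * z * q) (hq : ⁅Q, Q⁆ = Q) (hne : ∃ q ∈ Q, ¬ Fixes q K) :
    False := by
  obtain ⟨P', h1, h2, h3⟩ := exists_image M hP hp
  obtain ⟨Q', k1, k2, k3⟩ := exists_image M hQ hq
  have k4 : Q' ≠ ⊥ := by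
    obtain ⟨p, hpP, hpf⟩ := hne
    intro h
    have h5 : M.φ p ∈ Q' := (k1 _).2 ⟨p, hpP, rfl⟩
    rw [h, mem_bot, M.fixes_iff (hQ hpP)] at h5
    exact hpf h5
  have hzN := hP hz
  refine no_two h7 (M.mem_sym a ha) (M.sq ha haa) (fun h => hfa ((M.fixes_iff ha).1 h)) h2 ?_ h3
    ((h1 (M.φ z)).2 ⟨z, hz, rfl⟩) (fun h => hzf ((M.fixes_iff hzN).1 h)) (M.sq hzN hzz) k2 ?_ k3 k4
  · intro q hq
    obtain ⟨p, hpP, rfl⟩ := (h1 q).1 hq
    exact M.comm (hP hpP) ha (hPa p hpP)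
  · intro q hq
    obtain ⟨p, hpQ, rfl⟩ := (k1 q).1 hq
    rw [← M.mul a z ha hzN]
    exact M.comm (hQ hpQ) (mul_mem ha hzN) (hQa p hpQ)

end mod

end Cfsg.Agent.UGT.Q2.FactsA7
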