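import Cfsg.Agent.UGT.Q2.End
import Cfsg.Agent.UGT.Q2.DD

/-!
# THEOREM Q2

`q2_false`: if all triples are of type `PSL(2,F)` or `A₇`, the 2-groups of `C(a)` acting trivially on `L / O(L)` have
order at most two for all inner triples `(x, a, L)` of type `PSL(2,q)`, and the sectional 2-rank is at least 5, then
there is no inner triple of type `PSL(2,q)`.
-/

set_option autoImplicit false

open Cfsg Subgroup
open Cfsg.Agent.UGT.Triple (IsTriple)
open Cfsg.Agent.UGT.Iface (IsInner)

universe u

namespace Cfsg.Agent.UGT.Q2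

variable {G : Type u} [Group G] [Finite G]

/-- **THEOREM Q2.** -/
theorem q2_false {q : ℕ} (W : World G) (hH : HQ G q) (hr : ¬ SectionalPRankLE 2 4 G) :
    ¬ ∃ (x a : G) (L : Subgroup G), IsTriple x a L ∧ L2q q L ∧ IsInner x L := by
  rintro ⟨x, a, L, h⟩
  exact no_inn badHyp (lineHyp W hH) W hH hr x a L h

end Cfsg.Agent.UGT.Q2
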