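import Cfsg.Agent.UGT.Q2.Main

/-!
# `|Q| = 2`: (G2) of #14144

`s ∈ N(T)`, `s a s⁻¹ = a z`: for some `y ∈ {f, f a}` both `y` and `y z` are of type (D).
-/

set_option autoImplicit false

open Cfsg Subgroup
open Cfsg.Agent.SignalizersComponents Cfsg.Agent.Lib
open Cfsg.Agent.SignalizersComponents.IntrinsicBasic
open Cfsg.Agent.Intrinsic.Basic Cfsg.Agent.Intrinsic.Cen Cfsg.Agent.Intrinsic.Diag
open Cfsg.Agent.McLLyComp.Act
open Cfsg.Agent.UGT.Triple Cfsg.Agent.UGT.TriBase Cfsg.Agent.UGT.Iface Cfsg.Agent.UGT.L2Inner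

namespace Cfsg.Agent.UGT.Q2.Glue

universe u

variable {G : Type u} [Group G]

/-! ### the dihedral group `D` -/

/-- the dihedral data, `D = ⟨r, c⟩`, `z = r ^ 2 ^ (N - 1)` -/
structure Dih (z r c : G) (N : ℕ) (D : Subgroup G) : Prop where
  rD : r ∈ D
  cD : c ∈ D
  two : 2 ≤ N
  ord : orderOf r = 2 ^ N
  hz : z = r ^ 2 ^ (N - 1)
  cc : c * c = 1
  inv : c * r * c⁻¹ = r⁻¹
  cases : ∀ d ∈ D, (∃ k : ℤ, d = r ^ k) ∨ ∃ k : ℤ, d = r ^ k * c

namespace Dih

variable {z r c : G} {N : ℕ} {D : Subgroup G}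

theorem crk (h : Dih z r c N D) (k : ℤ) : c * r ^ k = r ^ (-k) * c := by
  have h1 : c * r ^ k * c⁻¹ = r ^ (-k) := by
    rw [← conj_zpow, h.inv, inv_zpow, zpow_neg]
  calc c * r ^ k = c * r ^ k * c⁻¹ * c := by group
    _ = _ := by rw [h1]

theorem refl_sq (h : Dih z r c N D) (k : ℤ) : (r ^ k * c) * (r ^ k * c) = 1 := by
  calc r ^ k * c * (r ^ k * c) = r ^ k * (c * r ^ k) * c := by group
    _ = r ^ k * r ^ (-k) * (c * c) := by rw [h.crk]; group
    _ = 1 := by rw [h.cc, mul_one, ← zpow_add, add_neg_cancel, zpow_zero]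

theorem dvd_of_eq (h : Dih z r c N D) {i j : ℤ} (hij : r ^ i = r ^ j) : (2 : ℤ) ^ N ∣ i - j := by
  have h1 : r ^ (i - j) = 1 := by rw [zpow_sub, hij, mul_inv_cancel]
  have h2 := orderOf_dvd_iff_zpow_eq_one.mpr h1
  rw [h.ord] at h2
  exact_mod_cast h2

theorem eq_of_dvd (h : Dih z r c N D) {i : ℤ} (hi : (2 : ℤ) ^ N ∣ i) : r ^ i = 1 := by
  apply orderOf_dvd_iff_zpow_eq_one.mp
  rw [h.ord]
  exact_mod_cast hi

theorem hz' (h : Dih z r c N D) : z = r ^ ((2 : ℤ) ^ (N - 1)) := by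
  rw [h.hz, ← zpow_natCast]
  congr 1

theorem twoN (h : Dih z r c N D) : (2 : ℤ) ^ N = 2 * 2 ^ (N - 1) := by
  have := h.two
  obtain ⟨m, rfl⟩ : ∃ m, N = m + 1 := ⟨N - 1, by omega⟩
  rw [Nat.add_sub_cancel, pow_succ']

theorem zz (h : Dih z r c N D) : z * z = 1 := by
  rw [h.hz', ← zpow_add]
  apply h.eq_of_dvd
  rw [h.twoN]
  exact ⟨1, by ring⟩

theorem z1 (h : Dih z r c N D) : z ≠ 1 := by
  intro h1
  rw [h.hz', ← zpow_zero r] at h1
  have h2 := h.dvd_of_eq h1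
  rw [sub_zero, h.twoN] at h2
  have h3 := Int.le_of_dvd (by positivity) h2
  have h4 : (0 : ℤ) < 2 ^ (N - 1) := by positivity
  linarith

/-- involutions among the powers of `r` -/
theorem pow_inv (h : Dih z r c N D) {i : ℤ} (hi : r ^ i * r ^ i = 1) : r ^ i = 1 ∨ r ^ i = z := by
  rw [← zpow_add, ← zpow_zero r] at hi
  have h1 := h.dvd_of_eq hi
  rw [sub_zero, h.twoN, ← two_mul] at h1
  have h2 : (2 : ℤ) ^ (N - 1) ∣ i := Int.dvd_of_mul_dvd_mul_left (by norm_num) h1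
  obtain ⟨j, rfl⟩ := h2
  rcases Int.even_or_odd j with ⟨m, rfl⟩ | ⟨m, rfl⟩
  · left
    apply h.eq_of_dvd
    rw [h.twoN]
    exact ⟨m, by ring⟩
  · right
    have h3 : (2 : ℤ) ^ (N - 1) * (2 * m + 1) = 2 ^ N * m + 2 ^ (N - 1) := by
      rw [h.twoN]; ring
    rw [h3, zpow_add, h.eq_of_dvd (Dvd.intro _ rfl), one_mul, ← h.hz']

/-- an involution of `D` different from `z` is a reflection -/
theorem exists_refl (h : Dih z r c N D) {d : G} (hd : d ∈ D) (hdd : d * d = 1) (h1 : d ≠ 1)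
    (h2 : d ≠ z) : ∃ k : ℤ, d = r ^ k * c := by
  rcases h.cases d hd with ⟨k, rfl⟩ | h3
  · rcases h.pow_inv hdd with h4 | h4
    · exact absurd h4 h1
    · exact absurd h4 h2
  · exact h3

/-- a reflection is not a power of `r` -/
theorem refl_ne (h : Dih z r c N D) {k j : ℤ} (hk1 : r ^ k * c ≠ 1) (hkz : r ^ k * c ≠ z) :
    r ^ k * c ≠ r ^ j := by
  intro h1
  have h2 := h.refl_sq k
  rw [h1] at h2 hk1 hkz
  rcases h.pow_inv h2 with h3 | h3
  · exact hk1 h3
  · exact hkz h3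

end Dih

/-- the two classes of reflections, `M1 ∋ v`, `M2 ∋ u` -/
structure Two (z r c : G) (N : ℕ) (v u : G) (D M1 M2 : Subgroup G) : Prop extends Dih z r c N D where
  vD : v ∈ D
  uD : u ∈ D
  v1 : v ≠ 1
  vz : v ≠ z
  vv : v * v = 1
  u1 : u ≠ 1
  uz : u ≠ z
  uu : u * u = 1
  vM : v ∈ M1
  uM : u ∈ M2
  idx1 : ∀ x ∈ D, ∀ y ∈ D, x ∉ M1 → y ∉ M1 → x * y ∈ M1
  idx2 : ∀ x ∈ D, ∀ y ∈ D, x ∉ M2 → y ∉ M2 → x * y ∈ M2
  noi : ∀ d, d ∈ D → d ∈ M1 → d ∈ M2 → d * d = 1 → d = 1 ∨ d = z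

namespace Two

variable {z r c : G} {N : ℕ} {v u : G} {D M1 M2 : Subgroup G}

theorem symm (h : Two z r c N v u D M1 M2) : Two z r c N u v D M2 M1 :=
  { h.toDih with
    vD := h.uD, uD := h.vD, v1 := h.u1, vz := h.uz, vv := h.uu, u1 := h.v1, uz := h.vz, uu := h.vv
    vM := h.uM, uM := h.vM, idx1 := h.idx2, idx2 := h.idx1
    noi := fun d h1 h2 h3 h4 => h.noi d h1 h3 h2 h4 }

theorem u_not (h : Two z r c N v u D M1 M2) : u ∉ M1 := fun h1 => by
  rcases h.noi u h.uD h1 h.uM h.uu with h2 | h2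
  · exact h.u1 h2
  · exact h.uz h2

theorem r_not (h : Two z r c N v u D M1 M2) : r ∉ M1 := by
  intro hr
  obtain ⟨i, hi⟩ := h.exists_refl h.vD h.vv h.v1 h.vz
  have hc : c ∈ M1 := by
    have : c = r ^ (-i) * v := by rw [hi, ← mul_assoc, ← zpow_add, neg_add_cancel, zpow_zero, one_mul]
    rw [this]
    exact M1.mul_mem (M1.zpow_mem hr _) h.vM
  apply h.u_not
  rcases h.cases u h.uD with ⟨k, hk⟩ | ⟨k, hk⟩
  · rw [hk]; exact M1.zpow_mem hr _
  · rw [hk]; exact M1.mul_mem (M1.zpow_mem hr _) hc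

/-- every involution of `D` lies in `M1` or in `M2` -/
theorem mem_or (h : Two z r c N v u D M1 M2) {d : G} (hd : d ∈ D) (hdd : d * d = 1) (h1 : d ≠ 1)
    (h2 : d ≠ z) : d ∈ M1 ∨ d ∈ M2 := by
  by_contra hn
  rw [not_or] at hn
  have e1 := h.idx1 d hd r h.rD hn.1 h.r_not
  have e2 := h.idx2 d hd r h.rD hn.2 h.symm.r_not
  obtain ⟨k, hk⟩ := h.exists_refl hd hdd h1 h2
  have e3 : d * r = r ^ (k - 1) * c := by
    have h4 := h.crk 1
    rw [zpow_one] at h4
    rw [hk, mul_assoc, h4, ← mul_assoc, ← zpow_add]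
    rfl
  have e4 : (d * r) * (d * r) = 1 := by rw [e3]; exact h.refl_sq _
  rw [hk] at h1 h2
  rcases h.noi _ (D.mul_mem hd h.rD) e1 e2 e4 with h5 | h5
  · have h6 : d = r ^ (-1 : ℤ) := by rw [zpow_neg_one]; exact eq_inv_of_mul_eq_one_left h5
    rw [hk] at h6
    exact h.refl_ne h1 h2 h6
  · have h6 : d = r ^ ((2 : ℤ) ^ (N - 1) - 1) := by
      rw [zpow_sub_one, ← h.hz', ← h5]
      group
    rw [hk] at h6
    exact h.refl_ne h1 h2 h6

/-- powers of `r` in `M1` are even -/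
theorem even_of_mem (h : Two z r c N v u D M1 M2) {j : ℤ} (hj : r ^ j ∈ M1) : Even j := by
  rw [← Int.not_odd_iff_even]
  rintro ⟨m, rfl⟩
  apply h.r_not
  have h1 := h.idx1 r h.rD r h.rD h.r_not h.r_not
  have h2 : r = (r * r) ^ (-m) * r ^ (2 * m + 1) := by
    rw [← pow_two, ← zpow_natCast, ← zpow_mul, ← zpow_add]
    have : ((2 : ℕ) : ℤ) * -m + (2 * m + 1) = 1 := by push_cast; ring
    rw [this, zpow_one]
  rw [h2]
  exact M1.mul_mem (M1.zpow_mem h1 _) hj

theorem pow_eq_one (h : Two z r c N v u D M1 M2) {k : ℕ} (hk : (v * u) ^ (2 * k) = z) {x : G}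
    (hxD : x ∈ D) (hx : x ∈ M1) : x ^ (2 * k) = 1 := by
  have hvu : v * u ∉ M1 := fun h1 => h.u_not (by
    have : u = v⁻¹ * (v * u) := by group
    rw [this]
    exact M1.mul_mem (M1.inv_mem h.vM) h1)
  rcases h.cases _ (D.mul_mem h.vD h.uD) with ⟨i, hi⟩ | ⟨i, hi⟩
  · have hio : Odd i := by
      rw [← Int.not_even_iff_odd]
      rintro ⟨m, rfl⟩
      apply hvu
      rw [hi, zpow_add, ← mul_zpow' h]
      exact M1.zpow_mem (h.idx1 r h.rD r h.rD h.r_not h.r_not) _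
    rw [hi, ← zpow_natCast, ← zpow_mul, h.hz'] at hk
    have h1 := h.dvd_of_eq hk
    -- `2 ^ (N - 1) ∣ 2 k`
    have h2 : (2 : ℤ) ^ (N - 1) ∣ ((2 * k : ℕ) : ℤ) := by
      have h3 : (2 : ℤ) ^ (N - 1) ∣ i * ((2 * k : ℕ) : ℤ) := by
        have h4 : (2 : ℤ) ^ (N - 1) ∣ i * ((2 * k : ℕ) : ℤ) - 2 ^ (N - 1) :=
          (Dvd.intro_left 2 h.twoN.symm).trans h1
        have h5 := dvd_add h4 (dvd_refl _)
        rwa [sub_add_cancel] at h5
      have h4 : IsCoprime ((2 : ℤ) ^ (N - 1)) i := by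
        apply IsCoprime.pow_left
        rcases hio with ⟨m, rfl⟩
        exact ⟨-m, 1, by ring⟩
      exact h4.dvd_of_dvd_mul_left h3
    rcases h.cases x hxD with ⟨j, rfl⟩ | ⟨j, rfl⟩
    · obtain ⟨m, rfl⟩ := h.even_of_mem hx
      rw [← zpow_natCast, ← zpow_mul]
      apply h.eq_of_dvd
      rw [h.twoN, ← two_mul]
      obtain ⟨t, ht⟩ := h2
      rw [ht]
      exact ⟨m * t, by ring⟩
    · rw [pow_mul, pow_two, h.refl_sq, one_pow]
  · exfalso
    rw [hi, pow_mul, pow_two, h.refl_sq, one_pow] at hk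
    exact h.z1 hk.symm
where
  mul_zpow' (_h : Two z r c N v u D M1 M2) {m : ℤ} : (r * r) ^ m = r ^ m * r ^ m := by
    rw [(Commute.refl r).mul_zpow]

end Two

/-! ### the main step -/

section main

variable {a b z f v u : G} {L T Mf Me : Subgroup G} {F : Type} [Field F] [Finite F]
  {R : GH.L2Aut.Rep F (↥L ⧸ oddCore ↥L)}

/-- `Two` from the full frame -/
theorem exists_two (S : Full a b z f v u L T Mf Me R) :
    ∃ r c N, Two z r c N v u (T ⊓ L) Mf Me := by
  obtain ⟨r, c, N, h1, h2, h3, h4, h5, h6, h7, h8⟩ := S.ext.dih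
  exact ⟨r, c, N, { rD := h1, cD := h2, two := h3, ord := h4, hz := h5, cc := h6, inv := h7, cases := h8
                    vD := S.vT, uD := S.uT, v1 := S.v1, vz := S.vz, vv := S.vv, u1 := S.u1, uz := S.uz
                    uu := S.uu, vM := S.vf, uM := S.ue, idx1 := S.ext.idxf, idx2 := S.ext.idxe
                    noi := fun d hd h1 h2 h3 => S.ext.noi d h1 h2 h3 (S.zc d hd.1) }⟩

/-- the elements of `D` commute with `⟨a, z, f⟩` -/
theorem comm_UD (S : Full a b z f v u L T Mf Me R) {d w : G} (hd : d ∈ T ⊓ L)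
    (hw : w ∈ closure {a, z, f}) : d * w = w * d := by
  have h1 : closure {a, z, f} ≤ centralizer ({d} : Set G) := by
    rw [closure_le]
    rintro x (rfl | rfl | rfl)
    · exact mem_c (S.ta hd.1).symm
    · exact mem_c (S.zc d hd.1).symm
    · exact mem_c (S.fD d hd).symm
  exact (comm_c (h1 hw)).symm

theorem sq_U (S : Sit a b z f L T R) {w : G} (hw : w ∈ closure {a, z, f}) : w * w = 1 := by
  have haa := S.aa
  have hzz := S.zz
  have hff := S.ff
  have h8 := mem_closure_eight haa hzz hff S.za S.fa S.fz hw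
  have key : ∀ x y : G, x * x = 1 → y * y = 1 → x * y = y * x → (x * y) * (x * y) = 1 := by
    intro x y h1 h2 h3
    calc x * y * (x * y) = x * (y * x) * y := by group
      _ = (x * x) * (y * y) := by rw [← h3]; group
      _ = 1 := by rw [h1, h2, one_mul]
  have h1 := key a z haa hzz S.za.symm
  rcases h8 with (rfl | rfl | rfl | rfl) | (rfl | rfl | rfl | rfl)
  · exact one_mul _
  · exact haa
  · exact hzz
  · exact h1
  · exact hff
  · exact key f a hff haa S.fa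
  · exact key f z hff hzz S.fz
  · refine key f (a * z) hff h1 ?_
    rw [← mul_assoc, S.fa, mul_assoc, S.fz, mul_assoc]

theorem comm_UU (S : Sit a b z f L T R) {w w' : G} (hw : w ∈ closure {a, z, f})
    (hw' : w' ∈ closure {a, z, f}) : w * w' = w' * w := by
  have h1 := sq_U S hw
  have h2 := sq_U S hw'
  have h3 := sq_U S ((closure {a, z, f}).mul_mem hw hw')
  calc w * w' = w * w' * ((w' * w) * (w * w')) := by
        rw [show (w' * w) * (w * w') = w' * (w * w) * w' by group, h1, mul_one, h2, mul_one]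
    _ = (w * w') * (w' * w) * (w * w') := by group
    _ = w * (w' * w') * w * (w * w') := by group
    _ = w * w' := by rw [h2, mul_one, h1, one_mul]
    _ = (w * w') * (w * w') * (w' * w) := by
        rw [show (w * w') * (w * w') * (w' * w) = (w * w') * (w * (w' * w') * w) by group, h2, mul_one, h1,
          mul_one]
    _ = w' * w := by rw [h3, one_mul]

/-- `⟨a, z, f⟩ ∩ L = ⟨z⟩` -/
theorem mem_UL [Finite G] (S : Sit a b z f L T R) {x : G} (hx : x ∈ closure {a, z, f}) (hxL : x ∈ L) :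
    x = 1 ∨ x = z := by
  have hLa : Fixes a L := fixes_self' S.tr.comp.le
  have haL : a ∉ L := fun h => not_fixes_of_mem S.l2q.l2T h S.aa S.a1 hLa
  have hfL : ∀ m, (m = 1 ∨ m = a ∨ m = z ∨ m = a * z) → f * m ∉ L := by
    intro m hm h
    obtain ⟨h0, hf⟩ := S.ft
    apply hf
    -- `f ∈ L` or `f ∈ L a`
    have hin : ∃ r ∈ L, Fixes (f * r⁻¹) L := by
      have h1 : Fixes (1 : G) L := fixes_self' fun x _ => mem_c (by rw [one_mul, mul_one])
      have hai : a⁻¹ = a := inv_eq_of_mul_eq_one_left S.aa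
      rcases hm with rfl | rfl | rfl | rfl
      · exact ⟨f, by rwa [mul_one] at h, by rwa [mul_inv_cancel]⟩
      · refine ⟨f * m, h, ?_⟩
        have : f * (f * m)⁻¹ = m := by
          have h2 := S.fa
          rw [mul_inv_rev, hai, ← mul_assoc, h2, mul_assoc, mul_inv_cancel, mul_one]
        rw [this]
        exact hLa
      · refine ⟨f, ?_, by rwa [mul_inv_cancel]⟩
        have := L.mul_mem h (L.inv_mem S.zL)
        rwa [mul_inv_cancel_right] at this
      · have h3 : f * a ∈ L := by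
          have := L.mul_mem h (L.inv_mem S.zL)
          rwa [← mul_assoc, mul_inv_cancel_right] at this
        refine ⟨f * a, h3, ?_⟩
        have : f * (f * a)⁻¹ = a := by
          have h2 := S.fa
          rw [mul_inv_rev, hai, ← mul_assoc, h2, mul_assoc, mul_inv_cancel, mul_one]
        rw [this]
        exact hLa
    obtain ⟨r, hr, hfx⟩ := hin
    have h2 : act L ⟨f, h0⟩ = act L ⟨r, le_normalizer hr⟩ := by
      have h3 : (⟨f, h0⟩ : ↥(normalizer (L : Set G))) = ⟨f * r⁻¹, hfx.1⟩ * ⟨r, le_normalizer hr⟩ :=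
        Subtype.ext (by change f = f * r⁻¹ * r; group)
      rw [h3, map_mul, (act_eq_one_iff hfx.1).mpr hfx, one_mul]
    rw [h2, act_of_mem hr]
    exact R.mem_PGL_iff_fld.mp (R.conj_mem_PGL _)
  rcases mem_closure_eight S.aa S.zz S.ff S.za S.fa S.fz hx with (rfl | rfl | rfl | rfl) | (rfl | rfl | rfl | rfl)
  · exact Or.inl rfl
  · exact absurd hxL haL
  · exact Or.inr rfl
  · exfalso
    apply haL
    have := L.mul_mem hxL (L.inv_mem S.zL)
    rwa [mul_inv_cancel_right] at this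
  · exact absurd (by rwa [mul_one]) (hfL 1 (Or.inl rfl))
  · exact absurd hxL (hfL a (Or.inr (Or.inl rfl)))
  · exact absurd hxL (hfL z (Or.inr (Or.inr (Or.inl rfl))))
  · exact absurd hxL (hfL (a * z) (Or.inr (Or.inr (Or.inr rfl))))

/-- the input: #14144 (G0), (G1) (952's `exists_isD`) -/
def IsDHyp (G : Type u) [Group G] (q : ℕ) : Prop :=
  ∀ (a b z f v u : G) (L T Mf Me : Subgroup G) (F : Type) (_ : Field F) (_ : Finite F)
    (R : GH.L2Aut.Rep F (↥L ⧸ oddCore ↥L)), Full a b z f v u L T Mf Me R → Nat.card F = q →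
    ∀ (y : G) (M : Subgroup G), (y = f ∨ y = f * a ∨ y = f * z ∨ y = f * (a * z)) → IsMc L y M → z ∈ M →
    ∀ M' : Subgroup G, IsComp (centralizer ({a * z} : Set G) ⊓ centralizer ({y} : Set G)) M' → z ∈ M' →
      L2T M' → ∀ d w : G, d ∈ M → d * d = 1 → d ≠ 1 → d ≠ z → d * z = z * d → w ∈ closure {a, z, f} →
      d * w ∈ M' → ∃ K, IsD a y M K

theorem isMc_a (S : Sit a b z f L T R) {y : G} {M : Subgroup G} (h : IsMc L y M) : IsMc L (y * a) M := by
  unfold IsMc at h ⊢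
  have key : L ⊓ centralizer ({y * a} : Set G) = L ⊓ centralizer ({y} : Set G) := by
    ext x
    rw [mem_inf, mem_inf, mem_centralizer_singleton_iff, mem_centralizer_singleton_iff]
    refine and_congr_right fun hx => ?_
    have hxa : x * a = a * x := comm_c (S.tr.comp.le hx)
    constructor
    · intro h
      have h1 : x * y * a = y * x * a := by
        rw [mul_assoc, h, mul_assoc, ← hxa, ← mul_assoc]
      exact mul_right_cancel h1
    · intro h
      rw [← mul_assoc, h, mul_assoc, hxa, mul_assoc]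
  rwa [key]

/-- the 2-component `s M s⁻¹` of `C(az) ∩ C(s y' s⁻¹)` -/
theorem comp_conj [Finite G] (S : Sit a b z f L T R) {s y' : G} {M : Subgroup G}
    (hsa : s * a * s⁻¹ = a * z) (hM : IsMc L y' M) :
    IsComp (centralizer ({a * z} : Set G) ⊓ centralizer ({s * y' * s⁻¹} : Set G))
      (IntrinsicBasic.cj s M) := by
  have h1 := (PumpGen.isComp_of_inf S.tr.comp hM).cj s
  rwa [cj_inf, cj_centralizer, cj_centralizer, hsa] at h1

/-- conjugation by `s⁻¹` on `⟨a, z, f⟩` -/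
theorem conj_U (S : Full a b z f v u L T Mf Me R) {s : G} (hs : s ∈ normalizer (T : Set G)) {w : G}
    (hw : w ∈ closure {a, z, f}) : s * w * s⁻¹ ∈ closure {a, z, f} := by
  have h1 : closure {a, z, f} ≤ (closure {a, z, f}).comap (MulAut.conj s).toMonoidHom := by
    rw [closure_le]
    obtain ⟨e1, e2, e3⟩ := S.nrm s hs
    rintro x (rfl | rfl | rfl)
    · exact e3
    · have e4 : s * x * s⁻¹ ∈ Subgroup.closure {a, x, f} := by
        rw [e1]
        exact subset_closure (Or.inr (Or.inl rfl))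
      exact e4
    · exact e2
  exact h1 hw

/-- the conjugate of an involution of `D` -/
theorem exists_dw [Finite G] (S : Full a b z f v u L T Mf Me R) {s : G} (hs : s ∈ normalizer (T : Set G))
    {v' : G} (hv : v' ∈ T ⊓ L) (hvv : v' * v' = 1) (hv1 : v' ≠ 1) (hvz : v' ≠ z) :
    ∃ d ∈ T ⊓ L, ∃ w ∈ closure {a, z, f}, s * v' * s⁻¹ = d * w ∧ d * d = 1 ∧ d ≠ 1 ∧ d ≠ z := by
  have hs' := inv_mem hs
  have hfU : f ∈ closure {a, z, f} := subset_closure (Or.inr (Or.inr rfl))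
  have hzU : z ∈ closure {a, z, f} := subset_closure (Or.inr (Or.inl rfl))
  have h1 : s * v' * s⁻¹ ∈ T := (mem_normalizer_iff.mp hs v').mp hv.1
  have h2 : s * v' * s⁻¹ * (s * v' * s⁻¹) = 1 := by
    calc s * v' * s⁻¹ * (s * v' * s⁻¹) = s * (v' * v') * s⁻¹ := by group
      _ = 1 := by rw [hvv]; group
  have h3 : s * v' * s⁻¹ * f = f * (s * v' * s⁻¹) := by
    have h4 := comm_UD S hv (conj_U S hs' hfU)
    rw [inv_inv] at h4
    calc s * v' * s⁻¹ * f = s * (v' * (s⁻¹ * f * s)) * s⁻¹ := by group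
      _ = s * ((s⁻¹ * f * s) * v') * s⁻¹ := by rw [h4]
      _ = _ := by group
  obtain ⟨d, hd, w, hw, he⟩ := S.ext.spl _ h1 h2 h3
  have hdw := comm_UD S hd hw
  have hww := sq_U S.toSit hw
  have hdd : d * d = 1 := by
    rw [he] at h2
    calc d * d = d * d * (w * w) := by rw [hww, mul_one]
      _ = d * (d * w) * w := by group
      _ = d * (w * d) * w := by rw [hdw]
      _ = 1 := by rw [← h2]; group
  -- `s v' s⁻¹ ∉ U`
  have hU : s * v' * s⁻¹ ∉ closure {a, z, f} := by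
    intro h5
    have h6 := conj_U S hs' h5
    have h7 : s⁻¹ * (s * v' * s⁻¹) * s⁻¹⁻¹ = v' := by group
    rw [h7] at h6
    rcases mem_UL S.toSit h6 hv.2 with h8 | h8
    · exact hv1 h8
    · exact hvz h8
  refine ⟨d, hd, w, hw, he, hdd, ?_, ?_⟩
  · rintro rfl
    apply hU
    rw [he, one_mul]
    exact hw
  · rintro rfl
    apply hU
    rw [he]
    exact (closure {a, d, f}).mul_mem hzU hw

theorem or4l {p q r s : Prop} (h : p ∨ q) : p ∨ q ∨ r ∨ s :=
  h.elim Or.inl fun h => Or.inr (Or.inl h)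

theorem or4r {p q r s : Prop} (h : r ∨ s) : p ∨ q ∨ r ∨ s :=
  Or.inr (Or.inr h)

/-- **(G2)** -/
theorem glue [Finite G] {q : ℕ} (h : IsDHyp G q) : GlueHyp G q := by
  intro a b z f v u L T Mf Me F _ _ R S hq s hs hsa
  obtain ⟨r, c, N, E⟩ := exists_two S
  have hs' := inv_mem hs
  have haU : a ∈ closure {a, z, f} := subset_closure (Or.inl rfl)
  have hzU : z ∈ closure {a, z, f} := subset_closure (Or.inr (Or.inl rfl))
  have hfU : f ∈ closure {a, z, f} := subset_closure (Or.inr (Or.inr rfl))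
  obtain ⟨hsz, -, -⟩ := S.nrm s hs
  obtain ⟨hsz', -, -⟩ := S.nrm s⁻¹ hs'
  rw [inv_inv] at hsz'
  obtain ⟨d1, hd1, w1, hw1, e1, dd1, d11, d1z⟩ := exists_dw S hs S.vT S.vv S.v1 S.vz
  obtain ⟨d2, hd2, w2, hw2, e2, dd2, d21, d2z⟩ := exists_dw S hs S.uT S.uu S.u1 S.uz
  obtain ⟨k, hk⟩ := S.vu
  obtain ⟨q0, hq1, hq2, -⟩ := S.q0
  -- `(d1 d2) ^ (2 k) = z`
  have hpow : (d1 * d2) ^ (2 * k) = z := by
    have h1 : (s * v * s⁻¹) * (s * u * s⁻¹) = s * (v * u) * s⁻¹ := by group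
    have h2 : ((s * v * s⁻¹) * (s * u * s⁻¹)) ^ (2 * k) = z := by
      rw [h1, conj_pow, hk, hsz]
    have h3 : (d1 * w1) * (d2 * w2) = (d1 * d2) * (w1 * w2) := by
      calc d1 * w1 * (d2 * w2) = d1 * (w1 * d2) * w2 := by group
        _ = d1 * (d2 * w1) * w2 := by rw [comm_UD S hd2 hw1]
        _ = _ := by group
    have h4 : Commute (d1 * d2) (w1 * w2) :=
      comm_UD S ((T ⊓ L).mul_mem hd1 hd2) ((closure {a, z, f}).mul_mem hw1 hw2)
    have h5 : (w1 * w2) ^ (2 * k) = 1 := by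
      rw [pow_mul, pow_two, sq_U S.toSit ((closure {a, z, f}).mul_mem hw1 hw2), one_pow]
    rw [e1, e2, h3, h4.mul_pow, h5, mul_one] at h2
    exact h2
  have hnot1 : ¬ (d1 ∈ Mf ∧ d2 ∈ Mf) := fun ⟨h1, h2⟩ => S.z1 (by
    rw [← hpow]
    exact E.pow_eq_one hk ((T ⊓ L).mul_mem hd1 hd2) (Mf.mul_mem h1 h2))
  have hnot2 : ¬ (d1 ∈ Me ∧ d2 ∈ Me) := fun ⟨h1, h2⟩ => S.z1 (by
    have hk' : (u * v) ^ (2 * k) = z := by
      have h3 : u * v = (v * u)⁻¹ := by
        rw [mul_inv_rev, inv_eq_of_mul_eq_one_left S.uu, inv_eq_of_mul_eq_one_left S.vv]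
      rw [h3, inv_pow, hk]
      exact inv_eq_of_mul_eq_one_left S.zz
    rw [← hpow]
    exact E.symm.pow_eq_one hk' ((T ⊓ L).mul_mem hd1 hd2) (Me.mul_mem h1 h2))
  have hor1 := E.mem_or hd1 dd1 d11 d1z
  have hor2 := E.mem_or hd2 dd2 d21 d2z
  -- the elements `y' = s⁻¹ y s`
  have hsa' : s⁻¹ * a * s = a * z := by
    have h1 : s⁻¹ * (a * z) * s = a := by rw [← hsa]; group
    calc s⁻¹ * a * s = s⁻¹ * (a * z * z) * s := by rw [mul_assoc a z z, S.zz, mul_one]
      _ = (s⁻¹ * (a * z) * s) * (s⁻¹ * z * s) := by group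
      _ = a * z := by rw [h1, hsz']
  have hf8 : (s⁻¹ * f * s = f ∨ s⁻¹ * f * s = f * a) ∨ (s⁻¹ * f * s = f * z ∨ s⁻¹ * f * s = f * (a * z)) := by
    have h1 := conj_U S hs' hfU
    rw [inv_inv] at h1
    have hback : ∀ m, s⁻¹ * f * s = m → f = s * m * s⁻¹ := by
      rintro m rfl; group
    rcases mem_closure_eight S.aa S.zz S.ff S.za S.fa S.fz h1 with (h2 | h2 | h2 | h2) | (h2 | h2 | h2 | h2)
    · exfalso
      refine S.toSit.f_ne 1 (Or.inl rfl) ?_
      rw [hback _ h2]; group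
    · exfalso
      refine S.toSit.f_ne (a * z) (Or.inr (Or.inr (Or.inr rfl))) ?_
      rw [hback _ h2, hsa]
    · exfalso
      refine S.toSit.f_ne z (Or.inr (Or.inr (Or.inl rfl))) ?_
      rw [hback _ h2, hsz]
    · exfalso
      refine S.toSit.f_ne a (Or.inr (Or.inl rfl)) ?_
      rw [hback _ h2]
      calc s * (a * z) * s⁻¹ = (s * a * s⁻¹) * (s * z * s⁻¹) := by group
        _ = a := by rw [hsa, hsz, mul_assoc, S.zz, mul_one]
    · exact Or.inl (Or.inl h2)
    · exact Or.inl (Or.inr h2)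
    · exact Or.inr (Or.inl h2)
    · exact Or.inr (Or.inr h2)
  have hfz8 : ∀ y, s⁻¹ * (y * z) * s = (s⁻¹ * y * s) * z := by
    intro y
    calc s⁻¹ * (y * z) * s = (s⁻¹ * y * s) * (s⁻¹ * z * s) := by group
      _ = _ := by rw [hsz']
  have hfa8 : s⁻¹ * (f * a) * s = (s⁻¹ * f * s) * (a * z) := by
    calc s⁻¹ * (f * a) * s = (s⁻¹ * f * s) * (s⁻¹ * a * s) := by group
      _ = _ := by rw [hsa']
  have hzz := S.zz
  have haa := S.aa
  have hza := S.za
  have m1 : a * (a * z) = z := by rw [← mul_assoc, haa, one_mul]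
  have m2 : z * (a * z) = a := by rw [← mul_assoc, hza, mul_assoc, hzz, mul_one]
  have m3 : a * z * (a * z) = 1 := by rw [mul_assoc, m2, haa]
  -- the 2-components for `f⟨a⟩` and `f z⟨a⟩`
  have mcf : ∀ y, y = f ∨ y = f * a → IsMc L y Mf := by
    rintro y (rfl | rfl)
    · exact S.mf
    · exact isMc_a S.toSit S.mf
  have mce : ∀ y, y = f * z ∨ y = f * (a * z) → IsMc L y Me := by
    rintro y (rfl | rfl)
    · exact S.me
    · have h1 := isMc_a S.toSit S.me
      rwa [mul_assoc, hza] at h1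
  -- one application of (G1)
  have app : ∀ (y : G) (M M' : Subgroup G) (v' d w : G),
      (y = f ∨ y = f * a ∨ y = f * z ∨ y = f * (a * z)) → IsMc L y M → z ∈ M →
      IsMc L (s⁻¹ * y * s) M' → z ∈ M' → L2q q0 M' → v' ∈ M' → s * v' * s⁻¹ = d * w → d ∈ T ⊓ L →
      w ∈ closure {a, z, f} → d * d = 1 → d ≠ 1 → d ≠ z → d ∈ M → ∃ K, IsD a y M K := by
    intro y M M' v' d w hy hM hz hM' hz' hl hv' he hdD hw hdd hd1 hdz hdM
    have h1 := comp_conj S.toSit hsa hM'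
    have h2 : s * (s⁻¹ * y * s) * s⁻¹ = y := by group
    rw [h2] at h1
    refine h a b z f v u L T Mf Me F inferInstance inferInstance R S hq y M hy hM hz _ h1 ?_
      (hl.cj s).l2T d w hdM hdd hd1 hdz (S.zc d hdD.1) hw ?_
    · rw [← hsz]; exact conj_mem_cj hz'
    · rw [← he]; exact conj_mem_cj hv'
  -- the two lines
  have caseA : ∀ y, (y = f ∨ y = f * a) → (s⁻¹ * y * s = f ∨ s⁻¹ * y * s = f * a) →
      d1 ∈ Mf → d2 ∈ Me → (∃ I, IsD a y Mf I) ∧ ∃ J, IsD a (y * z) Me J := by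
    intro y hy hy' h1 h2
    constructor
    · exact app y Mf Mf v d1 w1 (or4l hy) (mcf y hy) S.zf (mcf _ hy') S.zf hq1 S.vf e1 hd1 hw1 dd1 d11
        d1z h1
    · have hyz : y * z = f * z ∨ y * z = f * (a * z) := by
        rcases hy with rfl | rfl
        · exact Or.inl rfl
        · exact Or.inr (mul_assoc _ _ _)
      have hyz' : s⁻¹ * (y * z) * s = f * z ∨ s⁻¹ * (y * z) * s = f * (a * z) := by
        rw [hfz8]
        rcases hy' with h3 | h3
        · rw [h3]; exact Or.inl rfl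
        · rw [h3, mul_assoc]; exact Or.inr rfl
      exact app (y * z) Me Me u d2 w2 (or4r hyz) (mce _ hyz) S.ze (mce _ hyz') S.ze hq2 S.ue e2 hd2 hw2
        dd2 d21 d2z h2
  have caseB : ∀ y, (y = f ∨ y = f * a) → (s⁻¹ * y * s = f * z ∨ s⁻¹ * y * s = f * (a * z)) →
      d1 ∈ Me → d2 ∈ Mf → (∃ I, IsD a y Mf I) ∧ ∃ J, IsD a (y * z) Me J := by
    intro y hy hy' h1 h2
    constructor
    · exact app y Mf Me u d2 w2 (or4l hy) (mcf y hy) S.zf (mce _ hy') S.ze hq2 S.ue e2 hd2 hw2 dd2 d21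
        d2z h2
    · have hyz : y * z = f * z ∨ y * z = f * (a * z) := by
        rcases hy with rfl | rfl
        · exact Or.inl rfl
        · exact Or.inr (mul_assoc _ _ _)
      have hyz' : s⁻¹ * (y * z) * s = f ∨ s⁻¹ * (y * z) * s = f * a := by
        rw [hfz8]
        rcases hy' with h3 | h3
        · rw [h3, mul_assoc, hzz, mul_one]; exact Or.inl rfl
        · rw [h3, mul_assoc, mul_assoc, hzz, mul_one]; exact Or.inr rfl
      exact app (y * z) Me Mf v d1 w1 (or4r hyz) (mce _ hyz) S.ze (mcf _ hyz') S.zf hq1 S.vf e1 hd1 hw1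
        dd1 d11 d1z h1
  have hfa9 : ∀ m, s⁻¹ * f * s = m → s⁻¹ * (f * a) * s = m * (a * z) := by
    rintro m rfl
    exact hfa8
  rcases hor1 with h1 | h1 <;> rcases hor2 with h2 | h2
  · exact absurd ⟨h1, h2⟩ hnot1
  · rcases hf8 with h3 | h3
    · exact ⟨f, Or.inl rfl, caseA f (Or.inl rfl) h3 h1 h2⟩
    · refine ⟨f * a, Or.inr rfl, caseA (f * a) (Or.inr rfl) ?_ h1 h2⟩
      rcases h3 with h3 | h3
      · right; rw [hfa9 _ h3, mul_assoc, m2]
      · left; rw [hfa9 _ h3, mul_assoc, m3, mul_one]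
  · rcases hf8 with h3 | h3
    · refine ⟨f * a, Or.inr rfl, caseB (f * a) (Or.inr rfl) ?_ h1 h2⟩
      rcases h3 with h3 | h3
      · right; rw [hfa9 _ h3]
      · left; rw [hfa9 _ h3, mul_assoc, m1]
    · exact ⟨f, Or.inl rfl, caseB f (Or.inl rfl) h3 h1 h2⟩
  · exact absurd ⟨h1, h2⟩ hnot2

end main

end Cfsg.Agent.UGT.Q2.Glue
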