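import Cfsg.Agent.UGT.Q2.Defs
import Cfsg.Agent.UGT.L2Inner.WBField

/-!
# THEOREM Q2: the 2-component of `C_L(c)`, `c` an involution of field type on `L / O(L)`

`φ = act L c`, `M₀` the group generated by the perfect subgroups fixed by `φ` (`PSL(2,E)`, `|E|² = |F|`).

* `McD L c M M₀`: `M` is a 2-component of `L ∩ C(c)` with image `M₀` in `L / O(L)`.
* `McD.exists_of`: existence, `McD.of_isMc`: every 2-component of `L ∩ C(c)` is of this form.
-/

set_option autoImplicit false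

open Cfsg Subgroup
open Cfsg.Agent.SignalizersComponents Cfsg.Agent.Lib
open Cfsg.Agent.SignalizersComponents.IntrinsicBasic
open Cfsg.Agent.SignalizersComponents.PLayerAut
open Cfsg.Agent.Intrinsic.Basic Cfsg.Agent.Intrinsic.Cen Cfsg.Agent.Intrinsic.Diag
open Cfsg.Agent.McLLyComp.Act
open Cfsg.Agent.UGT.Triple Cfsg.Agent.UGT.TriBase Cfsg.Agent.UGT.Iface Cfsg.Agent.UGT.L2Inner
open scoped commutatorElement

namespace Cfsg.Agent.UGT.Q2

variable {G : Type*} [Group G]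

/-- `M` is a 2-component of `L ∩ C(c)` with image `M₀` in `L / O(L)`. -/
structure McD (L : Subgroup G) (c : G) (M : Subgroup G) (M₀ : Subgroup (↥L ⧸ oddCore ↥L)) : Prop where
  mc : IsMc L c M
  mem : ∀ (m : G) (_ : m ∈ M) (hm : m ∈ L), (QuotientGroup.mk ⟨m, hm⟩ : ↥L ⧸ oddCore ↥L) ∈ M₀
  surj : ∀ y ∈ M₀, ∃ m ∈ M, ∃ hm : m ∈ L, (QuotientGroup.mk ⟨m, hm⟩ : ↥L ⧸ oddCore ↥L) = y
  core_eq : core M = M ⊓ core L

variable [Finite G]

omit [Finite G] in
theorem fix_of_comm {L : Subgroup G} {c : G} (hc : c ∈ normalizer (L : Set G)) {x : G} (hx : x ∈ L)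
    (h : x * c = c * x) :
    act L ⟨c, hc⟩ (QuotientGroup.mk ⟨x, hx⟩) = QuotientGroup.mk ⟨x, hx⟩ := by
  rw [act_mk hc hx]
  congr 1
  exact Subtype.ext (by change c * x * c⁻¹ = x; rw [← h, mul_inv_cancel_right])

omit [Finite G] in
/-- the image of `M` in `L / O(L)` -/
theorem map_perfect {L M : Subgroup G} (hML : M ≤ L) (hp : ⁅M, M⁆ = M) :
    ⁅(M.subgroupOf L).map (QuotientGroup.mk' (oddCore ↥L)), (M.subgroupOf L).map (QuotientGroup.mk' (oddCore ↥L))⁆ =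
      (M.subgroupOf L).map (QuotientGroup.mk' (oddCore ↥L)) := by
  rw [← Subgroup.map_commutator]
  congr 1
  apply Subgroup.map_injective L.subtype_injective
  rw [Subgroup.map_commutator, subgroupOf_map_subtype, inf_eq_left.mpr hML, hp]

/-- the 2-component of `C_L(c)` -/
theorem McD.exists_of {L : Subgroup G} {c : G} (hcc : c * c = 1) (hcL : c ∈ normalizer (L : Set G))
    {M₀ : Subgroup (↥L ⧸ oddCore ↥L)} {E : Type} [Field E] [Finite E] (RS : GH.L2Aut.Rep E M₀)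
    (h3 : 3 < Nat.card E) (hfix : ∀ m ∈ M₀, act L ⟨c, hcL⟩ m = m)
    (hnorm : ∀ y, act L ⟨c, hcL⟩ y = y → ∀ m ∈ M₀, y * m * y⁻¹ ∈ M₀) :
    ∃ M, McD L c M M₀ := by
  have hsim : IsSimpleGroup M₀ := Cfsg.Agent.OddHalf.D6.SubFix.isSimple RS h3
  have hqs : IsQuasisimple M₀ := Cfsg.Agent.OddHalf.D6.SubFix.isQuasisimple RS h3
  -- `J`, the preimage of `M₀` in `C_L(c)`
  let J : Subgroup G :=
    { carrier := {k | ∃ hk : k ∈ L, k * c = c * k ∧ (QuotientGroup.mk ⟨k, hk⟩ : ↥L ⧸ oddCore ↥L) ∈ M₀}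
      one_mem' := ⟨one_mem _, by rw [one_mul, mul_one], one_mem M₀⟩
      mul_mem' := by
        rintro a b ⟨ha, ha1, ha2⟩ ⟨hb, hb1, hb2⟩
        refine ⟨mul_mem ha hb, ?_, mul_mem ha2 hb2⟩
        rw [mul_assoc, hb1, ← mul_assoc, ha1, mul_assoc]
      inv_mem' := by
        rintro a ⟨ha, ha1, ha2⟩
        refine ⟨inv_mem ha, ?_, inv_mem ha2⟩
        rw [inv_mul_eq_iff_eq_mul, ← mul_assoc, ha1, mul_inv_cancel_right] }
  have hJL : J ≤ L := fun k hk => hk.1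
  have hJc : J ≤ centralizer ({c} : Set G) := by
    rintro k ⟨-, h, -⟩
    exact mem_c h
  have hlift : ∀ m ∈ M₀, ∃ (j : G) (hj : j ∈ J), (QuotientGroup.mk ⟨j, hJL hj⟩ :
      ↥L ⧸ oddCore ↥L) = m := by
    intro m hm
    obtain ⟨l, hl, hlv, h⟩ := WBTriple.exists_lift hcL hcc (y := m) (hfix m hm)
    exact ⟨l, ⟨hl, hlv, by rw [h]; exact hm⟩, h⟩
  have hnJ : L ⊓ centralizer ({c} : Set G) ≤ normalizer (J : Set G) := by
    refine le_normalizer_of fun a ha j hj => ?_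
    obtain ⟨hjK, hjv, hjM⟩ := hj
    have hav : a * c = c * a := comm_c ha.2
    refine ⟨mul_mem (mul_mem ha.1 hjK) (inv_mem ha.1), ?_, ?_⟩
    · have h1 : a⁻¹ * c = c * a⁻¹ := by
        rw [inv_mul_eq_iff_eq_mul, ← mul_assoc, hav, mul_inv_cancel_right]
      calc a * j * a⁻¹ * c = a * j * (a⁻¹ * c) := by group
        _ = a * (j * c) * a⁻¹ := by rw [h1]; group
        _ = (a * c) * j * a⁻¹ := by rw [hjv]; group
        _ = c * (a * j * a⁻¹) := by rw [hav]; group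
    · exact hnorm _ (fix_of_comm hcL ha.1 hav) _ hjM
  obtain ⟨I, hI⟩ : ∃ I, I = PComponents.pElem 2 J := ⟨_, rfl⟩
  have hIJ : I ≤ J := hI ▸ PComponents.pElem_le _
  have hIL : I ≤ L := hIJ.trans hJL
  have hnI : L ⊓ centralizer ({c} : Set G) ≤ normalizer (I : Set G) := by
    rw [hI]
    exact hnJ.trans (PComponents.normalizer_le_normalizer_pElem J)
  have hJnI : J ≤ normalizer (I : Set G) := (le_inf hJL hJc).trans hnI
  -- the map `I → M₀`
  let f : ↥I →* ↥M₀ :=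
    { toFun := fun i => ⟨QuotientGroup.mk ⟨i, hIL i.2⟩, (hIJ i.2).2.2⟩
      map_one' := rfl
      map_mul' := fun _ _ => rfl }
  have hfk : ∀ i : ↥I, f i = 1 ↔ (i : G) ∈ core L := by
    intro i
    rw [← mk_eq_one_iff (hIL i.2)]
    exact ⟨fun h => congrArg Subtype.val h, fun h => Subtype.ext h⟩
  have hfn : f.range.Normal := by
    constructor
    rintro _ ⟨i, rfl⟩ ⟨m, hm⟩
    obtain ⟨j, hj, hjm⟩ := hlift m hm
    refine ⟨⟨j * i * j⁻¹, conj_mem (hJnI hj) i.2⟩, ?_⟩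
    apply Subtype.ext
    change (QuotientGroup.mk (⟨j, hJL hj⟩ * ⟨i, hIL i.2⟩ * ⟨j, hJL hj⟩⁻¹) : ↥L ⧸ oddCore ↥L) = _
    rw [QuotientGroup.mk_mul, QuotientGroup.mk_mul, QuotientGroup.mk_inv, hjm]
    rfl
  have hfs : Function.Surjective f := by
    rw [← MonoidHom.range_eq_top]
    refine (hsim.eq_bot_or_eq_top_of_normal _ hfn).resolve_left fun hbot => ?_
    obtain ⟨a, b, hF⟩ := RS.exists_four
    obtain ⟨j, hj, hjm⟩ := hlift a a.2
    have h5 : j ^ 2 ^ 1 ∈ core L := by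
      rw [pow_one, pow_two, ← mk_eq_one_iff (mul_mem (hJL hj) (hJL hj))]
      have h6 : (QuotientGroup.mk (⟨j, hJL hj⟩ * ⟨j, hJL hj⟩) : ↥L ⧸ oddCore ↥L) = 1 := by
        rw [QuotientGroup.mk_mul, hjm]
        exact congrArg Subtype.val hF.aa
      exact h6
    obtain ⟨k, hk1, hk2⟩ := Intrinsic.Lifting.exists_two_part (odd_card_core L) h5
    have hkJ : j ^ k ∈ J := J.pow_mem hj k
    have hkI : j ^ k ∈ I := by
      rw [hI]
      exact PComponents.mem_pElem (n := 1) hkJ hk1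
    have h6 : f ⟨j ^ k, hkI⟩ = a := by
      apply Subtype.ext
      change (QuotientGroup.mk ⟨j ^ k, hJL hkJ⟩ : ↥L ⧸ oddCore ↥L) = a
      rw [← hjm]
      exact ((mk_eq_iff (hJL hj) (hJL hkJ)).mpr hk2).symm
    have h7 : f ⟨j ^ k, hkI⟩ ∈ f.range := ⟨_, rfl⟩
    rw [hbot, mem_bot, h6] at h7
    exact hF.a1 h7
  have hker : oddCore ↥I = f.ker := by
    have hker2 : (Nat.card f.ker).Coprime 2 := by
      rw [Nat.coprime_two_right]
      have h5 : f.ker.map I.subtype ≤ core L := by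
        rintro _ ⟨i, hi, rfl⟩
        exact (hfk i).mp hi
      have h6 := card_dvd_of_le h5
      rw [card_map_of_injective I.subtype_injective] at h6
      exact Odd.of_dvd_nat (odd_card_core L) h6
    apply le_antisymm
    · intro x hx
      have h4 : (oddCore ↥I).map f = ⊥ := by
        refine WBAut.odd_normal_eq_bot RS (Normal.map inferInstance f hfs) ?_
        rw [← Nat.coprime_two_right]
        exact Nat.Coprime.coprime_dvd_left (Subgroup.card_map_dvd _ f)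
          (Cores.pPrimeCore_coprime 2)
      have h5 : f x ∈ (oddCore ↥I).map f := ⟨x, hx, rfl⟩
      rw [h4, mem_bot] at h5
      exact h5
    · exact Cores.le_pPrimeCore inferInstance hker2
  let e : (↥I ⧸ oddCore ↥I) ≃* ↥M₀ :=
    (QuotientGroup.quotientMulEquivOfEq hker).trans (QuotientGroup.quotientKerEquivOfSurjective f hfs)
  have hcomp : IsComp (L ⊓ centralizer ({c} : Set G)) I := by
    rw [isComp_iff]
    refine ⟨le_inf hIL (hIJ.trans hJc), ?_, ?_, ?_⟩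
    · have : (I.subgroupOf (L ⊓ centralizer ({c} : Set G))).Normal :=
        normal_subgroupOf_of_le_normalizer hnI
      exact this.isSubnormal
    · have : Nontrivial (↥I ⧸ oddCore ↥I) := e.toEquiv.nontrivial
      exact QuasisimpleQuotient.isQuasisimple_of_surjective e.symm.toMonoidHom e.symm.surjective hqs
    · rw [hI]
      apply le_antisymm (PComponents.pElem_le _)
      refine (Subgroup.closure_le _).mpr ?_
      rintro y ⟨hy, n, hn⟩
      exact PComponents.mem_pElem (n := n) (PComponents.mem_pElem (n := n) hy hn) hn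
  refine ⟨I, hcomp, fun m hm _ => (hIJ hm).2.2, fun y hy => ?_, ?_⟩
  · obtain ⟨⟨i, hi⟩, him⟩ := hfs ⟨y, hy⟩
    exact ⟨i, hi, hIL hi, congrArg Subtype.val him⟩
  · ext x
    constructor
    · rintro ⟨i, hi, rfl⟩
      have hi' : i ∈ oddCore ↥I := hi
      rw [hker] at hi'
      exact ⟨i.2, (hfk i).mp hi'⟩
    · rintro ⟨hx, hxc⟩
      rw [mem_core_iff hx, hker]
      exact (hfk ⟨x, hx⟩).mpr hxc

/-- every 2-component of `C_L(c)` is of this form -/
theorem McD.of_isMc {L : Subgroup G} {c : G} (hcL : c ∈ normalizer (L : Set G))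
    {M₀ : Subgroup (↥L ⧸ oddCore ↥L)} {E : Type} [Field E] [Finite E] (RS : GH.L2Aut.Rep E M₀)
    (hmax : ∀ P : Subgroup (↥L ⧸ oddCore ↥L), ⁅P, P⁆ = P → (∀ x ∈ P, act L ⟨c, hcL⟩ x = x) → P ≤ M₀)
    {I : Subgroup G} (hI : McD L c I M₀) {M : Subgroup G} (hM : IsMc L c M) : M = I := by
  by_contra hne
  have hML : M ≤ L := hM.le.trans inf_le_left
  have h1 : (M.subgroupOf L).map (QuotientGroup.mk' (oddCore ↥L)) ≤ M₀ := by
    refine hmax _ (map_perfect hML hM.perfect) ?_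
    rintro _ ⟨x, hx, rfl⟩
    exact fix_of_comm hcL x.2 (comm_c (hM.le hx).2)
  refine hM.not_odd (odd_card_core L) fun m hm => ?_
  rw [← mk_eq_one_iff (hML hm)]
  have h2 : (QuotientGroup.mk ⟨m, hML hm⟩ : ↥L ⧸ oddCore ↥L) ∈ M₀ := h1 ⟨⟨m, hML hm⟩, hm, rfl⟩
  have h3 : (⟨_, h2⟩ : M₀) ∈ center M₀ := by
    rw [mem_center_iff]
    rintro ⟨y, hy⟩
    apply Subtype.ext
    obtain ⟨i, hi, hiL, rfl⟩ := hI.surj y hy
    have h4 : ⁅i, m⁆ ∈ core L := by
      have h5 := (hI.mc.comm_le_core hM (Ne.symm hne)) (commutator_mem_commutator hi hm)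
      have h6 := h5.1
      rw [hI.core_eq] at h6
      exact h6.2
    change (QuotientGroup.mk (⟨i, hiL⟩ * ⟨m, hML hm⟩) : ↥L ⧸ oddCore ↥L) = QuotientGroup.mk (⟨m, hML hm⟩ * ⟨i, hiL⟩)
    symm
    have h7 := (mk_eq_iff (K := L) (mul_mem (hML hm) hiL) (mul_mem hiL (hML hm))).mpr (by
      have h8 : (m * i)⁻¹ * (i * m) = (i⁻¹ * m⁻¹) * ⁅i, m⁆ * (i⁻¹ * m⁻¹)⁻¹ := by
        rw [commutatorElement_def]; group
      rw [h8]
      exact conj_mem_core (le_normalizer (mul_mem (inv_mem hiL) (inv_mem (hML hm)))) h4)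
    exact h7
  rw [RS.center_eq_bot, mem_bot] at h3
  exact congrArg Subtype.val h3

namespace McD

variable {L : Subgroup G} {c : G} {M : Subgroup G} {M₀ : Subgroup (↥L ⧸ oddCore ↥L)}

omit [Finite G] in
theorem le (h : McD L c M M₀) : M ≤ L := fun _ hm => (h.mc.le hm).1

omit [Finite G] in
theorem comm (h : McD L c M M₀) {m : G} (hm : m ∈ M) : m * c = c * m := comm_c (h.mc.le hm).2

omit [Finite G] in
/-- `M / O(M) ≅ M₀` -/
theorem exists_equiv (h : McD L c M M₀) : ∃ e : (↥M ⧸ oddCore ↥M) ≃* ↥M₀,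
    ∀ (m : G) (hm : m ∈ M) (hmL : m ∈ L), ((e (QuotientGroup.mk ⟨m, hm⟩) : M₀) : ↥L ⧸ oddCore ↥L) =
      QuotientGroup.mk ⟨m, hmL⟩ := by
  let f : ↥M →* ↥M₀ :=
    { toFun := fun i => ⟨QuotientGroup.mk ⟨i, h.le i.2⟩, h.mem i i.2 _⟩
      map_one' := rfl
      map_mul' := fun _ _ => rfl }
  have hfk : ∀ i : ↥M, f i = 1 ↔ (i : G) ∈ core L := by
    intro i
    rw [← mk_eq_one_iff (h.le i.2)]
    exact ⟨fun h => congrArg Subtype.val h, fun h => Subtype.ext h⟩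
  have hfs : Function.Surjective f := by
    rintro ⟨y, hy⟩
    obtain ⟨m, hm, hmL, h1⟩ := h.surj y hy
    exact ⟨⟨m, hm⟩, Subtype.ext h1⟩
  have hker : oddCore ↥M = f.ker := by
    ext ⟨x, hx⟩
    rw [← mem_core_iff hx, h.core_eq]
    exact ⟨fun h1 => (hfk ⟨x, hx⟩).mpr h1.2, fun h1 => ⟨hx, (hfk ⟨x, hx⟩).mp h1⟩⟩
  exact ⟨(QuotientGroup.quotientMulEquivOfEq hker).trans (QuotientGroup.quotientKerEquivOfSurjective f hfs),
    fun m hm hmL => rfl⟩

/-- 2-elements of `C_L(c)` with image in `M₀` lie in `M` -/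
theorem mem_of_two (h : McD L c M M₀) {x : G} (hx : x ∈ L) (hxc : x * c = c * x) {n : ℕ}
    (hn : x ^ 2 ^ n = 1) (h0 : (QuotientGroup.mk ⟨x, hx⟩ : ↥L ⧸ oddCore ↥L) ∈ M₀) : x ∈ M := by
  obtain ⟨m, hm, hmL, h1⟩ := h.surj _ h0
  rw [mk_eq_iff hmL hx] at h1
  refine h.mc.mem_of_two hm ?_ hn
  -- `C ∩ O(L)` is odd and normal in `C`
  have h2 : core L ⊓ centralizer ({c} : Set G) ≤ core (L ⊓ centralizer ({c} : Set G)) := by
    refine le_core (inf_le_inf_right _ (core_le L)) ?_ ?_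
    · refine le_normalizer_of fun a ha j hj => ⟨conj_mem_core (le_normalizer ha.1) hj.1, ?_⟩
      exact Subgroup.mul_mem _ (Subgroup.mul_mem _ ha.2 hj.2) (Subgroup.inv_mem _ ha.2)
    · exact Odd.of_dvd_nat (odd_card_core L) (card_dvd_of_le inf_le_left)
  exact h2 ⟨h1, Subgroup.mul_mem _ (Subgroup.inv_mem _ (h.mc.le hm).2) (mem_c hxc)⟩

end McD

end Cfsg.Agent.UGT.Q2
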