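import Cfsg.Agent.GH.L2QTwo.Inst
import Cfsg.Agent.McLLyComp.Act

/-!
# N5, `|Q| = 2`: `Rep F (L / O(L))` and `Rep F (STop L)`

* `Rep.top` : the representation of `K / Z(K)`;
* `top_fld`, `top_o1` : the parts of the outer automorphism are the same;
* `actBar_eq` : `GH.L2Frame.actBar = McLLyComp.Act.act`;
* `p1 R`, `p2 R` : the two parts of the outer automorphism of `L / O(L)` induced by an element of `G`
  (trivial for elements not normalising `L`).
-/

set_option autoImplicit false

open Cfsg Subgroup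
open Cfsg.Agent.SignalizersComponents
open Cfsg.Agent.Intrinsic.Basic Cfsg.Agent.GH.Defs Cfsg.Agent.GH.Comp
open Cfsg.Agent.ThreePrime.AutQuot

namespace Cfsg.Agent.GH.L2Aut.Rep

variable {F : Type*} [Field F] [Finite F] {L : Type*} [Group L] (R : Rep F L)

/-- `PSL(2,F)` modulo its trivial centre -/
noncomputable def top : Rep F (L ⧸ center L) where
  π := (QuotientGroup.mk' (center L)).comp R.π
  surj := (QuotientGroup.mk'_surjective _).comp R.surj
  ker := by
    intro x
    rw [MonoidHom.comp_apply, QuotientGroup.mk'_apply, QuotientGroup.eq_one_iff, R.center_eq_bot, mem_bot,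
      R.ker]
  two := R.two

theorem top_lift (α : MulAut L) : R.top.lift (autQuot L α) = R.lift α := R.top.lift_eq fun x => by
  change autQuot L α (QuotientGroup.mk (R.π x)) = QuotientGroup.mk (R.π (R.lift α x))
  rw [autQuot_mk, R.lift_apply]

theorem top_fld (α : MulAut L) : R.top.fld (autQuot L α) = R.fld α := by
  change Cfsg.Agent.Classification.QDW.TypeHom.typ (R.top.lift _) =
    Cfsg.Agent.Classification.QDW.TypeHom.typ (R.lift α)
  rw [top_lift]

theorem top_o1 (α : MulAut L) : R.top.o1 (autQuot L α) = R.o1 α := by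
  obtain ⟨g, hg⟩ := R.exists_eq α
  have h1 : autQuot L α = R.top.gl g * R.top.fa (R.fld α) := by
    apply R.top.lift_injective
    rw [top_lift, map_mul, R.top.lift_gl, R.top.lift_fa]
    conv_lhs => rw [hg]
    rw [map_mul, R.lift_gl, R.lift_fa]
  rw [R.top.o1_eq h1, R.o1_eq hg]

end Cfsg.Agent.GH.L2Aut.Rep

namespace Cfsg.Agent.UGT.Q2

open Cfsg.Agent.McLLyComp

variable {G : Type*} [Group G]

theorem actBar_eq (K : Subgroup G) (a : normalizer (K : Set G)) :
    GH.L2Frame.actBar K a = Act.act K a := by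
  ext x
  obtain ⟨⟨k, hk⟩, rfl⟩ := QuotientGroup.mk_surjective x
  rfl

theorem act_eq (K : Subgroup G) (a : normalizer (K : Set G)) :
    GH.L2Frame.act K a = autQuot (Bar K) (Act.act K a) := by
  rw [← actBar_eq]; rfl

variable {F : Type*} [Field F] [Finite F] {L : Subgroup G} (R : GH.L2Aut.Rep F (↥L ⧸ oddCore ↥L))

open Classical in
/-- the `PGL`-part -/
noncomputable def p1 (g : G) : ℤˣ :=
  if h : g ∈ normalizer (L : Set G) then R.o1 (Act.act L ⟨g, h⟩) else 1

open Classical in
/-- the field part -/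
noncomputable def p2 (g : G) : F ≃+* F :=
  if h : g ∈ normalizer (L : Set G) then R.fld (Act.act L ⟨g, h⟩) else 1

theorem p1_of {g : G} (h : g ∈ normalizer (L : Set G)) : p1 R g = R.o1 (Act.act L ⟨g, h⟩) := dif_pos h

theorem p2_of {g : G} (h : g ∈ normalizer (L : Set G)) : p2 R g = R.fld (Act.act L ⟨g, h⟩) := dif_pos h

theorem outFun_o1 : GH.L2One.outFun L R.top.o1 = p1 R := by
  funext g
  by_cases h : g ∈ normalizer (L : Set G)
  · rw [GH.L2One.outFun_of_mem _ h, p1_of R h, act_eq, R.top_o1]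
  · rw [p1, dif_neg h, GH.L2One.outFun, dif_neg h]

theorem outFun_fld : GH.L2One.outFun L R.top.fld = p2 R := by
  funext g
  by_cases h : g ∈ normalizer (L : Set G)
  · rw [GH.L2One.outFun_of_mem _ h, p2_of R h, act_eq, R.top_fld]
  · rw [p2, dif_neg h, GH.L2One.outFun, dif_neg h]

end Cfsg.Agent.UGT.Q2
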