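import Cfsg.Agent.UGT.Q2.Split

/-!
# THEOREM Q2 (#13005): the diagonal pump-up

General lemmas on `diag X K a`, and `Side a z f I M`: `I` a 2-component of `C(f)` moved by the involution `a`,
`M = diag C(f) I a` contains the involution `z`, `M / O(M) ≅ PSL(2,F)`, `Z(I / O(I)) = 1`.
-/

set_option autoImplicit false

open Cfsg Subgroup
open Cfsg.Agent.SignalizersComponents Cfsg.Agent.Lib
open Cfsg.Agent.SignalizersComponents.IntrinsicBasic
open Cfsg.Agent.Intrinsic.Basic Cfsg.Agent.Intrinsic.Cen Cfsg.Agent.Intrinsic.Diag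
open Cfsg.Agent.McLLyComp.Act
open Cfsg.Agent.UGT.Triple Cfsg.Agent.UGT.TriBase Cfsg.Agent.UGT.Iface Cfsg.Agent.UGT.L2Inner
open scoped commutatorElement

namespace Cfsg.Agent.UGT.Q2

variable {G : Type*} [Group G]

theorem comm_of_mem_diag {X K : Subgroup G} {a m : G} (h : m ∈ diag X K a) : m * a = a * m := by
  have h1 : diag X K a ≤ centralizer ({a} : Set G) := by
    refine (closure_le _).mpr ?_
    rintro x ⟨-, hx, -⟩
    exact mem_c hx
  exact comm_c (h1 h)

theorem diag_le {X K : Subgroup G} {a : G} : diag X K a ≤ X := by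
  refine (closure_le _).mpr ?_
  rintro x ⟨hx, -⟩
  exact hx

theorem diag_swap {X K : Subgroup G} {a : G} (haX : a ∈ X) : diag X (cj a K) a = diag X K a := by
  have h1 := cj_diag a X K a
  rw [cj_eq_self_of_mem haX, mul_inv_cancel_right] at h1
  rw [← h1]
  ext x
  rw [mem_cj]
  have key : ∀ y : G, y * a = a * y → a⁻¹ * y * a = y := fun y hy => by
    rw [mul_assoc, hy, inv_mul_cancel_left]
  constructor
  · intro hx
    have h2 := key _ (comm_of_mem_diag hx)
    have h3 : a⁻¹ * x * a = x := by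
      have h4 : a⁻¹ * (a⁻¹ * x * a) * a = a⁻¹ * x * a := h2
      have h5 : a * (a⁻¹ * (a⁻¹ * x * a) * a) * a⁻¹ = a * (a⁻¹ * x * a) * a⁻¹ := by rw [h4]
      have h6 : a * (a⁻¹ * (a⁻¹ * x * a) * a) * a⁻¹ = a⁻¹ * x * a := by group
      have h7 : a * (a⁻¹ * x * a) * a⁻¹ = x := by group
      rw [h6, h7] at h5
      exact h5
    rwa [h3] at hx
  · intro hx
    rwa [key _ (comm_of_mem_diag hx)]

/-- `m = n c`, `n ∈ N`, `c` in an odd subgroup normalizing `N`, `m` a 2-element: `m ∈ N` -/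
theorem mem_of_two_mul [Finite G] {N C : Subgroup G} (hC : Odd (Nat.card C)) (hCN : C ≤ normalizer (N : Set G))
    {n c : G} (hn : n ∈ N) (hc : c ∈ C) {k : ℕ} (h : (n * c) ^ 2 ^ k = 1) : n * c ∈ N := by
  have h1 : ∀ j : ℕ, ∃ n' ∈ N, (n * c) ^ j = n' * c ^ j := by
    intro j
    induction j with
    | zero => exact ⟨1, N.one_mem, by rw [pow_zero, pow_zero, mul_one]⟩
    | succ j ih =>
      obtain ⟨n', hn', e⟩ := ih
      have h2 : c ^ j * n * (c ^ j)⁻¹ ∈ N := (mem_normalizer_iff.mp (hCN (C.pow_mem hc j)) n).mp hn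
      refine ⟨n' * (c ^ j * n * (c ^ j)⁻¹), N.mul_mem hn' h2, ?_⟩
      rw [pow_succ, e, pow_succ]
      group
  obtain ⟨n', hn', e⟩ := h1 (Nat.card C)
  have h2 : c ^ Nat.card C = 1 := by
    have h3 : (⟨c, hc⟩ : C) ^ Nat.card C = 1 := pow_card_eq_one'
    exact congrArg Subtype.val h3
  rw [h2, mul_one] at e
  -- `m ∈ ⟨m ^ |C|⟩`
  have h3 : (orderOf (n * c)).Coprime (Nat.card C) := by
    have h4 : orderOf (n * c) ∣ 2 ^ k := orderOf_dvd_of_pow_eq_one h
    exact Nat.Coprime.coprime_dvd_left h4 (Nat.Coprime.pow_left _ (Nat.coprime_two_left.mpr hC))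
  have h5 : n * c ∈ zpowers ((n * c) ^ Nat.card C) := by
    have h6 := Nat.gcd_eq_gcd_ab (orderOf (n * c)) (Nat.card C)
    rw [h3.gcd_eq_one] at h6
    refine mem_zpowers_iff.mpr ⟨Nat.gcdB (orderOf (n * c)) (Nat.card C), ?_⟩
    rw [← zpow_natCast, ← zpow_mul]
    have h7 : (Nat.card C : ℤ) * (orderOf (n * c)).gcdB (Nat.card C) =
        1 - (orderOf (n * c) : ℤ) * (orderOf (n * c)).gcdA (Nat.card C) := by
      push_cast at h6
      linarith
    rw [h7, zpow_sub, zpow_one, zpow_mul, zpow_natCast, pow_orderOf_eq_one, one_zpow, inv_one, mul_one]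
  rw [e] at h5
  exact (zpowers_le.mpr hn') h5

section diag

variable [Finite G] {X K : Subgroup G} {a : G}

/-- distinct 2-components normalize each other -/
theorem le_normalizer_of_ne {K' : Subgroup G} (hK : IsComp X K) (hK' : IsComp X K') :
    K ≤ normalizer (K' : Set G) :=
  hK.le_L2.trans hK'.L2_le_normalizer

/-- decomposition of the elements of the diagonal -/
theorem exists_of_diag (hK : IsComp X K) (haX : a ∈ X) (ha : a * a = 1) (hne : cj a K ≠ K) {m : G}
    (hm : m ∈ diag X K a) : ∃ k ∈ K, ∃ c ∈ core X, m = (k * (a * k * a⁻¹)) * c := by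
  obtain ⟨-, h2, -⟩ := exists_diag hK haX ha hne
  obtain ⟨k, hk, hc⟩ := h2 m hm
  refine ⟨k, hk, (m⁻¹ * (k * (a * k * a⁻¹)))⁻¹, (core X).inv_mem hc, ?_⟩
  group

theorem diag_normalizes (hK : IsComp X K) (haX : a ∈ X) (ha : a * a = 1) (hne : cj a K ≠ K) {m : G}
    (hm : m ∈ diag X K a) : m ∈ normalizer (K : Set G) := by
  obtain ⟨k, hk, c, hc, rfl⟩ := exists_of_diag hK haX ha hne hm
  have hK' := isComp_cj_of_mem hK haX
  exact mul_mem (mul_mem (le_normalizer hk) (le_normalizer_of_ne hK' hK (conj_mem_cj hk)))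
    (hK.core_le_normalizer hc)

theorem diag_mem_sup (hK : IsComp X K) (haX : a ∈ X) (ha : a * a = 1) (hne : cj a K ≠ K) {m : G}
    (hm : m ∈ diag X K a) {n : ℕ} (hn : m ^ 2 ^ n = 1) : m ∈ K ⊔ cj a K := by
  obtain ⟨k, hk, c, hc, rfl⟩ := exists_of_diag hK haX ha hne hm
  have hK' := isComp_cj_of_mem hK haX
  refine mem_of_two_mul (odd_card_core X) ?_ (mul_mem (mem_sup_left hk) (mem_sup_right (conj_mem_cj hk))) hc hn
  intro g hg
  rw [mem_normalizer_iff_cj]
  have h1 := mem_normalizer_iff_cj.mp (hK.core_le_normalizer hg)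
  have h2 := mem_normalizer_iff_cj.mp (hK'.core_le_normalizer hg)
  rw [cj_def, Subgroup.map_sup]
  change cj g K ⊔ cj g (cj a K) = _
  rw [h1, h2]

/-- the 2-components moved or acted upon by `z ∈ diag X K a` -/
theorem eq_or_eq_of_not_fixes (hK : IsComp X K) (haX : a ∈ X) (ha : a * a = 1) (hne : cj a K ≠ K) {z : G}
    (hz : z ∈ diag X K a) {K' : Subgroup G} (hK' : IsComp X K') (h : ¬ Fixes z K') : K' = K ∨ K' = cj a K := by
  by_contra hcon
  push Not at hcon
  refine h (fixes_of_comm_core hK' (diag_le hz) fun k hk => ?_)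
  exact comm_diag_of_ne hK haX ha hne hK' hcon.1 hcon.2 hz hk

/-- distinct 2-components meet in an odd group if one of them has no centre modulo its core -/
theorem odd_inf_of_ne {K' : Subgroup G} (hK : IsComp X K) (hK' : IsComp X K') (hne : K ≠ K')
    (hcen : center (↥K ⧸ oddCore ↥K) = ⊥) : Odd (Nat.card ↥(K ⊓ K')) := by
  refine Odd.of_dvd_nat (odd_card_core K) (card_dvd_of_le fun x hx => ?_)
  rw [← mk_eq_one_iff hx.1]
  have h3 : (QuotientGroup.mk ⟨x, hx.1⟩ : ↥K ⧸ oddCore ↥K) ∈ center (↥K ⧸ oddCore ↥K) := by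
    rw [mem_center_iff]
    intro y
    obtain ⟨⟨k, hk⟩, rfl⟩ := QuotientGroup.mk_surjective y
    have h4 : ⁅k, x⁆ ∈ core K :=
      (hK.comm_le_core hK' hne (commutator_mem_commutator hk hx.2)).1
    have h7 := (mk_eq_iff (K := K) (mul_mem hk hx.1) (mul_mem hx.1 hk)).mpr (by
      have h8 : (k * x)⁻¹ * (x * k) = (x⁻¹ * k⁻¹) * ⁅k, x⁆⁻¹ * (x⁻¹ * k⁻¹)⁻¹ := by
        rw [commutatorElement_def]; group
      rw [h8]
      exact conj_mem_core (le_normalizer (mul_mem (inv_mem hx.1) (inv_mem hk))) (inv_mem h4))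
    exact h7
  rw [hcen, mem_bot] at h3
  exact h3

end diag

/-- The diagonal pump-up of `M = C_L(f)^∞ ∋ z`. -/
structure Side (a z f : G) (I M : Subgroup G) : Prop where
  aa : a * a = 1
  ff : f * f = 1
  fa : f * a = a * f
  comp : IsComp (centralizer ({f} : Set G)) I
  ne : cj a I ≠ I
  eq : M = diag (centralizer ({f} : Set G)) I a
  zM : z ∈ M
  zz : z * z = 1
  z1 : z ≠ 1
  tM : L2T M
  cI : center (↥I ⧸ oddCore ↥I) = ⊥

namespace Side

variable {a z f : G} {I M : Subgroup G}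

theorem aX (S : Side a z f I M) : a ∈ centralizer ({f} : Set G) := mem_c S.fa.symm

theorem cji (S : Side a z f I M) (K : Subgroup G) : cj a (cj a K) = K := by
  rw [← cj_mul, S.aa, cj_one]

theorem center_cj {K : Subgroup G} (h : center (↥K ⧸ oddCore ↥K) = ⊥) (g : G) :
    center (↥(cj g K) ⧸ oddCore ↥(cj g K)) = ⊥ := by
  rw [eq_bot_iff]
  intro x hx
  have h1 : (cjQuot g K).symm x ∈ center (↥K ⧸ oddCore ↥K) := by
    rw [mem_center_iff]
    intro y
    apply (cjQuot g K).injective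
    rw [map_mul, map_mul, MulEquiv.apply_symm_apply]
    exact mem_center_iff.mp hx _
  rw [h, mem_bot] at h1
  rw [mem_bot, ← (cjQuot g K).apply_symm_apply x, h1, map_one]

theorem swap (S : Side a z f I M) : Side a z f (cj a I) M where
  aa := S.aa
  ff := S.ff
  fa := S.fa
  comp := isComp_cj_of_mem S.comp S.aX
  ne := by rw [S.cji]; exact S.ne.symm
  eq := by rw [diag_swap S.aX, ← S.eq]
  zM := S.zM
  zz := S.zz
  z1 := S.z1
  tM := S.tM
  cI := center_cj S.cI a

theorem mem_M_comm (S : Side a z f I M) {m : G} (hm : m ∈ M) : m * a = a * m ∧ m * f = f * m := by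
  rw [S.eq] at hm
  exact ⟨comm_of_mem_diag hm, comm_c (diag_le hm)⟩

theorem mem_I_comm (S : Side a z f I M) {m : G} (hm : m ∈ I) : m * f = f * m := comm_c (S.comp.le hm)

variable [Finite G]

theorem not_fixes (S : Side a z f I M) : ¬ Fixes z I := by
  intro h
  refine not_fixes_of_mem S.tM S.zM S.zz S.z1 ?_
  have h1 := (exists_diag S.comp S.aX S.aa S.ne).1
  rw [← S.eq] at h1
  exact PumpGen.fixes_of_pump S.aa S.fa h1 S.comp (mem_c (S.mem_M_comm S.zM).2) (mem_c (S.mem_M_comm S.zM).1) h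
    (Or.inr ⟨S.ne, S.eq⟩)

theorem norm_M (S : Side a z f I M) {m : G} (hm : m ∈ M) : m ∈ normalizer (I : Set G) :=
  diag_normalizes S.comp S.aX S.aa S.ne (S.eq ▸ hm)

theorem perm (S : Side a z f I M) {g : G} (hg : g * f = f * g) (hgz : g * z = z * g) :
    cj g I = I ∨ cj g I = cj a I := by
  refine eq_or_eq_of_not_fixes S.comp S.aX S.aa S.ne (S.eq ▸ S.zM) (isComp_cj_of_mem S.comp (mem_c hg)) ?_
  intro h
  have h1 := h.cj g⁻¹
  rw [← cj_mul, inv_mul_cancel, cj_one] at h1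
  have h2 : g⁻¹ * z * g⁻¹⁻¹ = z := by rw [inv_inv, mul_assoc, ← hgz, inv_mul_cancel_left]
  rw [h2] at h1
  exact S.not_fixes h1

/-- `g g^a` normalizes `I` -/
theorem norm_mul (S : Side a z f I M) {g : G} (hg : g * f = f * g) (hgz : g * z = z * g) :
    g * (a * g * a⁻¹) ∈ normalizer (I : Set G) := by
  have hai : a⁻¹ = a := inv_eq_of_mul_eq_one_left S.aa
  rw [mem_normalizer_iff_cj, cj_mul, cj_mul, cj_mul]
  rw [hai]
  rcases S.perm hg hgz with h | h
  · rcases S.swap.perm hg hgz with h' | h'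
    · rw [h', S.cji, h]
    · rw [S.cji] at h'
      exact absurd (cj_injective g (h'.trans h.symm)) S.ne
  · rcases S.swap.perm hg hgz with h' | h'
    · exact absurd (cj_injective g (h'.trans h.symm)) S.ne
    · rw [S.cji] at h'
      rw [h', h']

/-- the stabilizer of `I` in `C(f) ∩ C(z)` normalizes `I^a` -/
theorem norm_swap (S : Side a z f I M) {g : G} (hg : g * f = f * g) (hgz : g * z = z * g)
    (h : g ∈ normalizer (I : Set G)) : g ∈ normalizer (cj a I : Set G) := by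
  rw [mem_normalizer_iff_cj] at h ⊢
  rcases S.swap.perm hg hgz with h' | h'
  · exact h'
  · rw [S.cji] at h'
    exact absurd (cj_injective g (h'.trans h.symm)) S.ne

theorem norm_conj (S : Side a z f I M) {g : G} (hg : g * f = f * g) (hgz : g * z = z * g)
    (h : g ∈ normalizer (I : Set G)) : a * g * a⁻¹ ∈ normalizer (I : Set G) := by
  have h1 := mem_normalizer_iff_cj.mp (S.norm_swap hg hgz h)
  have hai : a⁻¹ = a := inv_eq_of_mul_eq_one_left S.aa
  rw [mem_normalizer_iff_cj, cj_mul, cj_mul, hai, h1, S.cji]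

theorem h12 (S : Side a z f I M) : I ≤ normalizer (cj a I : Set G) :=
  le_normalizer_of_ne S.comp S.swap.comp

theorem hodd (S : Side a z f I M) : Odd (Nat.card ↥(I ⊓ cj a I)) :=
  odd_inf_of_ne S.comp S.swap.comp S.ne.symm S.cI

theorem mem_sup (S : Side a z f I M) {m : G} (hm : m ∈ M) {n : ℕ} (hn : m ^ 2 ^ n = 1) :
    m ∈ I ⊔ cj a I :=
  diag_mem_sup S.comp S.aX S.aa S.ne (S.eq ▸ hm) hn

theorem split (S : Side a z f I M) {D : Subgroup G} (hD : IsPGroup 2 ↥D) (hDa : ∀ d ∈ D, d * a = a * d)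
    (hDI : D ≤ normalizer (I : Set G)) : ∃ R, Split a I D R :=
  exists_split S.aa S.h12 S.hodd hD hDa hDI

/-- `m = r r^a`, `r ∈ I`, acts on `I` as `r` -/
theorem isInner (S : Side a z f I M) {r : G} (hr : r ∈ I) : IsInner (r * (a * r * a⁻¹)) I := by
  refine ⟨r, hr, ?_⟩
  have h1 : r * (a * r * a⁻¹) * r⁻¹ = r * (a * r * a⁻¹) * r⁻¹ := rfl
  exact fixes_conj (S.comp.fixes_of_mem S.swap.comp S.ne.symm (conj_mem_cj hr)) (le_normalizer hr)

theorem fixes_of_cj (S : Side a z f I M) {r : G} (hr : r ∈ cj a I) : Fixes r I :=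
  S.comp.fixes_of_mem S.swap.comp S.ne.symm hr

end Side

end Cfsg.Agent.UGT.Q2
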