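import Cfsg.Agent.UGT.Q2.Defs
import Cfsg.Agent.ZN.Block

/-!
# THEOREM Q2 (#13005): splitting of 2-groups centralized by an involution swapping two 2-components

* `exists_split`: `K`, `K^a` normalize each other, `K ∩ K^a` is odd, `D` a 2-group commuting with `a` and normalizing
  `K`: there is a 2-group `R ≤ K` normalized by `D`, commuting with `R^a`, such that every `d ∈ D ∩ K K^a` is
  `r r^a`, `r ∈ R`.
-/

set_option autoImplicit false

open Cfsg Subgroup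
open Cfsg.Agent.SignalizersComponents Cfsg.Agent.Lib
open Cfsg.Agent.SignalizersComponents.IntrinsicBasic
open Cfsg.Agent.Intrinsic.Basic Cfsg.Agent.Intrinsic.Cen Cfsg.Agent.Intrinsic.Diag
open Cfsg.Agent.McLLyComp.Act
open Cfsg.Agent.UGT.Triple Cfsg.Agent.UGT.TriBase Cfsg.Agent.UGT.Iface Cfsg.Agent.UGT.L2Inner

namespace Cfsg.Agent.UGT.Q2

variable {G : Type*} [Group G]

theorem card_isSyl [Finite G] {E R : Subgroup G} (h : IsSyl E R) :
    Nat.card R = 2 ^ (Nat.card E).factorization 2 := by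
  have hp : Fact (Nat.Prime 2) := ⟨Nat.prime_two⟩
  obtain ⟨P, rfl⟩ := h.exists_sylow
  rw [card_map_of_injective E.subtype_injective, P.card_eq_multiplicity]

/-- The halves of a 2-group centralized by the swapping involution `a`. -/
structure Split (a : G) (K D R : Subgroup G) : Prop where
  two : IsPGroup 2 ↥R
  le : R ≤ K
  comm : ∀ r ∈ R, ∀ r' ∈ R, r * (a * r' * a⁻¹) = (a * r' * a⁻¹) * r
  disj : ∀ r ∈ R, a * r * a⁻¹ ∈ R → r = 1
  norm : ∀ g ∈ D, ∀ r ∈ R, g * r * g⁻¹ ∈ R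
  dec : ∀ d ∈ D, d ∈ K ⊔ cj a K → ∃ r ∈ R, d = r * (a * r * a⁻¹)

theorem eq_one_of_two_odd {R N : Subgroup G} (hR : IsPGroup 2 ↥R) (hN : Odd (Nat.card N)) {x : G} (hx : x ∈ R)
    (hxN : x ∈ N) : x = 1 := by
  obtain ⟨n, hn⟩ := hR ⟨x, hx⟩
  exact IntrinsicBasic.eq_one_of_mem_odd hN hxN (congrArg Subtype.val hn)

theorem exists_split [Finite G] {K D : Subgroup G} {a : G} (ha : a * a = 1)
    (h12 : K ≤ normalizer (cj a K : Set G)) (hodd : Odd (Nat.card ↥(K ⊓ cj a K)))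
    (hD : IsPGroup 2 ↥D) (hDa : ∀ d ∈ D, d * a = a * d) (hDK : D ≤ normalizer (K : Set G)) :
    ∃ R : Subgroup G, Split a K D R := by
  have hp : Fact (Nat.Prime 2) := ⟨Nat.prime_two⟩
  have hai : a⁻¹ = a := inv_eq_of_mul_eq_one_left ha
  have haa : cj a (cj a K) = K := by rw [← cj_mul, ha, cj_one]
  obtain ⟨K', hK'⟩ : ∃ K', K' = cj a K := ⟨_, rfl⟩
  rw [← hK'] at h12 hodd haa
  have h21 : K' ≤ normalizer (K : Set G) := by
    intro k hk
    rw [mem_normalizer_iff_cj]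
    have h1 : a⁻¹ * k * a ∈ K := by rw [hK', mem_cj] at hk; exact hk
    have h2 := mem_normalizer_iff_cj.mp (h12 h1)
    have h3 : k = a * (a⁻¹ * k * a) * a⁻¹ := by group
    rw [h3, hai, cj_mul, cj_mul, ← hK', ← hai, hai]
    rw [hai] at h2
    rw [h2, haa]
  have hDK' : D ≤ normalizer (K' : Set G) := by
    intro d hd
    rw [mem_normalizer_iff_cj, hK', ← cj_mul, hDa d hd, cj_mul, mem_normalizer_iff_cj.mp (hDK hd)]
  obtain ⟨Y, hY⟩ : ∃ Y, Y = K ⊔ K' := ⟨_, rfl⟩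
  have hKY : K ≤ Y := hY ▸ le_sup_left
  have hK'Y : K' ≤ Y := hY ▸ le_sup_right
  have hYK : Y ≤ normalizer (K : Set G) := by rw [hY]; exact sup_le le_normalizer h21
  have hYK' : Y ≤ normalizer (K' : Set G) := by rw [hY]; exact sup_le h12 le_normalizer
  have hcY : ∀ g : G, cj g Y = cj g K ⊔ cj g K' := fun g => by rw [hY, cj_def, Subgroup.map_sup]; rfl
  have haY : a ∈ normalizer (Y : Set G) := by
    rw [mem_normalizer_iff_cj, hcY, ← hK', haa, hY, sup_comm]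
  have hDY : D ≤ normalizer (Y : Set G) := by
    intro d hd
    rw [mem_normalizer_iff_cj, hcY, mem_normalizer_iff_cj.mp (hDK hd),
      mem_normalizer_iff_cj.mp (hDK' hd), hY]
  -- the 2-group `D ⟨a⟩`
  obtain ⟨A, hA⟩ : ∃ A, A = zpowers a := ⟨_, rfl⟩
  have hA2 : IsPGroup 2 ↥A := by
    rw [hA]
    rintro ⟨y, hy⟩
    refine ⟨1, Subtype.ext ?_⟩
    obtain ⟨n, rfl⟩ := mem_zpowers_iff.mp hy
    change (a ^ n) ^ 2 ^ 1 = 1
    rw [pow_one, ← zpow_natCast, ← zpow_mul, mul_comm, zpow_mul]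
    change (a ^ (2 : ℤ)) ^ n = 1
    rw [zpow_ofNat, pow_two, ha, one_zpow]
  have hAD : A ≤ normalizer (D : Set G) := by
    rw [hA, zpowers_le, mem_normalizer_iff]
    intro d
    constructor
    · intro hd
      rwa [← hDa d hd, mul_inv_cancel_right]
    · intro hd
      have h1 := hDa _ hd
      have h2 : a * d * a⁻¹ * a = a * d := by group
      rw [h2] at h1
      have h3 := mul_left_cancel h1
      rwa [← h3] at hd
  have hAD2 : IsPGroup 2 ↥(A ⊔ D) := hA2.to_sup_of_normal_right' hD hAD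
  obtain ⟨E, hE⟩ : ∃ E, E = Y ⊔ (A ⊔ D) := ⟨_, rfl⟩
  obtain ⟨Q, hQ, hADQ⟩ := exists_isSyl hAD2 (hE ▸ le_sup_right : A ⊔ D ≤ E)
  have hEY : E ≤ normalizer (Y : Set G) := by
    rw [hE, hA]
    exact sup_le le_normalizer (sup_le (zpowers_le.mpr haY) hDY)
  have hYE : Y ≤ E := hE ▸ le_sup_left
  have hP := hQ.inf hYE hEY
  obtain ⟨P, hPe⟩ : ∃ P, P = Q ⊓ Y := ⟨_, rfl⟩
  rw [← hPe] at hP
  have hR := hP.inf hKY hYK
  have hR' := hP.inf hK'Y hYK'
  have haQ : a ∈ Q := hADQ (mem_sup_left (hA ▸ mem_zpowers a))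
  have haP : cj a P = P := by
    rw [hPe, cj_inf, cj_eq_self_of_mem haQ, mem_normalizer_iff_cj.mp haY]
  have hRR' : cj a (P ⊓ K) = P ⊓ K' := by rw [cj_inf, haP, hK']
  have hc1 : Nat.card ↥(P ⊓ K') = Nat.card ↥(P ⊓ K) := by rw [← hRR', card_cj]
  have hdisj : ∀ x ∈ P, x ∈ K → x ∈ K' → x = 1 := fun x h1 h2 h3 =>
    eq_one_of_two_odd hP.two hodd h1 ⟨h2, h3⟩
  -- `R` and `R'` commute
  have hcomm : ∀ r ∈ P ⊓ K, ∀ r' ∈ P ⊓ K', r * r' = r' * r := by
    intro r hr r' hr'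
    have h1 : r * r' * r⁻¹ * r'⁻¹ = 1 := by
      refine hdisj _ (P.mul_mem (P.mul_mem (P.mul_mem hr.1 hr'.1) (P.inv_mem hr.1)) (P.inv_mem hr'.1)) ?_ ?_
      · have h2 : r * r' * r⁻¹ * r'⁻¹ = r * (r' * r⁻¹ * r'⁻¹) := by group
        rw [h2]
        exact K.mul_mem hr.2 ((mem_normalizer_iff.mp (h21 hr'.2) _).mp (K.inv_mem hr.2))
      · exact K'.mul_mem ((mem_normalizer_iff.mp (h12 hr.2) _).mp hr'.2) (K'.inv_mem hr'.2)
    calc r * r' = (r * r' * r⁻¹ * r'⁻¹) * (r' * r) := by group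
      _ = r' * r := by rw [h1, one_mul]
  -- orders
  have hsup : (P ⊓ K) ⊔ (P ⊓ K') = P := by
    refine Subgroup.eq_of_le_of_card_ge (sup_le inf_le_left inf_le_left) ?_
    have e1 := ZN.Block.card_sup_mul_card_inf (H := P ⊓ K) (N := P ⊓ K') (by
      intro r hr
      rw [mem_normalizer_iff]
      intro y
      constructor
      · intro hy
        have h2 := hcomm r hr y hy
        rwa [h2, mul_inv_cancel_right]
      · intro hy
        have h2 := hcomm r hr _ hy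
        have h3 : y = r⁻¹ * (r * y * r⁻¹) * r := by group
        have h4 : r⁻¹ * (r * y * r⁻¹) * r = r * y * r⁻¹ := by
          rw [mul_assoc, ← h2]; group
        rw [h3, h4]
        exact hy)
    have e2 : P ⊓ K ⊓ (P ⊓ K') = ⊥ := by
      rw [eq_bot_iff]
      intro x hx
      exact mem_bot.mpr (hdisj x hx.1.1 hx.1.2 hx.2.2)
    rw [e2, card_bot, mul_one] at e1
    have e3 := ZN.Block.card_sup_mul_card_inf (H := K) (N := K') h12
    have e4 := card_isSyl hP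
    have e5 := card_isSyl hR
    have e6 := card_isSyl hR'
    have e7 : (Nat.card ↥(K ⊓ K')).factorization 2 = 0 :=
      Nat.factorization_eq_zero_of_not_dvd fun h => by
        have := hodd
        rw [← Nat.not_even_iff_odd, even_iff_two_dvd] at this
        exact this h
    have e8 : (Nat.card Y).factorization 2 = (Nat.card K).factorization 2 + (Nat.card K').factorization 2 := by
      rw [← hY] at e3
      have h1 := congrArg (fun n => n.factorization 2) e3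
      rw [Nat.factorization_mul Nat.card_pos.ne' Nat.card_pos.ne',
        Nat.factorization_mul Nat.card_pos.ne' Nat.card_pos.ne', Finsupp.add_apply, Finsupp.add_apply, e7,
        add_zero] at h1
      exact h1
    rw [e1, e4, e5, e6, e8, pow_add]
  refine ⟨P ⊓ K, ⟨hR.two, inf_le_right, ?_, ?_, ?_, ?_⟩⟩
  · intro r hr r' hr'
    refine hcomm r hr _ ?_
    rw [← hRR']
    exact conj_mem_cj hr'
  · intro r hr hr'
    have h1 : a * r * a⁻¹ ∈ P ⊓ K' := by rw [← hRR']; exact conj_mem_cj hr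
    have h2 := hdisj _ hr'.1 hr'.2 h1.2
    calc r = a⁻¹ * (a * r * a⁻¹) * a := by group
      _ = 1 := by rw [h2]; group
  · intro g hg r hr
    have hgQ : g ∈ Q := hADQ (mem_sup_right hg)
    refine ⟨?_, (mem_normalizer_iff.mp (hDK hg) r).mp hr.2⟩
    have h1 := hr.1
    rw [hPe] at h1 ⊢
    exact ⟨Q.mul_mem (Q.mul_mem hgQ h1.1) (Q.inv_mem hgQ), (mem_normalizer_iff.mp (hDY hg) r).mp h1.2⟩
  · intro d hd hdY
    rw [← hK', ← hY] at hdY
    have hdP : d ∈ P := by rw [hPe]; exact ⟨hADQ (mem_sup_right hd), hdY⟩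
    rw [← hsup] at hdP
    obtain ⟨r, hr, r', hr', rfl⟩ := SL.exists_mul_of_mem_sup (A := P ⊓ K) (B := P ⊓ K') (fun b hb a ha => by
      rw [← hcomm a ha b hb, mul_inv_cancel_right]
      exact ha) hdP
    refine ⟨r, hr, ?_⟩
    have h1 := hDa _ hd
    have h2 : a * r * a⁻¹ ∈ P ⊓ K' := by rw [← hRR']; exact conj_mem_cj hr
    have h3 : a * r' * a⁻¹ ∈ P ⊓ K := by
      have h4 : cj a (P ⊓ K') = P ⊓ K := by rw [cj_inf, haP, haa]
      rw [← h4]
      exact conj_mem_cj hr'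
    have h5 : r * r' = (a * r' * a⁻¹) * (a * r * a⁻¹) := by
      have h6 : a * (r * r') * a⁻¹ = r * r' := by rw [← h1]; group
      calc r * r' = a * (r * r') * a⁻¹ := h6.symm
        _ = a * (r' * r) * a⁻¹ := by rw [hcomm r hr r' hr']
        _ = _ := by group
    have h7 : (a * r' * a⁻¹)⁻¹ * r = (a * r * a⁻¹) * r'⁻¹ := by
      rw [inv_mul_eq_iff_eq_mul, ← mul_assoc, ← h5, mul_inv_cancel_right]
    have h8 := hdisj ((a * r' * a⁻¹)⁻¹ * r) (P.mul_mem (P.inv_mem h3.1) hr.1)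
      (K.mul_mem (K.inv_mem h3.2) hr.2) (by rw [h7]; exact K'.mul_mem h2.2 (K'.inv_mem hr'.2))
    rw [h8] at h7
    have h9 : r' = a * r * a⁻¹ := (eq_of_mul_inv_eq_one h7.symm).symm
    rw [h9]

namespace Split

variable {a : G} {K D R : Subgroup G} (S : Split a K D R)
include S

/-- uniqueness of the decomposition -/
theorem unique {r r' : G} (hr : r ∈ R) (hr' : r' ∈ R) (h : r * (a * r * a⁻¹) = r' * (a * r' * a⁻¹)) : r = r' := by
  have h1 : a * (r * r'⁻¹) * a⁻¹ = r⁻¹ * r' := by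
    have h2 : a * (r * r'⁻¹) * a⁻¹ = (a * r * a⁻¹) * (a * r' * a⁻¹)⁻¹ := by group
    rw [h2, mul_inv_eq_iff_eq_mul, mul_assoc r⁻¹ r' _, ← h, inv_mul_cancel_left]
  have h2 := S.disj (r * r'⁻¹) (R.mul_mem hr (R.inv_mem hr')) (by
    rw [h1]; exact R.mul_mem (R.inv_mem hr) hr')
  exact eq_of_mul_inv_eq_one h2

/-- products -/
theorem mul {r r' : G} (hr : r ∈ R) (hr' : r' ∈ R) :
    (r * (a * r * a⁻¹)) * (r' * (a * r' * a⁻¹)) = (r * r') * (a * (r * r') * a⁻¹) := by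
  calc (r * (a * r * a⁻¹)) * (r' * (a * r' * a⁻¹)) = r * ((a * r * a⁻¹) * r') * (a * r' * a⁻¹) := by group
    _ = r * (r' * (a * r * a⁻¹)) * (a * r' * a⁻¹) := by rw [S.comm r' hr' r hr]
    _ = _ := by group

/-- conjugation by elements commuting with `a` -/
theorem conj {r g : G} (hga : g * a = a * g) :
    g * (r * (a * r * a⁻¹)) * g⁻¹ = (g * r * g⁻¹) * (a * (g * r * g⁻¹) * a⁻¹) := by
  have h1 : a⁻¹ * g⁻¹ = g⁻¹ * a⁻¹ := by rw [← mul_inv_rev, ← mul_inv_rev, hga]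
  calc g * (r * (a * r * a⁻¹)) * g⁻¹ = (g * r * g⁻¹) * (g * a * r * (a⁻¹ * g⁻¹)) := by group
    _ = (g * r * g⁻¹) * (a * g * r * (g⁻¹ * a⁻¹)) := by rw [hga, h1]
    _ = _ := by group

/-- powers -/
theorem pow {r : G} (hr : r ∈ R) (k : ℕ) : (r * (a * r * a⁻¹)) ^ k = r ^ k * (a * r ^ k * a⁻¹) := by
  induction k with
  | zero => group
  | succ k ih => rw [pow_succ, ih, S.mul (R.pow_mem hr k) hr, pow_succ]

end Split

end Cfsg.Agent.UGT.Q2
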