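import Mathlib.GroupTheory.GroupAction.Quotient
import Mathlib.GroupTheory.PGroup
import Mathlib.Tactic

/-!
# Transfer with values in an abelian group, evaluated at involutions

`Ω` a finite `G`-set, `ev ω` an equivariant character of the stabilizer of `ω` with values in an abelian
group `A` with at most one involution. If `G` has no homomorphism onto a nontrivial subgroup of `A`, then for every involution
`x` and every 2-group `T ≤ C(x)` the number of `T`-fixed points `ω` fixed by `x` with `ev ω x ≠ 1` is even.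
-/

set_option autoImplicit false

open Subgroup MulAction

namespace Cfsg.Agent.UGT.Q2.Transfer

variable {G Ω A : Type*} [Group G] [MulAction G Ω] [CommGroup A]

/-- An equivariant family of characters of the point stabilizers. -/
structure IsChar (ev : Ω → G → A) : Prop where
  mul : ∀ (ω : Ω) (g h : G), g • ω = ω → h • ω = ω → ev ω (g * h) = ev ω g * ev ω h
  conj : ∀ (ω : Ω) (g h : G), h • ω = ω → ev (g • ω) (g * h * g⁻¹) = ev ω h

theorem IsChar.one {ev : Ω → G → A} (h : IsChar ev) (ω : Ω) : ev ω 1 = 1 := by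
  have h1 := h.mul ω 1 1 (one_smul G ω) (one_smul G ω)
  rw [mul_one] at h1
  exact (mul_eq_left.mp h1.symm)

/-- The transfer attached to an equivariant family of characters. -/
theorem exists_hom [Fintype Ω] [DecidableEq Ω] {ev : Ω → G → A} (h : IsChar ev) :
    ∃ f : G →* A, ∀ x : G, x * x = 1 →
      f x = ∏ ω ∈ Finset.univ.filter (fun ω : Ω => x • ω = ω), ev ω x := by
  -- base points of the orbits
  let base : Ω → Ω := fun ω => (Quotient.mk (orbitRel G Ω) ω).out
  have hbase : ∀ (g : G) (ω : Ω), base (g • ω) = base ω := by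
    intro g ω
    have : (Quotient.mk (orbitRel G Ω) (g • ω)) = Quotient.mk (orbitRel G Ω) ω :=
      Quotient.sound ⟨g, rfl⟩
    change (Quotient.mk (orbitRel G Ω) (g • ω)).out = (Quotient.mk (orbitRel G Ω) ω).out
    rw [this]
  have hmem : ∀ ω : Ω, ∃ g : G, g • base ω = ω := by
    intro ω
    have h1 : (orbitRel G Ω).r ω (base ω) :=
      Quotient.exact (Quotient.out_eq (Quotient.mk (orbitRel G Ω) ω)).symm
    exact h1
  choose s hs using hmem
  -- the cocycle
  let c : G → Ω → G := fun g ω => (s (g • ω))⁻¹ * g * s ω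
  have hc : ∀ g ω, c g ω • base ω = base ω := by
    intro g ω
    change ((s (g • ω))⁻¹ * g * s ω) • base ω = base ω
    have h1 : s (g • ω) • base ω = g • ω := by
      have := hs (g • ω)
      rwa [hbase] at this
    rw [mul_smul, mul_smul, hs, inv_smul_eq_iff, h1]
  have hcm : ∀ (g k : G) (ω : Ω), c (g * k) ω = c g (k • ω) * c k ω := by
    intro g k ω
    change (s ((g * k) • ω))⁻¹ * (g * k) * s ω =
      (s (g • k • ω))⁻¹ * g * s (k • ω) * ((s (k • ω))⁻¹ * k * s ω)
    rw [mul_smul]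
    group
  have hc1 : ∀ ω, c 1 ω = 1 := by
    intro ω
    change (s ((1 : G) • ω))⁻¹ * 1 * s ω = 1
    rw [one_smul, mul_one, inv_mul_cancel]
  have hc' : ∀ (g k : G) (ω : Ω), c g (k • ω) • base ω = base ω := by
    intro g k ω
    have := hc g (k • ω)
    rwa [hbase] at this
  let f : G →* A :=
    { toFun := fun g => ∏ ω : Ω, ev (base ω) (c g ω)
      map_one' := by
        refine Finset.prod_eq_one fun ω _ => ?_
        rw [hc1, h.one]
      map_mul' := by
        intro g k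
        have h1 : ∀ ω : Ω, ev (base ω) (c (g * k) ω) =
            ev (base (k • ω)) (c g (k • ω)) * ev (base ω) (c k ω) := by
          intro ω
          rw [hcm, h.mul _ _ _ (hc' _ _ _) (hc _ _), hbase]
        simp only [h1]
        rw [Finset.prod_mul_distrib]
        congr 1
        exact Equiv.prod_comp (MulAction.toPerm k) fun ω : Ω => ev (base ω) (c g ω) }
  refine ⟨f, fun x hx => ?_⟩
  change ∏ ω : Ω, ev (base ω) (c x ω) = _
  -- split into fixed points and the others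
  have hsplit := Finset.prod_filter_mul_prod_filter_not (Finset.univ : Finset Ω)
    (fun ω => x • ω = ω) (fun ω => ev (base ω) (c x ω))
  have h2 : ∏ ω ∈ Finset.univ.filter (fun ω : Ω => ¬ x • ω = ω),
      ev (base ω) (c x ω) = 1 := by
    refine Finset.prod_involution (fun ω _ => x • ω) ?_ ?_ ?_ ?_
    · intro ω _
      rw [mul_comm, hbase, ← h.mul _ _ _ (hc' _ _ _) (hc _ _), ← hcm, hx, hc1, h.one]
    · intro ω hω _
      exact (Finset.mem_filter.mp hω).2
    · intro ω hω
      rw [Finset.mem_filter] at hω ⊢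
      refine ⟨Finset.mem_univ _, fun h3 => hω.2 ?_⟩
      have := congrArg (x • ·) h3
      simp only [← mul_smul, hx, one_smul] at this
      exact this
    · intro ω _
      rw [← mul_smul, hx, one_smul]
  rw [h2, mul_one] at hsplit
  rw [← hsplit]
  refine Finset.prod_congr rfl fun ω hω => ?_
  have hfix := (Finset.mem_filter.mp hω).2
  have h4 : c x ω = (s ω)⁻¹ * x * (s ω)⁻¹⁻¹ := by
    change (s (x • ω))⁻¹ * x * s ω = _
    rw [hfix, inv_inv]
  have h5 : base ω = (s ω)⁻¹ • ω := by rw [eq_inv_smul_iff, hs]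
  rw [h4]
  conv_lhs => rw [h5]
  exact h.conj ω (s ω)⁻¹ x hfix

/-- The value of the transfer at an involution, `A` having at most one involution. -/
theorem even_card [Finite Ω] (hG : ∀ f : G →* A, f = 1)
    (hA : ∀ α β : A, α * α = 1 → β * β = 1 → α ≠ 1 → β ≠ 1 → α = β) {ev : Ω → G → A}
    (h : IsChar ev) {x : G} (hx : x * x = 1) :
    Even (Nat.card {ω : Ω // x • ω = ω ∧ ev ω x ≠ 1}) := by
  classical
  cases nonempty_fintype Ω
  obtain ⟨f, hf⟩ := exists_hom h
  have h1 := hf x hx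
  rw [hG f, MonoidHom.one_apply] at h1
  have hsq : ∀ ω : Ω, x • ω = ω → ev ω x * ev ω x = 1 := by
    intro ω hω
    rw [← h.mul ω x x hω hω, hx, h.one]
  by_contra hodd
  rw [Nat.not_even_iff_odd] at hodd
  have h7 : (Finset.univ.filter (fun ω : Ω => x • ω = ω ∧ ev ω x ≠ 1)) =
      (Finset.univ.filter (fun ω : Ω => x • ω = ω)).filter (fun ω => ev ω x ≠ 1) := by
    rw [Finset.filter_filter]
  rw [Nat.card_eq_fintype_card, Fintype.card_subtype, h7] at hodd
  have hne : ((Finset.univ.filter (fun ω : Ω => x • ω = ω)).filter (fun ω => ev ω x ≠ 1)).Nonempty := by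
    rw [Finset.nonempty_iff_ne_empty]
    intro h0
    rw [h0, Finset.card_empty] at hodd
    exact absurd hodd (by decide)
  obtain ⟨ω₀, hω₀⟩ := hne
  rw [Finset.mem_filter, Finset.mem_filter] at hω₀
  obtain ⟨⟨-, hf0⟩, hn0⟩ := hω₀
  have h8 : ∏ ω ∈ Finset.univ.filter (fun ω : Ω => x • ω = ω), ev ω x =
      ∏ ω ∈ (Finset.univ.filter (fun ω : Ω => x • ω = ω)).filter (fun ω => ev ω x ≠ 1), ev ω₀ x := by
    rw [Finset.prod_filter_ne_one (s := Finset.univ.filter (fun ω : Ω => x • ω = ω))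
      (f := fun ω => ev ω x) |>.symm]
    refine Finset.prod_congr rfl fun ω hω => ?_
    rw [Finset.mem_filter, Finset.mem_filter] at hω
    exact hA _ _ (hsq ω hω.1.2) (hsq ω₀ hf0) hω.2 hn0
  rw [h8, Finset.prod_const] at h1
  obtain ⟨k, hk⟩ := hodd
  rw [hk, pow_succ, pow_mul, pow_two, hsq ω₀ hf0, one_pow, one_mul] at h1
  exact hn0 h1.symm

/-- the points fixed by a 2-subgroup `T ≤ C(x)` -/
theorem card_modEq [Finite Ω] {ev : Ω → G → A}
    (h : IsChar ev) {x : G} {T : Subgroup G} (hT : IsPGroup 2 ↥T)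
    (hTx : T ≤ centralizer ({x} : Set G)) :
    Nat.card {ω : Ω // x • ω = ω ∧ ev ω x ≠ 1} ≡
      Nat.card {ω : Ω // (x • ω = ω ∧ ev ω x ≠ 1) ∧ ∀ t ∈ T, t • ω = ω} [MOD 2] := by
  classical
  have hp : Fact (Nat.Prime 2) := ⟨Nat.prime_two⟩
  have hstab : ∀ (t : ↥T) (ω : Ω), (x • ω = ω ∧ ev ω x ≠ 1) →
      (x • (t : G) • ω = (t : G) • ω ∧ ev ((t : G) • ω) x ≠ 1) := by
    rintro ⟨t, ht⟩ ω ⟨h1, h2⟩
    have h3 : t * x = x * t := mem_centralizer_singleton_iff.mp (hTx ht)
    refine ⟨?_, fun h4 => h2 ?_⟩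
    · change x • t • ω = t • ω
      rw [← mul_smul, ← h3, mul_smul, h1]
    · have h5 : x = t * x * t⁻¹ := by rw [h3]; group
      have h6 : ev (t • ω) (t * x * t⁻¹) = 1 := h5 ▸ h4
      rwa [h.conj ω t x h1] at h6
  let S := {ω : Ω // x • ω = ω ∧ ev ω x ≠ 1}
  let _ : MulAction ↥T S :=
    { smul := fun t ω => ⟨(t : G) • ω.1, hstab t ω.1 ω.2⟩
      one_smul := fun ω => Subtype.ext (one_smul G ω.1)
      mul_smul := fun s t ω => Subtype.ext (mul_smul (s : G) (t : G) ω.1) }
  have h1 : Nat.card S ≡ Nat.card (MulAction.fixedPoints ↥T S) [MOD 2] :=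
    hT.card_modEq_card_fixedPoints S
  have e : MulAction.fixedPoints ↥T S ≃
      {ω : Ω // (x • ω = ω ∧ ev ω x ≠ 1) ∧ ∀ t ∈ T, t • ω = ω} :=
    { toFun := fun ω => ⟨ω.1.1, ω.1.2, fun t ht => congrArg Subtype.val (ω.2 ⟨t, ht⟩)⟩
      invFun := fun ω => ⟨⟨ω.1, ω.2.1⟩, fun t => Subtype.ext (ω.2.2 t t.2)⟩
      left_inv := fun _ => rfl
      right_inv := fun _ => rfl }
  rwa [Nat.card_congr e] at h1

/-- **Transfer at an involution, localised to the points fixed by a 2-group `T ≤ C(x)`.** -/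
theorem even_card_fixed [Finite Ω] (hG : ∀ f : G →* A, f = 1)
    (hA : ∀ α β : A, α * α = 1 → β * β = 1 → α ≠ 1 → β ≠ 1 → α = β) {ev : Ω → G → A}
    (h : IsChar ev) {x : G} (hx : x * x = 1) {T : Subgroup G} (hT : IsPGroup 2 ↥T)
    (hTx : T ≤ centralizer ({x} : Set G)) :
    Even (Nat.card {ω : Ω // (x • ω = ω ∧ ev ω x ≠ 1) ∧ ∀ t ∈ T, t • ω = ω}) := by
  have h2 := even_card hG hA h hx
  rw [Nat.even_iff] at h2 ⊢
  rw [← h2]
  exact (card_modEq h hT hTx).symm

/-! ### characters of a subgroup on the coset space -/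

open Classical in
/-- the equivariant family attached to a character of `H` on `G ⧸ H` -/
noncomputable def evOf {H : Subgroup G} (lam : ↥H →* A) (ω : G ⧸ H) (g : G) : A :=
  if h : ω.out⁻¹ * g * ω.out ∈ H then lam ⟨_, h⟩ else 1

theorem smul_eq_iff {H : Subgroup G} {ω : G ⧸ H} {g : G} :
    g • ω = ω ↔ ω.out⁻¹ * g * ω.out ∈ H := by
  conv_lhs => rw [← QuotientGroup.out_eq' ω]
  rw [MulAction.Quotient.smul_coe, eq_comm, QuotientGroup.eq, smul_eq_mul, mul_assoc]

theorem smul_mk_iff {H : Subgroup G} {k g : G} :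
    g • (k : G ⧸ H) = (k : G ⧸ H) ↔ k⁻¹ * g * k ∈ H := by
  rw [MulAction.Quotient.smul_coe, eq_comm, QuotientGroup.eq, smul_eq_mul, mul_assoc]

theorem evOf_mk {H : Subgroup G} (lam : ↥H →* A) {k g : G} (h : k⁻¹ * g * k ∈ H) :
    evOf lam (k : G ⧸ H) g = lam ⟨_, h⟩ := by
  obtain ⟨m, hm⟩ := QuotientGroup.mk_out_eq_mul H k
  have h1 : (Quotient.out (k : G ⧸ H))⁻¹ * g * Quotient.out (k : G ⧸ H) ∈ H := by
    have h2 : (Quotient.out (k : G ⧸ H))⁻¹ * g * Quotient.out (k : G ⧸ H) =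
        (m : G)⁻¹ * (k⁻¹ * g * k) * m := by
      rw [hm]; group
    rw [h2]
    exact H.mul_mem (H.mul_mem (H.inv_mem m.2) h) m.2
  rw [evOf, dif_pos h1]
  have h3 : (⟨_, h1⟩ : ↥H) = m⁻¹ * ⟨_, h⟩ * m := by
    apply Subtype.ext
    change (Quotient.out (k : G ⧸ H))⁻¹ * g * Quotient.out (k : G ⧸ H) =
        (m : G)⁻¹ * (k⁻¹ * g * k) * m
    rw [hm]; group
  rw [h3, map_mul, map_mul, map_inv, mul_comm, mul_inv_cancel_left]

theorem isChar_evOf {H : Subgroup G} (lam : ↥H →* A) : IsChar (Ω := G ⧸ H) (evOf lam) := by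
  constructor
  · intro ω g h hg hh
    rw [smul_eq_iff] at hg hh
    have h1 : ω.out⁻¹ * (g * h) * ω.out ∈ H := by
      have : ω.out⁻¹ * (g * h) * ω.out = (ω.out⁻¹ * g * ω.out) * (ω.out⁻¹ * h * ω.out) := by group
      rw [this]
      exact H.mul_mem hg hh
    rw [evOf, evOf, evOf, dif_pos hg, dif_pos hh, dif_pos h1, ← map_mul]
    congr 1
    apply Subtype.ext
    change ω.out⁻¹ * (g * h) * ω.out = (ω.out⁻¹ * g * ω.out) * (ω.out⁻¹ * h * ω.out)
    group
  · intro ω g h hh
    obtain ⟨k, rfl⟩ := QuotientGroup.mk_surjective ω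
    rw [smul_mk_iff] at hh
    have h1 : (g * k)⁻¹ * (g * h * g⁻¹) * (g * k) ∈ H := by
      have : (g * k)⁻¹ * (g * h * g⁻¹) * (g * k) = k⁻¹ * h * k := by group
      rw [this]
      exact hh
    rw [MulAction.Quotient.smul_coe, smul_eq_mul, evOf_mk lam h1, evOf_mk lam hh]
    congr 1
    apply Subtype.ext
    change (g * k)⁻¹ * (g * h * g⁻¹) * (g * k) = k⁻¹ * h * k
    group

end Cfsg.Agent.UGT.Q2.Transfer
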