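import Cfsg.Agent.UGT.Q2.Defs
import Cfsg.Agent.UGT.A7.PumpL2
import Cfsg.Agent.UAlt.ModExists

/-!
# THEOREM Q2: types of pump-ups

`Pair y a b z M M'`: commuting involutions `a`, `b = a z` of `C(y)`, 2-components `M`, `M'` of `C(y) ∩ C(a)`,
`C(y) ∩ C(b)` of type `PSL(2,F)` with `z ∈ M ∩ M'`.

* `Pair.same`: if `M ≤ K`, `a ∈ N(K)` for a 2-component `K` of `C(y)` then `b ∈ N(K)` and `M' ≤ K`.
* `Pair.not_alt`, `Pair.field`: then `K` is not of type `A₇`; if `K / O(K) ≅ PSL(2,F)` then `a` and `b` are of field type.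
* `Pair.isD`: if some involution `v ≠ z` lies in `M ∩ M'` then the pump-up of `M` is diagonal.
-/

set_option autoImplicit false

open Cfsg Subgroup
open Cfsg.Agent.SignalizersComponents Cfsg.Agent.Lib
open Cfsg.Agent.SignalizersComponents.IntrinsicBasic
open Cfsg.Agent.Intrinsic.Basic Cfsg.Agent.Intrinsic.Cen Cfsg.Agent.Intrinsic.Diag
open Cfsg.Agent.McLLyComp.Act
open Cfsg.Agent.UGT.Triple Cfsg.Agent.UGT.TriBase Cfsg.Agent.UGT.Iface Cfsg.Agent.UGT.L2Inner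

namespace Cfsg.Agent.UGT.Q2

universe u

section aut

variable {F : Type*} [Field F] [Finite F] {L : Type*} [Group L] (R : GH.L2Aut.Rep F L)

include R

/-- two commuting involutory automorphisms with inner product, both centralizing a nontrivial perfect group, are
of field type -/
theorem pair_field {α β : MulAut L} {ζ : L} (hα : α * α = 1) (hβ : β * β = 1)
    (hαβ : α * β = MulAut.conj ζ) (hζ : ζ ≠ 1) {E E' : Subgroup L}
    (hE : E ≤ GH.L2Aut.fixSub α) (hp : ⁅E, E⁆ = E) (h1 : E ≠ ⊥)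
    (hE' : E' ≤ GH.L2Aut.fixSub β) (hp' : ⁅E', E'⁆ = E') (h1' : E' ≠ ⊥) :
    R.fld α ≠ 1 ∧ R.fld β ≠ 1 := by
  have hc : MulAut.conj ζ ≠ 1 := fun h => hζ (R.conj_injective (h.trans (map_one _).symm))
  have hcP : R.fld (MulAut.conj ζ) = 1 := R.mem_PGL_iff_fld.1 (R.conj_mem_PGL ζ)
  have key : ∀ {φ : MulAut L} {E : Subgroup L}, φ * φ = 1 → E ≤ GH.L2Aut.fixSub φ → ⁅E, E⁆ = E →
      E ≠ ⊥ → R.fld φ = 1 → φ = 1 := by
    intro φ E h2 h3 h4 h5 h6
    by_contra h7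
    exact h5 (A7.PumpL2.eq_bot_of_PGL R (R.mem_PGL_iff_fld.2 h6) h7 h2 h3 h4)
  constructor
  · intro h
    have hα1 := key hα hE hp h1 h
    rw [hα1, one_mul] at hαβ
    exact hc (by rw [← hαβ]; exact key hβ hE' hp' h1' (by rw [hαβ]; exact hcP))
  · intro h
    have hβ1 := key hβ hE' hp' h1' h
    rw [hβ1, mul_one] at hαβ
    exact hc (by rw [← hαβ]; exact key hα hE hp h1 (by rw [hαβ]; exact hcP))

/-- the argument with the elements of order three -/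
theorem pair_four {α β : MulAut L} {ζ ν ρ ρ' : L} (hαβ : α * β = MulAut.conj ζ)
    (h : GH.L2Aut.Four ζ ν) (hβζ : β ζ = ζ) (hβν : β ν = ν) (hαρ : α ρ = ρ) (hβρ : β ρ' = ρ')
    (h1 : ρ * ζ * ρ⁻¹ = ν) (h2 : ρ * ν * ρ⁻¹ = ζ * ν) (h1' : ρ' * ζ * ρ'⁻¹ = ν)
    (h2' : ρ' * ν * ρ'⁻¹ = ζ * ν) : False := by
  obtain ⟨w, hw⟩ : ∃ w, w = ρ'⁻¹ * ρ := ⟨_, rfl⟩
  have e1 : MulAut.conj w ζ = ζ := by
    have h3 : ρ'⁻¹ * ν * ρ' = ζ := by rw [← h1']; group
    rw [MulAut.conj_apply, hw]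
    calc ρ'⁻¹ * ρ * ζ * (ρ'⁻¹ * ρ)⁻¹ = ρ'⁻¹ * (ρ * ζ * ρ⁻¹) * ρ' := by group
      _ = ζ := by rw [h1, h3]
  have e2 : MulAut.conj w ν = ν := by
    have h3 : ρ'⁻¹ * (ζ * ν) * ρ' = ν := by rw [← h2']; group
    rw [MulAut.conj_apply, hw]
    calc ρ'⁻¹ * ρ * ν * (ρ'⁻¹ * ρ)⁻¹ = ρ'⁻¹ * (ρ * ν * ρ⁻¹) * ρ' := by group
      _ = ν := by rw [h2, h3]
  have hβw : β w = w := by
    have hinj := R.conj_injective
    rcases R.fix_four h (R.conj_mem_PGL w) e1 e2 with h3 | h3 | h3 | h3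
    · rw [hinj (h3.trans (map_one _).symm), map_one]
    · rw [hinj h3, hβζ]
    · rw [hinj h3, hβν]
    · rw [hinj h3, map_mul, hβζ, hβν]
  have hρ : ρ = ρ' * w := by rw [hw]; group
  have hβ2 : β ρ = ρ := by rw [hρ, map_mul, hβρ, hβw]
  have e3 : MulAut.conj ζ ρ = ρ := by rw [← hαβ, MulAut.mul_apply, hβ2, hαρ]
  rw [MulAut.conj_apply] at e3
  apply h.ne
  rw [← h1]
  calc ζ = ζ * ρ * ζ⁻¹ * ζ * ρ⁻¹ := by group
    _ = ρ * ζ * ρ⁻¹ := by rw [e3]

end aut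

variable {G : Type u} [Group G] [Finite G]

/-- the image of `M ≤ K` in `K / O(K)` -/
def img (K M : Subgroup G) : Subgroup (↥K ⧸ oddCore ↥K) :=
  (M.subgroupOf K).map (QuotientGroup.mk' (oddCore ↥K))

omit [Finite G] in
theorem img_perfect {H K M : Subgroup G} (hM : IsComp H M) (hMK : M ≤ K) :
    ⁅img K M, img K M⁆ = img K M := by
  have h1 : ⁅M.subgroupOf K, M.subgroupOf K⁆ = M.subgroupOf K := by
    apply Subgroup.map_injective K.subtype_injective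
    rw [Subgroup.map_commutator, subgroupOf_map_subtype, inf_of_le_left hMK, hM.perfect]
  rw [img, ← Subgroup.map_commutator, h1]

theorem img_ne_bot {H K M : Subgroup G} (hM : IsComp H M) (hMK : M ≤ K) : img K M ≠ ⊥ := by
  intro h
  have h1 : M ≤ core K := by
    intro m hm
    have h2 : QuotientGroup.mk' (oddCore ↥K) ⟨m, hMK hm⟩ ∈ img K M := ⟨⟨m, hMK hm⟩, hm, rfl⟩
    rw [h, mem_bot] at h2
    exact (mk_eq_one_iff (hMK hm)).mp h2
  have h2 := hM.even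
  exact (Nat.not_even_iff_odd.mpr (Odd.of_dvd_nat (odd_card_core K) (card_dvd_of_le h1)))
    (even_iff_two_dvd.mpr h2)

omit [Finite G] in
theorem img_le_fix {K M : Subgroup G} {a : G} (ha : a ∈ normalizer (K : Set G))
    (hc : ∀ m ∈ M, m * a = a * m) : img K M ≤ GH.L2Aut.fixSub (act K ⟨a, ha⟩) := by
  rintro _ ⟨⟨m, hmK⟩, hm, rfl⟩
  rw [SetLike.mem_coe, mem_subgroupOf] at hm
  change act K ⟨a, ha⟩ (QuotientGroup.mk ⟨m, hmK⟩) = QuotientGroup.mk ⟨m, hmK⟩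
  rw [act_mk ha hmK, mk_eq_iff (conj_mem ha hmK) hmK, ← hc m hm, mul_inv_cancel_right,
    inv_mul_cancel]
  exact one_mem _

/-- `a`, `b = a z` commuting involutions of `C(y)`, `M`, `M'` 2-components of `C(y) ∩ C(a)`, `C(y) ∩ C(b)` of type
`PSL(2,F)` with `z ∈ M ∩ M'`. -/
structure Pair (y a b z : G) (M M' : Subgroup G) : Prop where
  ya : y * a = a * y
  yb : y * b = b * y
  aa : a * a = 1
  bb : b * b = 1
  ab : a * b = b * a
  hz : z = a * b
  z1 : z ≠ 1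
  cM : IsComp (centralizer ({y} : Set G) ⊓ centralizer ({a} : Set G)) M
  cM' : IsComp (centralizer ({y} : Set G) ⊓ centralizer ({b} : Set G)) M'
  tM : L2T M
  tM' : L2T M'
  zM : z ∈ M
  zM' : z ∈ M'

namespace Pair

variable {y a b z v : G} {M M' K : Subgroup G}

omit [Finite G] in
theorem symm (P : Pair y a b z M M') : Pair y b a z M' M :=
  ⟨P.yb, P.ya, P.bb, P.aa, P.ab.symm, P.hz.trans P.ab, P.z1, P.cM', P.cM, P.tM', P.tM, P.zM', P.zM⟩

omit [Finite G] in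
theorem zz (P : Pair y a b z M M') : z * z = 1 := by
  rw [P.hz]
  calc a * b * (a * b) = a * (b * a) * b := by group
    _ = (a * a) * (b * b) := by rw [← P.ab]; group
    _ = 1 := by rw [P.aa, P.bb, one_mul]

omit [Finite G] in
theorem bz (P : Pair y a b z M M') : b * z = z * b := by
  rw [P.hz]
  calc b * (a * b) = b * a * b := by group
    _ = a * b * b := by rw [P.ab]

/-- **the pump-ups are equal** -/
theorem same (P : Pair y a b z M M') (hK : IsComp (centralizer ({y} : Set G)) K)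
    (hMK : M ≤ K) : b ∈ normalizer (K : Set G) ∧ M' ≤ K := by
  have hzK : z ∈ K := hMK P.zM
  have hbC : b ∈ centralizer ({y} : Set G) := mem_c P.yb.symm
  obtain ⟨K', hK', -, hor⟩ := McLLyComp.PumpT.exists_pump hbC P.bb P.cM'
  -- `z` does not fix `K'`
  have hnf : ¬ Fixes z K' := by
    intro h
    have hz' := P.cM'.le P.zM'
    have h1 : Fixes z M' := PumpGen.fixes_of_pump P.bb P.yb P.cM' hK' hz'.1 hz'.2 h
      (by rcases hor with h2 | h2
          · exact Or.inl h2.2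
          · exact Or.inr h2)
    exact not_fixes_of_mem P.tM' P.zM' P.zz P.z1 h1
  have hKK' : K' = K := by
    by_contra hne
    exact hnf (hK'.fixes_of_mem hK hne hzK)
  subst hKK'
  rcases hor with h | ⟨hne, -⟩
  · exact h
  · exfalso
    have h1 : Fixes z (cj b K') := (isComp_cj_of_mem hK' hbC).fixes_of_mem hK' hne hzK
    have h2 := h1.cj b
    have h3 : b * z * b⁻¹ = z := by rw [P.bz, mul_inv_cancel_right]
    rw [h3, ← cj_mul, P.bb, cj_one] at h2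
    exact hnf h2

/-- `K` is not of type `A₇` -/
theorem not_alt (P : Pair y a b z M M') (hK : IsComp (centralizer ({y} : Set G)) K)
    (ha : a ∈ normalizer (K : Set G)) (hMK : M ≤ K) : ¬ IsAlt 7 (Bar K) := by
  rintro ⟨e⟩
  obtain ⟨hb, hM'K⟩ := P.same hK hMK
  obtain ⟨N⟩ := UAlt.Mod.nonempty_of_equiv (K := K) (S := (Finset.univ : Finset (Fin 7)))
    (by rw [Finset.card_univ, Fintype.card_fin]) (Ω := Fin 7) (by rw [Finset.card_univ]) e
  have h1 : IsComp (K ⊓ centralizer ({a} : Set G)) M :=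
    P.cM.restrict (inf_le_inf_right _ hK.le) (le_inf hMK (P.cM.le.trans inf_le_right))
  have h2 : IsComp (K ⊓ centralizer ({b} : Set G)) M' :=
    P.cM'.restrict (inf_le_inf_right _ hK.le) (le_inf hM'K (P.cM'.le.trans inf_le_right))
  have e1 := ((N.isComp_iff_cmp ha P.aa).mp h1).1
  have e2 := ((N.isComp_iff_cmp hb P.bb).mp h2).1
  have hzK : z ∈ K := hMK P.zM
  have f1 := N.cmp_mem_alt (e1 ▸ P.zM)
  have f2 := N.cmp_mem_alt (e2 ▸ P.zM')
  have hφ : N.φ z = N.φ a * N.φ b := by rw [P.hz]; exact N.mul _ _ ha hb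
  have h0 : N.φ z = 1 := by
    ext p
    by_contra hp
    have hp' : N.φ z p ≠ p := fun h => hp (congrArg _ h)
    have g1 : p ∈ UAlt.fixIn Finset.univ (N.φ a) := by
      by_contra h
      exact hp' (f1.2 p h)
    have g2 : p ∈ UAlt.fixIn Finset.univ (N.φ b) := by
      by_contra h
      exact hp' (f2.2 p h)
    apply hp'
    rw [hφ, Equiv.Perm.mul_apply, (UAlt.mem_fixIn.mp g2).2, (UAlt.mem_fixIn.mp g1).2]
  have h3 : z ∈ core K := by
    exact (N.core_iff z hzK).mp h0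
  exact P.z1 (eq_one_of_mem_core_sq h3 P.zz)

omit [Finite G] in
theorem act_ab (P : Pair y a b z M M') (ha : a ∈ normalizer (K : Set G))
    (hb : b ∈ normalizer (K : Set G)) (hMK : M ≤ K) :
    act K ⟨a, ha⟩ * act K ⟨b, hb⟩ = MulAut.conj (QuotientGroup.mk ⟨z, hMK P.zM⟩) := by
  rw [← act_mul ha hb, ← act_of_mem (hMK P.zM)]
  exact act_congr _ P.hz.symm

omit [Finite G] in
theorem act_sq {a : G} (ha : a ∈ normalizer (K : Set G)) (haa : a * a = 1) :
    act K ⟨a, ha⟩ * act K ⟨a, ha⟩ = 1 := by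
  rw [← act_mul ha ha, act_congr (mul_mem ha ha) haa]
  exact map_one (act K)

/-- `a` and `b` are of field type -/
theorem field (P : Pair y a b z M M') (hK : IsComp (centralizer ({y} : Set G)) K)
    (ha : a ∈ normalizer (K : Set G)) (hMK : M ≤ K) {F : Type} [Field F] [Finite F]
    (R : GH.L2Aut.Rep F (↥K ⧸ oddCore ↥K)) : FieldType K R a ∧ FieldType K R b := by
  obtain ⟨hb, hM'K⟩ := P.same hK hMK
  have h := pair_field R (act_sq ha P.aa) (act_sq hb P.bb) (P.act_ab ha hb hMK)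
    (fun h => P.z1 (eq_one_of_mem_core_sq ((mk_eq_one_iff (hMK P.zM)).mp h) P.zz))
    (img_le_fix ha fun m hm => comm_c (P.cM.le hm).2) (img_perfect P.cM hMK)
    (img_ne_bot P.cM hMK)
    (img_le_fix hb fun m hm => comm_c (P.cM'.le hm).2) (img_perfect P.cM' hM'K)
    (img_ne_bot P.cM' hM'K)
  exact ⟨⟨ha, h.1⟩, ⟨hb, h.2⟩⟩

/-- a four-group of `K` gives one of `K / O(K)` -/
theorem four_mk {K : Subgroup G} {z v : G} (hz : z ∈ K) (hv : v ∈ K) (hzz : z * z = 1)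
    (hvv : v * v = 1) (hz1 : z ≠ 1) (hv1 : v ≠ 1) (hne : z ≠ v) (hzv : z * v = v * z) :
    GH.L2Aut.Four (QuotientGroup.mk ⟨z, hz⟩ : ↥K ⧸ oddCore ↥K) (QuotientGroup.mk ⟨v, hv⟩) where
  aa := by
    change (QuotientGroup.mk (⟨z * z, K.mul_mem hz hz⟩ : ↥K) : ↥K ⧸ oddCore ↥K) = 1
    rw [mk_eq_one_iff, hzz]
    exact one_mem _
  bb := by
    change (QuotientGroup.mk (⟨v * v, K.mul_mem hv hv⟩ : ↥K) : ↥K ⧸ oddCore ↥K) = 1
    rw [mk_eq_one_iff, hvv]
    exact one_mem _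
  a1 := by
    rw [Ne, mk_eq_one_iff]
    exact fun h => hz1 (eq_one_of_mem_core_sq h hzz)
  b1 := by
    rw [Ne, mk_eq_one_iff]
    exact fun h => hv1 (eq_one_of_mem_core_sq h hvv)
  ne := by
    rw [Ne, mk_eq_iff]
    intro h
    exact hne (Intrinsic.Lifting.eq_of_commute (n := 1) (m := 1) (odd_card_core K)
      (by rw [pow_one, pow_two, hzz]) (by rw [pow_one, pow_two, hvv]) hzv h)
  comm := by
    rw [← QuotientGroup.mk_mul, ← QuotientGroup.mk_mul]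
    congr 1
    exact Subtype.ext hzv

/-- an element of `M` permuting `z, v, zv` -/
theorem exists_rho {M : Subgroup G} (hT : L2T M) {z v : G} (hz : z ∈ M) (hv : v ∈ M) (hzz : z * z = 1)
    (hvv : v * v = 1) (hz1 : z ≠ 1) (hv1 : v ≠ 1) (hne : z ≠ v) (hzv : z * v = v * z) :
    ∃ r ∈ M, r * z * r⁻¹ = v ∧ r * v * r⁻¹ = z * v := by
  obtain ⟨F, _, _, ⟨R⟩⟩ := hT
  have hodd := odd_card_core M
  have h4 := four_mk hz hv hzz hvv hz1 hv1 hne hzv
  obtain ⟨-, y, -, -, -, -, -, -, -, h5, h6, -⟩ := R.exists_frame h4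
  obtain ⟨⟨y, hy⟩, rfl⟩ := QuotientGroup.mk_surjective y
  rw [← QuotientGroup.mk_inv, ← QuotientGroup.mk_mul, ← QuotientGroup.mk_mul] at h5 h6
  rw [← QuotientGroup.mk_mul] at h6
  have h5' : (y * z * y⁻¹)⁻¹ * v ∈ core M :=
    (mk_eq_iff (M.mul_mem (M.mul_mem hy hz) (M.inv_mem hy)) hv).mp h5
  have h6' : (y * v * y⁻¹)⁻¹ * (z * v) ∈ core M :=
    (mk_eq_iff (M.mul_mem (M.mul_mem hy hv) (M.inv_mem hy)) (M.mul_mem hz hv)).mp h6
  have hN : M ≤ normalizer (core M : Set G) := le_normalizer_core M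
  -- first step
  obtain ⟨o, ho, h7⟩ := Intrinsic.Lifting.exists_conj_eq (n := 1) (m := 1) hodd
    (v := y * z * y⁻¹) (v' := v) (by
      rw [pow_one, pow_two]
      calc y * z * y⁻¹ * (y * z * y⁻¹) = y * (z * z) * y⁻¹ := by group
        _ = 1 := by rw [hzz]; group) (by rw [pow_one, pow_two, hvv])
    (hN (M.mul_mem (M.mul_mem hy hz) (M.inv_mem hy))) h5'
  have hoM : o ∈ M := core_le M ho
  obtain ⟨y', hy'⟩ : ∃ y', y' = o * y := ⟨_, rfl⟩
  have hy'M : y' ∈ M := hy' ▸ M.mul_mem hoM hy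
  have h8 : y' * z * y'⁻¹ = v := by
    rw [← h7, hy']; group
  have h9 : (y' * v * y'⁻¹)⁻¹ * (z * v) ∈ core M := by
    have e1 : (y' * v * y'⁻¹)⁻¹ * (z * v) =
        o * ((y * v * y⁻¹)⁻¹ * (z * v)) * o⁻¹ * (o * ((z * v)⁻¹ * o⁻¹ * (z * v))) := by
      rw [hy']; group
    rw [e1]
    have hzvM := M.mul_mem hz hv
    refine mul_mem (conj_mem_core (le_normalizer hoM) h6') (mul_mem ho ?_)
    have := conj_mem_core (x := (z * v)⁻¹) (le_normalizer (M.inv_mem hzvM)) (inv_mem ho)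
    rwa [inv_inv] at this
  -- second step
  have hvzv : z * v * v = v * (z * v) := by rw [← mul_assoc, ← hzv]
  have hyvv : y' * v * y'⁻¹ * v = v * (y' * v * y'⁻¹) := by
    rw [← h8]
    calc y' * (y' * z * y'⁻¹) * y'⁻¹ * (y' * z * y'⁻¹) = y' * ((y' * z * y'⁻¹) * z) * y'⁻¹ := by group
      _ = y' * (z * (y' * z * y'⁻¹)) * y'⁻¹ := by rw [h8, hzv]
      _ = _ := by group
  obtain ⟨p, hp, hpv, h10⟩ := Intrinsic.Lifting.exists_conj_commute (n := 1) (m := 1) hodd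
    (v := v) (a := y' * v * y'⁻¹) (b := z * v) (by
      rw [pow_one, pow_two]
      calc y' * v * y'⁻¹ * (y' * v * y'⁻¹) = y' * (v * v) * y'⁻¹ := by group
        _ = 1 := by rw [hvv]; group)
    (by
      rw [pow_one, pow_two]
      calc z * v * (z * v) = z * (v * z) * v := by group
        _ = (z * z) * (v * v) := by rw [← hzv]; group
        _ = 1 := by rw [hzz, hvv, one_mul])
    (hN (M.mul_mem (M.mul_mem hy'M hv) (M.inv_mem hy'M))) hyvv hvzv h9
  refine ⟨p * y', M.mul_mem (core_le M hp) hy'M, ?_, ?_⟩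
  · calc p * y' * z * (p * y')⁻¹ = p * (y' * z * y'⁻¹) * p⁻¹ := by group
      _ = v := by rw [h8, hpv, mul_inv_cancel_right]
  · calc p * y' * v * (p * y')⁻¹ = p * (y' * v * y'⁻¹) * p⁻¹ := by group
      _ = z * v := h10

/-- **(G1)** -/
theorem not_vert (P : Pair y a b z M M') (hK : IsComp (centralizer ({y} : Set G)) K)
    (ha : a ∈ normalizer (K : Set G)) (hMK : M ≤ K) (hT : L2T K ∨ IsAlt 7 (Bar K))
    (hvM : v ∈ M) (hvM' : v ∈ M') (hvv : v * v = 1) (hv1 : v ≠ 1) (hvz : v ≠ z)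
    (hcv : v * z = z * v) : False := by
  rcases hT with hT | hT
  swap
  · exact P.not_alt hK ha hMK hT
  obtain ⟨F, _, _, ⟨R⟩⟩ := hT
  obtain ⟨hb, hM'K⟩ := P.same hK hMK
  obtain ⟨r, hr, h1, h2⟩ := exists_rho P.tM P.zM hvM P.zz hvv P.z1 hv1 hvz.symm hcv.symm
  obtain ⟨r', hr', h1', h2'⟩ := exists_rho P.tM' P.zM' hvM' P.zz hvv P.z1 hv1 hvz.symm hcv.symm
  have hzK : z ∈ K := hMK P.zM
  have hvK : v ∈ K := hMK hvM
  have hrK : r ∈ K := hMK hr
  have hrK' : r' ∈ K := hM'K hr'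
  have hfix : ∀ {t g : G} (ht : t ∈ normalizer (K : Set G)) (hg : g ∈ K), g * t = t * g →
      act K ⟨t, ht⟩ (QuotientGroup.mk ⟨g, hg⟩) = QuotientGroup.mk ⟨g, hg⟩ := by
    intro t g ht hg hc
    rw [act_mk ht hg, mk_eq_iff (conj_mem ht hg) hg, ← hc, mul_inv_cancel_right, inv_mul_cancel]
    exact one_mem _
  have h4 := four_mk hzK hvK P.zz hvv P.z1 hv1 hvz.symm hcv.symm
  refine pair_four R (α := act K ⟨a, ha⟩) (β := act K ⟨b, hb⟩) (ρ := QuotientGroup.mk ⟨r, hrK⟩)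
    (ρ' := QuotientGroup.mk ⟨r', hrK'⟩) (P.act_ab ha hb hMK) h4 ?_ ?_ ?_ ?_ ?_ ?_ ?_ ?_
  · exact hfix hb hzK P.bz.symm
  · exact hfix hb hvK (comm_c (P.cM'.le hvM').2)
  · exact hfix ha hrK (comm_c (P.cM.le hr).2)
  · exact hfix hb hrK' (comm_c (P.cM'.le hr').2)
  · rw [← QuotientGroup.mk_inv, ← QuotientGroup.mk_mul, ← QuotientGroup.mk_mul]
    congr 1
    exact Subtype.ext h1
  · rw [← QuotientGroup.mk_inv, ← QuotientGroup.mk_mul, ← QuotientGroup.mk_mul, ← QuotientGroup.mk_mul]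
    congr 1
    exact Subtype.ext h2
  · rw [← QuotientGroup.mk_inv, ← QuotientGroup.mk_mul, ← QuotientGroup.mk_mul]
    congr 1
    exact Subtype.ext h1'
  · rw [← QuotientGroup.mk_inv, ← QuotientGroup.mk_mul, ← QuotientGroup.mk_mul, ← QuotientGroup.mk_mul]
    congr 1
    exact Subtype.ext h2'

end Pair

end Cfsg.Agent.UGT.Q2
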