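import Cfsg.Agent.UGT.Q2.Types
import Cfsg.Agent.UGT.Q2.Facts
import Cfsg.Agent.UGT.Q2.Main
import Cfsg.Agent.UGT.Q2.DiagConj
import Cfsg.Agent.GH.A7.InstL2

/-!
# THEOREM Q2: the types of the pump-ups of `M_y`, `y ∈ f⟨a, z⟩`

* `not_perfect_three`, `five_le`: `PSL(2,3)` is not perfect.
* `card_of_comp`: `M ≤ K` a 2-component of `K ∩ C(a)`, `a` of field type on `K / O(K) ≅ PSL(2,F)`, `L2q q0 M`:
  `|F| = q0 ^ 2`.
* `inner_of`: the involution of a triple `(x, y, K)` commuting with `a` of field type on `K` is inner.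
-/

set_option autoImplicit false

open Cfsg Subgroup
open Cfsg.Agent.SignalizersComponents Cfsg.Agent.Lib
open Cfsg.Agent.SignalizersComponents.IntrinsicBasic
open Cfsg.Agent.Intrinsic.Basic Cfsg.Agent.Intrinsic.Cen Cfsg.Agent.Intrinsic.Diag
open Cfsg.Agent.McLLyComp.Act
open Cfsg.Agent.UGT.Triple Cfsg.Agent.UGT.TriBase Cfsg.Agent.UGT.Iface Cfsg.Agent.UGT.L2Inner

namespace Cfsg.Agent.UGT.Q2

universe u

section aut

variable {F : Type*} [Field F] [Finite F] {L : Type*} [Group L] (R : GH.L2Aut.Rep F L)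

include R in
/-- `PSL(2,3)` is not perfect -/
theorem not_perfect_three (h3 : Nat.card F = 3) : ⁅(⊤ : Subgroup L), (⊤ : Subgroup L)⁆ ≠ ⊤ := by
  intro hp
  have hfin : Finite L := R.finite
  have hcard : Nat.card L = 12 := by
    have h1 := R.card_mul_two
    rw [h3] at h1
    norm_num at h1
    omega
  obtain ⟨a, b, hab⟩ := R.exists_four
  obtain ⟨-, y, -, -, -, -, -, hyy, hy1, hya, hyb, -⟩ := R.exists_frame hab
  obtain ⟨V, hV⟩ : ∃ V, V = hab.sub := ⟨_, rfl⟩
  have hmem : ∀ x, x ∈ V ↔ (x = 1 ∨ x = a ∨ x = b ∨ x = a * b) := by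
    intro x; rw [hV]; rfl
  have haV : a ∈ V := (hmem a).mpr (Or.inr (Or.inl rfl))
  have hbV : b ∈ V := (hmem b).mpr (Or.inr (Or.inr (Or.inl rfl)))
  have hVcard : Nat.card V = 4 := by
    have h1 : (V : Set L) = {1, a, b, a * b} := by
      ext x
      rw [SetLike.mem_coe, hmem]
      rfl
    have h2 : ({1, a, b, a * b} : Set L).ncard = 4 := by
      rw [Set.ncard_insert_of_notMem, Set.ncard_insert_of_notMem, Set.ncard_insert_of_notMem,
        Set.ncard_singleton]
      · intro h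
        have h4 : b = a * b := h
        exact hab.a1 (mul_eq_right.mp h4.symm)
      · rintro (h | h)
        · exact hab.ne h
        · exact hab.b1 (mul_eq_left.mp (h : a = a * b).symm)
      · rintro (h | h | h)
        · exact hab.a1 h.symm
        · exact hab.b1 h.symm
        · exact hab.right.b1 (h : (1 : L) = a * b).symm
    rw [← h2, ← h1]
    exact (Nat.card_coe_set_eq _).symm
  -- `y` normalizes `V`
  have hyconj : ∀ x ∈ V, y * x * y⁻¹ ∈ V := by
    intro x hx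
    rcases (hmem x).mp hx with rfl | rfl | rfl | rfl
    · rw [mul_one, mul_inv_cancel]; exact one_mem _
    · rw [hya]; exact hbV
    · rw [hyb]; exact mul_mem haV hbV
    · have h1 : y * (a * b) * y⁻¹ = (y * a * y⁻¹) * (y * b * y⁻¹) := by group
      rw [h1, hya, hyb]
      exact mul_mem hbV (mul_mem haV hbV)
  have hyN : y ∈ normalizer (V : Set L) := by
    have h1 : y ^ 3 = 1 := by rw [pow_succ, pow_two]; exact hyy
    rw [mem_normalizer_iff]
    intro x
    refine ⟨hyconj x, fun hx => ?_⟩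
    have h2 := hyconj _ (hyconj _ hx)
    have h3 : y * (y * (y * x * y⁻¹) * y⁻¹) * y⁻¹ = y ^ 3 * x * (y ^ 3)⁻¹ := by
      rw [pow_succ, pow_two]; group
    rw [h3, h1, inv_one, mul_one, one_mul] at h2
    exact h2
  have hVN : V ≤ normalizer (V : Set L) := le_normalizer
  have h4 : 4 ∣ Nat.card (normalizer (V : Set L) : Subgroup L) := hVcard ▸ card_dvd_of_le hVN
  have h3' : 3 ∣ Nat.card (normalizer (V : Set L) : Subgroup L) := by
    have h5 : orderOf y = 3 := orderOf_eq_prime (by rw [pow_succ, pow_two]; exact hyy) hy1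
    have h6 := orderOf_dvd_natCard (⟨y, hyN⟩ : (normalizer (V : Set L) : Subgroup L))
    rwa [Subgroup.orderOf_mk, h5] at h6
  have h12 : Nat.card L ∣ Nat.card (normalizer (V : Set L) : Subgroup L) := by
    rw [hcard]
    exact Nat.Coprime.mul_dvd_of_dvd_of_dvd (by norm_num : Nat.Coprime 4 3) h4 h3'
  have htop : (normalizer (V : Set L) : Subgroup L) = ⊤ := by
    apply Subgroup.eq_top_of_card_eq
    exact Nat.dvd_antisymm (Subgroup.card_subgroup_dvd_card _) h12
  have hVn : V.Normal := normalizer_eq_top_iff.mp htop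
  have hQ : Nat.card (L ⧸ V) = 3 := by
    have h5 := card_eq_card_quotient_mul_card_subgroup V
    rw [hcard, hVcard] at h5
    omega
  have hle : ⁅(⊤ : Subgroup L), (⊤ : Subgroup L)⁆ ≤ V := by
    rw [commutator_le]
    intro g _ h _
    rw [← QuotientGroup.eq_one_iff]
    have h5 : Fact (Nat.Prime 3) := ⟨Nat.prime_three⟩
    have h6 : IsCyclic (L ⧸ V) := isCyclic_of_prime_card hQ
    have h7 := h6.commutative
    change QuotientGroup.mk' _ _ = 1
    rw [map_commutatorElement, commutatorElement_eq_one_iff_mul_comm]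
    exact h7.is_comm.comm _ _
  rw [hp] at hle
  have h5 : V = ⊤ := top_le_iff.mp hle
  rw [h5, card_top, hcard] at hVcard
  omega

include R in
theorem five_le_of_perfect (hp : ⁅(⊤ : Subgroup L), (⊤ : Subgroup L)⁆ = ⊤) : 5 ≤ Nat.card F := by
  have h1 := GH.L2Aut.odd_card R.two
  have h2 : 1 < Nat.card F := Finite.one_lt_card
  have h3 : Nat.card F ≠ 3 := fun h => not_perfect_three R h hp
  obtain ⟨k, hk⟩ := h1
  omega

/-- `n (n² - 1)` is strictly increasing -/
theorem eq_of_mul_eq {m n : ℕ} (hm : 1 < m) (hn : 1 < n) (h : m * (m ^ 2 - 1) = n * (n ^ 2 - 1)) :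
    m = n := by
  have key : ∀ {a b : ℕ}, 1 < a → a < b → a * (a ^ 2 - 1) < b * (b ^ 2 - 1) := by
    intro a b ha hab
    have h1 : a ^ 2 - 1 ≤ b ^ 2 - 1 := Nat.sub_le_sub_right (Nat.pow_le_pow_left hab.le 2) 1
    have h2 : 0 < b ^ 2 - 1 := by
      have : 2 ^ 2 ≤ b ^ 2 := Nat.pow_le_pow_left (by omega) 2
      omega
    calc a * (a ^ 2 - 1) ≤ a * (b ^ 2 - 1) := Nat.mul_le_mul_left _ h1
      _ < b * (b ^ 2 - 1) := Nat.mul_lt_mul_of_pos_right hab h2
  rcases lt_trichotomy m n with h1 | h1 | h1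
  · exact absurd h (key hm h1).ne
  · exact h1
  · exact absurd h.symm (key hn h1).ne

/-- a perfect subnormal group `E` of fixed points of an involution of field type with `E / O ≅ PSL(2,F₀)` -/
theorem card_of_subnormal {α : MulAut L} (hα : α * α = 1) (hf : R.fld α ≠ 1) {J : Type*} [Group J]
    [Finite J] (g : J →* L) (hE : g.range ≤ GH.L2Aut.fixSub α)
    (hp : ⁅(⊤ : Subgroup J), (⊤ : Subgroup J)⁆ = ⊤) {O : Subgroup J} [hOn : O.Normal]
    (hO : Odd (Nat.card O)) {F₀ : Type*} [Field F₀] [Finite F₀] (R₀ : GH.L2Aut.Rep F₀ (J ⧸ O))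
    (hk : g.ker ≤ O) (hs : (g.range.subgroupOf (GH.L2Aut.fixSub α)).IsSubnormal) :
    Nat.card F = Nat.card F₀ ^ 2 := by
  have hfin : Finite L := R.finite
  have hq5 : 5 ≤ Nat.card F₀ := by
    apply five_le_of_perfect R₀
    have h1 := congrArg (Subgroup.map (QuotientGroup.mk' O)) hp
    rw [Subgroup.map_commutator, Subgroup.map_top_of_surjective _ (QuotientGroup.mk'_surjective O)] at h1
    exact h1
  have hcJ : Nat.card (J ⧸ O) * 2 = Nat.card F₀ * (Nat.card F₀ ^ 2 - 1) := R₀.card_mul_two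
  have h60 : 60 ≤ O.index := by
    have h1 : 5 * (5 ^ 2 - 1) ≤ Nat.card F₀ * (Nat.card F₀ ^ 2 - 1) :=
      Nat.mul_le_mul hq5 (Nat.sub_le_sub_right (Nat.pow_le_pow_left hq5 2) 1)
    have h2 : O.index = Nat.card (J ⧸ O) := rfl
    omega
  have hcE : 60 ≤ Nat.card g.range := by
    have h5 := Subgroup.index_dvd_of_le hk
    rw [Subgroup.index_ker] at h5
    exact h60.trans (Nat.le_of_dvd Nat.card_pos h5)
  have hEp : ⁅g.range, g.range⁆ = g.range := by
    rw [MonoidHom.range_eq_map, ← Subgroup.map_commutator, hp]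
  have h9 : 9 < Nat.card F := by
    by_contra h9
    refine GH.A7.InstL2.no_perfect R (by omega) (α := α) ?_ hα hEp (by omega) (fun x hx => hE hx)
    rintro rfl
    exact hf (map_one _)
  obtain ⟨N, hN⟩ := Facts.exists_fd R h9 hα hf
  obtain ⟨E, R₁, hcard, -⟩ := hN.rep
  have he3 : 3 < Nat.card E := by
    by_contra h
    have h1 : Nat.card E ^ 2 ≤ 3 ^ 2 := Nat.pow_le_pow_left (by omega) 2
    omega
  have hNs : IsSimpleGroup N := OddHalf.D6.SubFix.isSimple R₁ he3
  have hEN : g.range ≤ N := hN.max _ (fun x hx => hE hx) hEp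
  have hNf : N ≤ GH.L2Aut.fixSub α := fun x hx => hN.le x hx
  have h1 : (g.range.subgroupOf N).IsSubnormal := by
    have h2 := hs.comap (Subgroup.inclusion hNf)
    rw [Subgroup.subgroupOf, Subgroup.comap_comap] at h2
    exact h2
  have hNE : g.range = N := by
    rcases h1.eq_bot_or_top_of_isSimpleGroup hNs with h2 | h2
    · exfalso
      rw [Subgroup.subgroupOf_eq_bot, disjoint_iff, inf_of_le_left hEN] at h2
      rw [h2, Subgroup.card_bot] at hcE
      omega
    · exact le_antisymm hEN (Subgroup.subgroupOf_eq_top.mp h2)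
  have hEs : IsSimpleGroup g.range := by rw [hNE]; exact hNs
  have hOn' : (O.map g.rangeRestrict).Normal := hOn.map _ g.rangeRestrict_surjective
  have hidx : (O.map g.rangeRestrict).index = O.index :=
    Subgroup.index_map_eq _ g.rangeRestrict_surjective (by rw [MonoidHom.ker_rangeRestrict]; exact hk)
  have hO1 : O.map g.rangeRestrict = ⊥ := by
    rcases hOn'.eq_bot_or_eq_top with h2 | h2
    · exact h2
    · exfalso
      rw [h2, Subgroup.index_top] at hidx
      omega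
  have hcN : Nat.card N = Nat.card (J ⧸ O) := by
    rw [hO1, Subgroup.index_bot] at hidx
    rw [← hNE]; exact hidx
  have h4 := R₁.card_mul_two
  rw [hcN, hcJ] at h4
  have h5 : Nat.card F₀ = Nat.card E := eq_of_mul_eq (by omega) (by omega) h4
  rw [hcard, h5]

end aut

variable {G : Type u} [Group G] [Finite G]

/-- `|F| = q0 ^ 2` -/
theorem card_of_comp {K M : Subgroup G} {a : G} (haa : a * a = 1) (ha : a ∈ normalizer (K : Set G))
    (hM : IsComp (K ⊓ centralizer ({a} : Set G)) M) {q0 : ℕ} (hq : L2q q0 M) {F : Type} [Field F]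
    [Finite F] (R : GH.L2Aut.Rep F (↥K ⧸ oddCore ↥K)) (hf : R.fld (act K ⟨a, ha⟩) ≠ 1) :
    Nat.card F = q0 ^ 2 := by
  obtain ⟨F₀, _, _, rfl, ⟨R₀⟩⟩ := hq
  have hMK : M ≤ K := hM.le.trans inf_le_left
  have hMa : ∀ y ∈ M, y * a = a * y := fun y hy => comm_c (hM.le hy).2
  have hα2 := Pair.act_sq ha haa
  obtain ⟨π, hπ⟩ : ∃ π : ↥K →* (↥K ⧸ oddCore ↥K), π = QuotientGroup.mk' (oddCore ↥K) := ⟨_, rfl⟩
  have hπ1 : ∀ (y : G) (hy : y ∈ K), π ⟨y, hy⟩ = QuotientGroup.mk ⟨y, hy⟩ := by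
    intro y hy; rw [hπ]; rfl
  obtain ⟨g, hg⟩ : ∃ g : ↥M →* (↥K ⧸ oddCore ↥K), g = π.comp (Subgroup.inclusion hMK) := ⟨_, rfl⟩
  have hg1 : ∀ z : ↥M, g z = QuotientGroup.mk ⟨z, hMK z.2⟩ := by
    intro z; rw [hg, ← hπ1]; rfl
  have hgf : g.range ≤ GH.L2Aut.fixSub (act K ⟨a, ha⟩) := by
    rintro _ ⟨z, rfl⟩
    change act K ⟨a, ha⟩ (g z) = g z
    rw [hg1, act_mk ha (hMK z.2)]
    congr 1
    exact Subtype.ext (by change a * z * a⁻¹ = z; rw [← hMa z z.2]; group)
  have hper : ⁅(⊤ : Subgroup ↥M), (⊤ : Subgroup ↥M)⁆ = ⊤ := by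
    apply Subgroup.map_injective M.subtype_injective
    rw [Subgroup.map_commutator, ← MonoidHom.range_eq_map, Subgroup.range_subtype]
    exact hM.perfect
  have hker : g.ker ≤ oddCore ↥M := by
    intro z hz
    rw [MonoidHom.mem_ker, hg1, mk_eq_one_iff] at hz
    have h1 : (z : G) ∈ core M := by
      have h2 : M ⊓ core K ≤ core M := by
        refine le_core inf_le_left ?_ (Odd.of_dvd_nat (odd_card_core K) (card_dvd_of_le inf_le_right))
        intro j hj
        rw [mem_normalizer_iff_cj, cj_inf, cj_eq_self_of_mem hj,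
          mem_normalizer_iff_cj.mp (le_normalizer_core K (hMK hj))]
      exact h2 ⟨z.2, hz⟩
    exact (mem_core_iff z.2).mp h1
  have hodd' : Odd (Nat.card (oddCore ↥M)) := by
    have := odd_card_core M
    rwa [core, Subgroup.card_map_of_injective M.subtype_injective] at this
  refine card_of_subnormal R hα2 hf g hgf hper hodd' R₀ hker ?_
  -- subnormality
  obtain ⟨f, hf1⟩ : ∃ f : ↥(K ⊓ centralizer ({a} : Set G)) →* ↥(GH.L2Aut.fixSub (act K ⟨a, ha⟩)),
      ∀ z, ((f z : ↥(GH.L2Aut.fixSub (act K ⟨a, ha⟩))) : ↥K ⧸ oddCore ↥K) =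
        QuotientGroup.mk ⟨z, z.2.1⟩ := by
    refine ⟨(π.comp (Subgroup.inclusion inf_le_left)).codRestrict _ ?_, fun z => ?_⟩
    · intro z
      change act K ⟨a, ha⟩ (π ⟨z, z.2.1⟩) = π ⟨z, z.2.1⟩
      rw [hπ1, act_mk ha z.2.1]
      congr 1
      exact Subtype.ext (by change a * z * a⁻¹ = z; rw [← comm_c z.2.2]; group)
    · rw [← hπ1]; rfl
  have hfs : Function.Surjective f := by
    rintro ⟨z, hz⟩
    obtain ⟨⟨n, hn⟩, rfl⟩ := QuotientGroup.mk_surjective z
    have hz' : act K ⟨a, ha⟩ (QuotientGroup.mk ⟨n, hn⟩) = QuotientGroup.mk ⟨n, hn⟩ := hz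
    rw [act_mk ha hn, eq_comm, mk_eq_iff] at hz'
    obtain ⟨o, ho, hco⟩ := Intrinsic.Lifting.exists_commute (n := 1) (odd_card_core K)
      (by rw [pow_one, pow_two, haa]) (normalizer_le_normalizer_core K ha) hz'
    refine ⟨⟨n * o, mul_mem hn (core_le K ho), mem_c hco.symm⟩, Subtype.ext ?_⟩
    rw [hf1]
    refine (mk_eq_iff (mul_mem hn (core_le K ho)) hn).mpr ?_
    rw [mul_inv_rev, inv_mul_cancel_right]
    exact inv_mem ho
  have h5 : (M.subgroupOf (K ⊓ centralizer ({a} : Set G))).IsSubnormal := hM.2.1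
  have h6 := h5.map hfs
  convert h6 using 1
  ext z
  constructor
  · rintro ⟨w, hw⟩
    refine ⟨⟨w, hM.le w.2⟩, w.2, Subtype.ext ?_⟩
    rw [hf1]
    rw [hg1] at hw
    exact hw
  · rintro ⟨w, hw, rfl⟩
    refine ⟨⟨w, hw⟩, ?_⟩
    rw [hg1]
    exact (hf1 w).symm

/-- the involution of a triple commuting with `a` of field type is inner -/
theorem inner_of {x a y : G} {K : Subgroup G} (T : IsTriple x y K) (haa : a * a = 1)
    (hxa : x * a = a * x) {F : Type} [Field F] [Finite F] (R : GH.L2Aut.Rep F (↥K ⧸ oddCore ↥K))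
    (ha : FieldType K R a) : IsInner x K := by
  obtain ⟨haK, hf⟩ := ha
  have hxK := T.x_mem
  have h1 := WBTriple.mem_PGL T R
  have h2 : act K ⟨x, hxK⟩ * act K ⟨a, haK⟩ = act K ⟨a, haK⟩ * act K ⟨x, hxK⟩ := by
    rw [← act_mul hxK haK, ← act_mul haK hxK]
    exact act_congr _ hxa
  have h3 := R.o1_of_comm (Pair.act_sq haK haa) hf h2
  obtain ⟨l, hl⟩ := R.mem_inn_iff.mpr ⟨R.mem_PGL_iff_fld.mp h1, h3⟩
  obtain ⟨⟨k, hk⟩, rfl⟩ := QuotientGroup.mk_surjective l
  refine ⟨k, hk, ?_⟩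
  have h4 : x * k⁻¹ ∈ normalizer (K : Set G) := mul_mem hxK (inv_mem (le_normalizer hk))
  rw [← act_eq_one_iff h4]
  have h5 : (⟨x * k⁻¹, h4⟩ : ↥(normalizer (K : Set G))) = ⟨x, hxK⟩ * (⟨k, le_normalizer hk⟩)⁻¹ := rfl
  rw [h5, map_mul, map_inv, act_of_mem hk, ← hl, mul_inv_cancel]

end Cfsg.Agent.UGT.Q2
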