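import Cfsg.Agent.UGT.Q2.Types3
import Cfsg.Agent.UGT.Q2.FBad

/-!
# THEOREM Q2 (#13005): the plug of (F) into the types

`types_badHyp` : `BadHyp G` for every finite group (the same as `badHyp` of `DD.lean`); `types'` : without (F).
-/

set_option autoImplicit false

open Cfsg Subgroup
open Cfsg.Agent.UGT.Triple Cfsg.Agent.UGT.TriBase Cfsg.Agent.UGT.Iface

namespace Cfsg.Agent.UGT.Q2

universe u

/-- **(F)** -/
theorem types_badHyp (G : Type u) [Group G] [Finite G] : BadHyp G := by
  intro a b z c u L M F i1 i2 R T hb hcc hca hft hM hz hzz hz1 hu huu huc huM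
  exact bad_or T hb hcc hca hft hM hz hzz hz1 hu huu huc huM

variable {G : Type u} [Group G] [Finite G]

/-- `TypesHyp` from `World` alone. -/
theorem types' (W : World G) (q : ℕ) : TypesHyp G q := types (types_badHyp G) W q

end Cfsg.Agent.UGT.Q2
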